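/-
Project U5 (saturated fusion systems over a Sylow `p`-subgroup of `PSU₅(q)`): critical subgroups and rank one data.
-/
import Cfsg.Agent.Fus.FratChain

set_option autoImplicit false
set_option linter.unusedSectionVars false

namespace CL.U5

open Cfsg CL.Fus
open scoped commutatorElement

universe u

section Gen

variable {U : Type*} [Group U]

/-- `X ≤ E` is invariant under the maps in `M` -/
def Inv (E : Subgroup U) (M : (U → U) → Prop) (X : Subgroup U) : Prop := X ≤ E ∧ ∀ f, M f → ∀ x ∈ X, f x ∈ X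

/-- `x` acts trivially on the factors of a chain of invariant subgroups from `X` down to `1` -/
inductive Triv (E : Subgroup U) (M : (U → U) → Prop) (x : U) : Subgroup U → Prop
  | bot : Triv E M x ⊥
  | step {X Y : Subgroup U} : Triv E M x Y → Inv E M X → (∀ e ∈ X, ⁅e, x⁆ ∈ Y) → Triv E M x X

/-- `x` normalises `E` -/
def Nm (E : Subgroup U) (x : U) : Prop := ∀ e ∈ E, ⁅e, x⁆ ∈ E

/-- conjugation -/
def cj (x : U) : U → U := fun e => x * e * x⁻¹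

theorem cj_apply (x e : U) : cj x e = x * e * x⁻¹ := rfl
theorem cj_eq (x e : U) : cj x e = ⁅e, x⁆⁻¹ * e := by simp only [cj, commutatorElement_def]; group

/-- What an essential subgroup `E` of `U` with automizer `M` satisfies; `B` is the strongly `p`-embedded part. -/
structure Crit (E : Subgroup U) (M B : (U → U) → Prop) : Prop where
  ne : E ≠ ⊤
  mem : ∀ {f}, M f → ∀ x ∈ E, f x ∈ E
  mul : ∀ {f}, M f → ∀ x ∈ E, ∀ y ∈ E, f (x * y) = f x * f y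
  inv : ∀ {f}, M f → ∃ g, M g ∧ ∀ x ∈ E, g (f x) = x ∧ f (g x) = x
  comp : ∀ {f g}, M f → M g → M (f ∘ g)
  id : M id
  conj : ∀ {x}, Nm E x → M (cj x)
  cen : ∀ x, (∀ e ∈ E, Commute x e) → x ∈ E
  chain : ∀ x, Nm E x → Triv E M x E → x ∈ E
  grow : ∀ N : Subgroup U, N.Normal → (∀ x ∈ N, Nm E x → x ∈ E) → N ≤ E
  out : ∃ f, M f ∧ ¬ B f
  outInv : ∀ {f g}, M f → ¬ B f → M g → (∀ x ∈ E, g (f x) = x) → ¬ B g
  outComp : ∀ {f g}, M f → ¬ B f → M g → B g → ¬ B (f ∘ g)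
  far : ∀ {f g x}, M f → ¬ B f → M g → (∀ y ∈ E, g (f y) = y) → Nm E x → x ∉ E → ¬ B (g ∘ cj x ∘ f)
  pair : ∀ {f x y} {N : Subgroup U}, M f → ¬ B f → Nm E x → x ∉ E → Nm E y → y ∉ E → Inv E M N →
    (∀ n ∈ N, ⁅n, x⁆ = 1) → (∀ e ∈ E, ⁅⁅e, x⁆, x⁆ ∈ N) → (∀ e ∈ E, ⁅f ⁅e, y⁆, x⁆ ∈ N) → False

/-- the invariant closure -/
def cl (M : (U → U) → Prop) (X : Subgroup U) : Subgroup U := Subgroup.closure {y | ∃ f, M f ∧ ∃ x ∈ X, f x = y}

/-- the subgroup generated by the involutions of `X` -/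
def Om (X : Subgroup U) : Subgroup U := Subgroup.closure {y | y ∈ X ∧ y * y = 1}

/-- the elements of `Y` centralizing `X` -/
def cz (Y X : Subgroup U) : Subgroup U := Y ⊓ Subgroup.centralizer (X : Set U)

theorem mem_cz {Y X : Subgroup U} {y : U} : y ∈ cz Y X ↔ y ∈ Y ∧ ∀ x ∈ X, x * y = y * x := Iff.rfl

/-- the elements of `Y` centralizing `X` modulo the normal subgroup `W` -/
def czm (Y X W : Subgroup U) [W.Normal] : Subgroup U :=
  Y ⊓ (Subgroup.centralizer (X.map (QuotientGroup.mk' W) : Set (U ⧸ W))).comap (QuotientGroup.mk' W)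

theorem mk_comm_iff {W : Subgroup U} [W.Normal] {x y : U} :
    ⁅x, y⁆ ∈ W ↔ (x : U ⧸ W) * y = y * x := by
  rw [← QuotientGroup.eq_one_iff, ← commutatorElement_eq_one_iff_mul_comm]; rfl

theorem mem_czm {Y X W : Subgroup U} [W.Normal] {y : U} : y ∈ czm Y X W ↔ y ∈ Y ∧ ∀ x ∈ X, ⁅x, y⁆ ∈ W := by
  refine and_congr_right fun _ => ⟨fun h x hx => mk_comm_iff.2 (h _ ⟨x, hx, rfl⟩), fun h => ?_⟩
  rintro _ ⟨x, hx, rfl⟩
  exact mk_comm_iff.1 (h x hx)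

theorem comm_symm {W : Subgroup U} {x y : U} (h : ⁅x, y⁆ ∈ W) : ⁅y, x⁆ ∈ W := by
  rw [← commutatorElement_inv]; exact inv_mem h

theorem Om_le_of {X Y : Subgroup U} (h : ∀ y ∈ X, y * y = 1 → y ∈ Y) : Om X ≤ Y :=
  (Subgroup.closure_le _).2 fun y hy => h y hy.1 hy.2

theorem mem_Om {X : Subgroup U} {y : U} (hy : y ∈ X) (h : y * y = 1) : y ∈ Om X := Subgroup.subset_closure ⟨hy, h⟩

theorem cl_le_of {M : (U → U) → Prop} {X Y : Subgroup U} (h : ∀ f, M f → ∀ x ∈ X, f x ∈ Y) : cl M X ≤ Y :=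
  (Subgroup.closure_le _).2 (by rintro _ ⟨f, hf, x, hx, rfl⟩; exact h f hf x hx)

theorem mem_cl {M : (U → U) → Prop} {X : Subgroup U} {f : U → U} (hf : M f) {x : U} (hx : x ∈ X) : f x ∈ cl M X :=
  Subgroup.subset_closure ⟨f, hf, x, hx, rfl⟩

namespace Crit

variable {E : Subgroup U} {M B : (U → U) → Prop} (h : Crit E M B) {f : U → U} {X Y W : Subgroup U}
include h

theorem map_one (hf : M f) : f 1 = 1 := by
  have := h.mul hf 1 (one_mem _) 1 (one_mem _)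
  rw [mul_one] at this
  exact mul_eq_left.1 this.symm

theorem map_inv (hf : M f) {x : U} (hx : x ∈ E) : f x⁻¹ = (f x)⁻¹ :=
  eq_inv_of_mul_eq_one_left (by rw [← h.mul hf _ (inv_mem hx) _ hx, inv_mul_cancel, h.map_one hf])

theorem map_comm (hf : M f) {x y : U} (hx : x ∈ E) (hy : y ∈ E) : f ⁅x, y⁆ = ⁅f x, f y⁆ := by
  rw [commutatorElement_def, commutatorElement_def, h.mul hf _ (mul_mem (mul_mem hx hy) (inv_mem hx)) _ (inv_mem hy),
    h.mul hf _ (mul_mem hx hy) _ (inv_mem hx), h.mul hf _ hx _ hy, h.map_inv hf hx, h.map_inv hf hy]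

theorem map_sq (hf : M f) {x : U} (hx : x ∈ E) (h2 : x * x = 1) : f x * f x = 1 := by
  rw [← h.mul hf _ hx _ hx, h2, h.map_one hf]

theorem inj (hf : M f) {x y : U} (hx : x ∈ E) (hy : y ∈ E) (e : f x = f y) : x = y := by
  obtain ⟨g, -, hg⟩ := h.inv hf
  rw [← (hg x hx).1, e, (hg y hy).1]

theorem surj (hf : M f) {y : U} (hy : y ∈ E) : ∃ x ∈ E, f x = y := by
  obtain ⟨g, hg, hg'⟩ := h.inv hf
  exact ⟨g y, h.mem hg y hy, (hg' y hy).2⟩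

/-- invariance is checked on generators -/
theorem inv_closure {s : Set U} (hs : s ⊆ E) (hi : ∀ f, M f → ∀ x ∈ s, f x ∈ Subgroup.closure s) :
    Inv E M (Subgroup.closure s) := by
  have hE := (Subgroup.closure_le E).2 hs
  refine ⟨hE, fun f hf x hx => ?_⟩
  induction hx using Subgroup.closure_induction with
  | mem x hx => exact hi f hf x hx
  | one => rw [h.map_one hf]; exact one_mem _
  | mul x y hx hy h1 h2 => rw [h.mul hf _ (hE hx) _ (hE hy)]; exact mul_mem h1 h2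
  | inv x hx h1 => rw [h.map_inv hf (hE hx)]; exact inv_mem h1

theorem inv_top : Inv E M E := ⟨le_rfl, fun _ hf => h.mem hf⟩

theorem inv_bot : Inv E M ⊥ := ⟨bot_le, fun _ hf x hx => by rw [Subgroup.mem_bot.1 hx, h.map_one hf]; exact one_mem _⟩

theorem le_cl : X ≤ cl M X := fun _ hx => mem_cl h.id hx

theorem inv_cl (hX : X ≤ E) : Inv E M (cl M X) :=
  h.inv_closure (by rintro _ ⟨f, hf, x, hx, rfl⟩; exact h.mem hf x (hX hx))
    (by rintro g hg _ ⟨f, hf, x, hx, rfl⟩; exact mem_cl (h.comp hg hf) hx)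

theorem inv_Om (hX : Inv E M X) : Inv E M (Om X) :=
  h.inv_closure (fun _ hy => hX.1 hy.1) fun f hf x hx => mem_Om (hX.2 f hf x hx.1) (h.map_sq hf (hX.1 hx.1) hx.2)

/-- commutators of images -/
theorem comm_map (hf : M f) (hY : Inv E M Y) (hW : Inv E M W) {x : U} (hx : x ∈ E) (hc : ∀ y ∈ Y, ⁅y, x⁆ ∈ W) :
    ∀ y ∈ Y, ⁅y, f x⁆ ∈ W := fun y hy => by
  obtain ⟨g, hg, hg'⟩ := h.inv hf
  rw [← (hg' y (hY.1 hy)).2, ← h.map_comm hf (h.mem hg y (hY.1 hy)) hx]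
  exact hW.2 f hf _ (hc _ (hY.2 g hg y hy))

theorem inv_cz (hY : Inv E M Y) (hX : Inv E M X) : Inv E M (cz Y X) :=
  ⟨inf_le_left.trans hY.1, fun f hf y hy => mem_cz.2 ⟨hY.2 f hf y hy.1, fun x hx =>
    commutatorElement_eq_one_iff_mul_comm.1 (Subgroup.mem_bot.1 (h.comm_map hf hX h.inv_bot (hY.1 hy.1)
      (fun x hx => Subgroup.mem_bot.2 (commutatorElement_eq_one_iff_mul_comm.2 (hy.2 x hx))) x hx))⟩⟩

theorem inv_czm [W.Normal] (hY : Inv E M Y) (hX : Inv E M X) (hW : Inv E M W) : Inv E M (czm Y X W) :=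
  ⟨inf_le_left.trans hY.1, fun f hf y hy => mem_czm.2 ⟨hY.2 f hf y hy.1,
    h.comm_map hf hX hW (hY.1 hy.1) (mem_czm.1 hy).2⟩⟩

omit h in
theorem inv_inf (hX : Inv E M X) (hY : Inv E M Y) : Inv E M (X ⊓ Y) :=
  ⟨inf_le_left.trans hX.1, fun f hf x hx => ⟨hX.2 f hf x hx.1, hY.2 f hf x hx.2⟩⟩

theorem inv_sup (hX : Inv E M X) (hY : Inv E M Y) : Inv E M (X ⊔ Y) := by
  rw [Subgroup.sup_eq_closure]
  refine h.inv_closure (Set.union_subset hX.1 hY.1) fun f hf x hx => Subgroup.subset_closure ?_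
  exact hx.elim (fun hx => .inl (hX.2 f hf x hx)) fun hx => .inr (hY.2 f hf x hx)

theorem inv_comm (hX : Inv E M X) (hY : Inv E M Y) : Inv E M ⁅X, Y⁆ := by
  rw [Subgroup.commutator_def]
  refine h.inv_closure ?_ ?_
  · rintro _ ⟨x, hx, y, hy, rfl⟩
    exact mul_mem (mul_mem (mul_mem (hX.1 hx) (hY.1 hy)) (inv_mem (hX.1 hx))) (inv_mem (hY.1 hy))
  · rintro f hf _ ⟨x, hx, y, hy, rfl⟩
    exact Subgroup.subset_closure ⟨_, hX.2 f hf x hx, _, hY.2 f hf y hy, (h.map_comm hf (hX.1 hx) (hY.1 hy)).symm⟩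

/-- the two step chain `E ≥ X ≥ 1` -/
theorem mem1 {x : U} (hX : Inv E M X) (h1 : ∀ e ∈ E, ⁅e, x⁆ ∈ X) (h2 : ∀ e ∈ X, ⁅e, x⁆ = 1) : x ∈ E :=
  h.chain x (fun e he => hX.1 (h1 e he)) (.step (.step .bot hX h2) h.inv_top h1)

/-- the chain `E ≥ X ≥ Y ≥ 1` -/
theorem mem2 {x : U} (hX : Inv E M X) (hY : Inv E M Y) (h1 : ∀ e ∈ E, ⁅e, x⁆ ∈ X) (h2 : ∀ e ∈ X, ⁅e, x⁆ ∈ Y)
    (h3 : ∀ e ∈ Y, ⁅e, x⁆ = 1) : x ∈ E :=
  h.chain x (fun e he => hX.1 (h1 e he)) (.step (.step (.step .bot hY h3) hX h2) h.inv_top h1)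

/-- the chain `E ≥ X ≥ Y ≥ W ≥ 1` -/
theorem mem3 {x : U} (hX : Inv E M X) (hY : Inv E M Y) (hW : Inv E M W) (h1 : ∀ e ∈ E, ⁅e, x⁆ ∈ X)
    (h2 : ∀ e ∈ X, ⁅e, x⁆ ∈ Y) (h3 : ∀ e ∈ Y, ⁅e, x⁆ ∈ W) (h4 : ∀ e ∈ W, ⁅e, x⁆ = 1) : x ∈ E :=
  h.chain x (fun e he => hX.1 (h1 e he)) (.step (.step (.step (.step .bot hW h4) hY h3) hX h2) h.inv_top h1)

/-- invariance is checked on the maps outside `B` -/
theorem inv_of_out (hX : X ≤ E) (k : ∀ f, M f → ¬ B f → ∀ x ∈ X, f x ∈ X) : Inv E M X := by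
  refine ⟨hX, fun g hg x hx => ?_⟩
  by_cases b : B g
  · obtain ⟨f, hf, nf⟩ := h.out
    obtain ⟨f', hf', e⟩ := h.inv hf
    rw [← (e _ (h.mem hg x (hX hx))).1]
    exact k f' hf' (h.outInv hf nf hf' fun x hx => (e x hx).1) _ (k _ (h.comp hf hg) (h.outComp hf nf hg b) x hx)
  · exact k g hg b x hx

/-- a map outside `B` with its inverse -/
theorem exists_out : ∃ f g, M f ∧ ¬ B f ∧ M g ∧ ¬ B g ∧ ∀ x ∈ E, g (f x) = x ∧ f (g x) = x := by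
  obtain ⟨f, hf, nf⟩ := h.out
  obtain ⟨g, hg, e⟩ := h.inv hf
  exact ⟨f, g, hf, nf, hg, h.outInv hf nf hg fun x hx => (e x hx).1, e⟩

end Crit

/-- `a` is the restriction of `α` -/
def Res {Q : Subgroup U} (α : MulAut U) (a : MulAut Q) : Prop := ∀ x : Q, (a x : U) = α x

/-- The automizers `A0` of `U` and `A` of an essential normal subgroup `Q`. -/
structure Rk1 (p : ℕ) (Q : Subgroup U) (A0 : Subgroup (MulAut U)) (A : Subgroup (MulAut Q)) : Prop where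
  inn : ∀ s, MulAut.conj s ∈ A0
  res : ∀ α ∈ A0, ∃ a ∈ A, Res α a
  syl : SylIn p (autInducedBy ⊤ Q) A
  ext : ∀ a ∈ A, a ∈ Subgroup.normalizer (autInducedBy ⊤ Q : Set (MulAut Q)) → ∃ α ∈ A0, Res α a
  ne : ∃ a ∈ A, ¬ ∃ α ∈ A0, Res α a

/-- the automorphisms of the whole group in a fusion system -/
def aut0 (F : FusionSystem (⊤ : Subgroup U)) : Subgroup (MulAut U) where
  carrier := {α | Mor F ⊤ α}
  one_mem' := mor_id F le_rfl
  mul_mem' := fun h1 h2 => Mor.comp h2 h1 fun _ _ => trivial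
  inv_mem' := fun {α} h => by
    have := Mor.inv (g := α.symm) h fun x _ => α.symm_apply_apply x
    exact this.mono fun y _ => α.apply_symm_apply y ▸ mem_img_of_mem α (Subgroup.mem_top _)

theorem mem_aut0 {F : FusionSystem (⊤ : Subgroup U)} {α : MulAut U} : α ∈ aut0 F ↔ Mor F ⊤ α := Iff.rfl

theorem exists_res {Q : Subgroup U} (β : MulAut U) (hQ : ∀ x, β x ∈ Q ↔ x ∈ Q) : ∃ b : MulAut Q, Res β b :=
  ⟨{ toFun := fun x => ⟨β x, (hQ x).2 x.2⟩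
     invFun := fun x => ⟨β.symm x, (hQ _).1 (by simp)⟩
     left_inv := fun x => by simp
     right_inv := fun x => by simp
     map_mul' := fun x y => by simp }, fun _ => rfl⟩

variable {Q : Subgroup U}

theorem Res.eq {α : MulAut U} {a b : MulAut Q} (ha : Res α a) (hb : Res α b) : a = b :=
  MulEquiv.ext fun x => Subtype.ext ((ha x).trans (hb x).symm)

theorem Res.mul {α β : MulAut U} {a b : MulAut Q} (ha : Res α a) (hb : Res β b) : Res (α * β) (a * b) := fun x =>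
  (ha (b x)).trans (congrArg α (hb x))

theorem Res.inv {α : MulAut U} {a : MulAut Q} (ha : Res α a) : Res α⁻¹ a⁻¹ := fun x =>
  α.injective (by rw [← ha, MulAut.apply_inv_self, MulAut.apply_inv_self])

variable [Q.Normal]

theorem res_conj (s : U) : Res (MulAut.conj s) (MulAut.conjNormal s : MulAut Q) := fun _ => rfl

theorem mem_T {a : MulAut Q} : a ∈ autInducedBy ⊤ Q ↔ ∃ s, a = MulAut.conjNormal s := by
  refine ⟨fun h => ?_, by rintro ⟨s, rfl⟩; exact Subgroup.subset_closure ⟨s, trivial, fun _ => rfl⟩⟩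
  refine (Subgroup.closure_le (MulAut.conjNormal : U →* MulAut Q).range).2 ?_ h |>.imp fun _ e => e.symm
  rintro a ⟨s, -, hs⟩
  exact ⟨s, MulEquiv.ext fun x => Subtype.ext (hs x).symm⟩

theorem mem_I {a : MulAut Q} : a ∈ Inn Q ↔ ∃ s ∈ Q, a = MulAut.conjNormal s := by
  rw [mem_Inn_iff]
  refine exists_congr fun s => and_congr_right fun _ => ⟨fun h => MulEquiv.ext fun x => Subtype.ext ?_, ?_⟩
  · rw [← autFun_coe, h x x.2]; rfl
  · rintro rfl x hx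
    exact autFun_coe _ ⟨x, hx⟩

theorem conj_conjNormal {α : MulAut U} {a : MulAut Q} (h : Res α a) (s : U) :
    a * MulAut.conjNormal s * a⁻¹ = MulAut.conjNormal (α s) :=
  ((h.mul (res_conj s)).mul h.inv).eq fun x => by simp

end Gen

/-! ### the general parts -/

/-- transvection groups in different points (additive form) -/
def TV0 : Prop := ∀ (V : Type u) [AddCommGroup V] [Finite V] (I : Type u) (P : Set (V ≃+ V)) (A : I → Set (V ≃+ V))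
  (Zc H : I → AddSubgroup V), (∀ f ∈ P, f.symm ∈ P) →
  (∀ f ∈ P, ∀ i, ∀ a ∈ A i, (∃ v, a v ≠ v) → (f.trans a).trans f.symm ∈ P) → (∀ i, ∀ a ∈ A i, a.symm ∈ A i) →
  (∀ i, Zc i ≤ H i) → (∀ i, ∀ a ∈ A i, ∀ v, a v - v ∈ Zc i) → (∀ i, ∀ a ∈ A i, ∀ v ∈ H i, a v = v) →
  (∀ i w, w ∉ H i → ∀ z ∈ Zc i, ∃ a ∈ A i, a w = w + z) →
  (∀ i, ∀ a ∈ A i, (∃ v, a v ≠ v) → ∀ v, a v = v → v ∈ H i) → (∀ i j, Nat.card (Zc i) = Nat.card (Zc j)) →
  (∀ f ∈ P, ∀ i j, ∃ z ∈ Zc i, f z ∉ H j) →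
  ∀ f ∈ P, ∀ i j, (∀ z ∈ Zc i, f z ∈ H j → z = 0) ∧ ∀ v, ∃ z ∈ Zc i, f z - v ∈ H j

/-- transvection groups in different points -/
def TV : Prop := ∀ (U : Type u) [Group U] [Finite U] (E : Subgroup U) (M B : (U → U) → Prop), Crit E M B →
  ∀ (N V : Subgroup U) (I : Type u) (A Zc H : I → Subgroup U), Inv E M N → (∀ n ∈ N, ∀ x : U, ⁅n, x⁆ = 1) → Inv E M V →
  (∀ v ∈ V, ∀ e ∈ E, ⁅e, v⁆ ∈ N) → (∀ i, N ≤ Zc i ∧ Zc i ≤ V ∧ Zc i ≤ H i) →
  (∀ i, ∀ a ∈ A i, ∀ e ∈ E, ⁅e, a⁆ ∈ Zc i) → (∀ i, ∀ a ∈ A i, ∀ v ∈ V, v ∈ H i → ⁅v, a⁆ ∈ N) →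
  (∀ i, ∀ w ∈ V, w ∉ H i → ∀ z ∈ Zc i, ∃ a ∈ A i, ⁅w, a⁆⁻¹ * z ∈ N) →
  (∀ i, ∀ a ∈ A i, a ∉ E → ∀ v ∈ V, ⁅v, a⁆ ∈ N → v ∈ H i) → (∀ i, ∃ a ∈ A i, a ∉ E) →
  (∀ i j, Nat.card (Zc i) = Nat.card (Zc j)) →
  ∀ f, M f → ¬ B f → ∀ i j, (∀ z ∈ Zc i, f z ∈ H j → z ∈ N) ∧ ∀ v ∈ V, ∃ z ∈ Zc i, v⁻¹ * f z ∈ H j

/-- essential subgroups are critical -/
def CRI : Prop := ∀ (U : Type u) [Group U] [Finite U] (p : ℕ) [Fact p.Prime], IsPGroup p U →
  ∀ F : FusionSystem (⊤ : Subgroup U), F.IsSaturated p → ∀ E, F.IsEssential p E →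
  ∃ B, Crit E (fun f => Mor F E f ∧ img f E = E) B

/-- the automizer of an essential normal subgroup -/
def RK : Prop := ∀ (U : Type u) [Group U] [Finite U] (p : ℕ) [Fact p.Prime], IsPGroup p U →
  ∀ F : FusionSystem (⊤ : Subgroup U), F.IsSaturated p → ∀ (E : Subgroup U) [E.Normal], F.IsEssential p E →
  (∀ α ∈ aut0 F, ∀ x, α x ∈ E ↔ x ∈ E) → Rk1 p E (aut0 F) (F.autGroup E)

/-- passage to a quotient action with a `p`-group as kernel -/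
def KER : Prop := ∀ (U : Type u) [Group U] [Finite U] (p : ℕ) [Fact p.Prime] (Q : Subgroup U) [Q.Normal]
  (A0 : Subgroup (MulAut U)) (A : Subgroup (MulAut Q)) (X : Type u) [Group X] (ρ : MulAut Q →* X), Rk1 p Q A0 A →
  IsPGroup p ρ.ker → SylIn p ((autInducedBy ⊤ Q).map ρ) (A.map ρ) ∧
    (∀ a ∈ A, ρ a = 1 → ∃ s : U, a = MulAut.conjNormal s) ∧
    ∀ a ∈ A, (∀ s : U, ∃ s' : U, ρ a * ρ (MulAut.conjNormal s) * (ρ a)⁻¹ = ρ (MulAut.conjNormal s')) →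
      ∃ α ∈ A0, Res α a

end CL.U5
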