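/-
Project U5: the model `U K` of a Sylow `p`-subgroup of `SU₅(q)`, its subgroups and standard automorphisms.
-/
import Cfsg.Agent.U5.Gen
import Cfsg.Agent.Cls.UniField

set_option autoImplicit false
set_option linter.unusedSectionVars false

namespace CL.U5

open Cfsg CL.Fus
open scoped commutatorElement

universe u

/-- `star` is the map `x ↦ x ^ q` on a field with `q ^ 2` elements -/
class UF (K : Type u) [Field K] [StarRing K] where
  q : ℕ
  bar : CL.Uni.IsBar (starRingEnd K) q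

section Fld
variable {K : Type u} [Field K] [StarRing K] [UF K]

instance : Finite K := (UF.bar (K := K)).finite

theorem exists_norm {a : K} (ha : star a = a) : ∃ x : K, x * star x = a := UF.bar.exists_norm_eq ha
theorem exists_trace {a : K} (ha : star a = a) : ∃ x : K, x + star x = a := UF.bar.exists_trace_eq ha
theorem exists_sub {c : K} (hc : star c = -c) : ∃ x : K, x - star x = c := UF.bar.exists_sub_bar_eq hc
theorem exists_skew (K : Type u) [Field K] [StarRing K] [UF K] : ∃ c : K, c ≠ 0 ∧ star c = -c :=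
  UF.bar.exists_trace_zero
theorem exists_ne (K : Type u) [Field K] [StarRing K] [UF K] : ∃ x : K, star x ≠ x := UF.bar.exists_ne
theorem card_K : Nat.card K = UF.q K ^ 2 := by
  have := Fintype.ofFinite K
  rw [Nat.card_eq_fintype_card]; exact UF.bar.fintype_card
theorem card_fix : Nat.card {x : K // star x = x} = UF.q K := UF.bar.card_fixed
theorem card_skew : Nat.card {x : K // star x = -x} = UF.q K := UF.bar.card_trace_zero
theorem two_le_q : 2 ≤ UF.q K := UF.bar.two_le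
theorem star_eq_pow (x : K) : star x = x ^ UF.q K := by
  have := Fintype.ofFinite K
  exact DFunLike.congr_fun (UF.bar (K := K)).eq_bar x
@[simp] theorem map_star' (γ : K ≃+* K) (x : K) : γ (star x) = star (γ x) := by
  rw [star_eq_pow, star_eq_pow, map_pow]

/-- an additive map that is linear over the fixed field -/
theorem flin (φ : K → K) (add : ∀ x y, φ (x + y) = φ x + φ y) (lin : ∀ l x, star l = l → φ (l * x) = l * φ x) :
    ∃ a b : K, ∀ x, φ x = a * x + b * star x := by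
  obtain ⟨t, ht⟩ := exists_ne K
  have h : t - star t ≠ 0 := sub_ne_zero.2 ht.symm
  have h' : star t - t ≠ 0 := sub_ne_zero.2 ht
  refine ⟨(φ t - star t * φ 1) / (t - star t), (t * φ 1 - φ t) / (t - star t), fun x => ?_⟩
  have e : x = (t * star x - star t * x) / (t - star t) * 1 + (x - star x) / (t - star t) * t := by field_simp; ring
  rw [congrArg φ e, add, lin, lin]
  · field_simp; ring
  · simp only [star_div₀, star_sub, star_star]; field_simp; ring
  · simp only [star_div₀, star_sub, star_star, star_mul']; field_simp; ring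

end Fld

/-! ### the group `U K` -/

@[ext] structure U (K : Type u) [Field K] [StarRing K] where
  a : K
  b : K
  c : K
  y : K
  d : K
  z : K
  hy : y + star y + b * star b = 0
  hz : z + star z + a * star d + d * star a + c * star c = 0

section Model
variable {K : Type u} [Field K] [StarRing K]

theorem U.star_y (g : U K) : star g.y = -g.y - g.b * star g.b := by linear_combination g.hy
theorem U.star_z (g : U K) : star g.z = -g.z - g.a * star g.d - g.d * star g.a - g.c * star g.c := by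
  linear_combination g.hz

instance : Mul (U K) := ⟨fun g h => ⟨g.a + h.a, g.b + h.b, g.c + h.c + g.a * h.b, g.y + h.y - g.b * star h.b,
  g.d + h.d + g.a * h.y - g.c * star h.b,
  g.z + h.z - g.a * (star h.a * h.y + star h.c * h.b + star h.d) + g.c * (star h.a * star h.b - star h.c) - g.d * star h.a,
  by simp only [star_add, star_sub, star_mul', star_star, U.star_y]; ring,
  by simp only [star_add, star_sub, star_mul', star_star, U.star_y, U.star_z]; ring⟩⟩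
instance : One (U K) := ⟨⟨0, 0, 0, 0, 0, 0, by simp, by simp⟩⟩
instance : _root_.Inv (U K) := ⟨fun g => ⟨-g.a, -g.b, g.a * g.b - g.c, -g.y - g.b * star g.b,
  g.a * g.y + g.a * g.b * star g.b - g.c * star g.b - g.d,
  -g.z - g.a * star g.d - g.d * star g.a - g.c * star g.c,
  by simp only [star_add, star_sub, star_neg, star_mul', star_star, U.star_y]; ring,
  by simp only [star_add, star_sub, star_neg, star_mul', star_star, U.star_y, U.star_z]; ring⟩⟩

@[simp] theorem mul_a (g h : U K) : (g * h).a = g.a + h.a := rfl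
@[simp] theorem mul_b (g h : U K) : (g * h).b = g.b + h.b := rfl
@[simp] theorem mul_c (g h : U K) : (g * h).c = g.c + h.c + g.a * h.b := rfl
@[simp] theorem mul_y (g h : U K) : (g * h).y = g.y + h.y - g.b * star h.b := rfl
@[simp] theorem mul_d (g h : U K) : (g * h).d = g.d + h.d + g.a * h.y - g.c * star h.b := rfl
@[simp] theorem mul_z (g h : U K) : (g * h).z = g.z + h.z - g.a * (star h.a * h.y + star h.c * h.b + star h.d) +
    g.c * (star h.a * star h.b - star h.c) - g.d * star h.a := rfl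
@[simp] theorem one_a : (1 : U K).a = 0 := rfl
@[simp] theorem one_b : (1 : U K).b = 0 := rfl
@[simp] theorem one_c : (1 : U K).c = 0 := rfl
@[simp] theorem one_y : (1 : U K).y = 0 := rfl
@[simp] theorem one_d : (1 : U K).d = 0 := rfl
@[simp] theorem one_z : (1 : U K).z = 0 := rfl
@[simp] theorem inv_a (g : U K) : g⁻¹.a = -g.a := rfl
@[simp] theorem inv_b (g : U K) : g⁻¹.b = -g.b := rfl
@[simp] theorem inv_c (g : U K) : g⁻¹.c = g.a * g.b - g.c := rfl
@[simp] theorem inv_y (g : U K) : g⁻¹.y = -g.y - g.b * star g.b := rfl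
@[simp] theorem inv_d (g : U K) : g⁻¹.d = g.a * g.y + g.a * g.b * star g.b - g.c * star g.b - g.d := rfl
@[simp] theorem inv_z (g : U K) : g⁻¹.z = -g.z - g.a * star g.d - g.d * star g.a - g.c * star g.c := rfl

instance : Group (U K) := Group.ofLeftAxioms
  (fun g h k => by ext <;> simp only [mul_a, mul_b, mul_c, mul_y, mul_d, mul_z, star_add, star_sub, star_mul', star_star,
    U.star_y] <;> ring) (fun g => by ext <;> simp) (fun g => by ext <;> simp <;> ring)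

@[simp] theorem comm_a (g h : U K) : ⁅g, h⁆.a = 0 := by simp [commutatorElement_def]
@[simp] theorem comm_b (g h : U K) : ⁅g, h⁆.b = 0 := by simp [commutatorElement_def]
@[simp] theorem comm_c (g h : U K) : ⁅g, h⁆.c = g.a * h.b - h.a * g.b := by simp [commutatorElement_def]; ring
@[simp] theorem comm_y (g h : U K) : ⁅g, h⁆.y = star g.b * h.b - star h.b * g.b := by simp [commutatorElement_def]; ring
@[simp] theorem comm_d (g h : U K) : ⁅g, h⁆.d = (star g.b + star h.b) * (g.a * h.b - h.a * g.b) +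
    (star g.b * h.c + g.a * h.y) - (star h.b * g.c + h.a * g.y) := by simp [commutatorElement_def]; ring
@[simp] theorem comm_z (g h : U K) : ⁅g, h⁆.z = star g.a * (g.a * h.y + h.d - star h.b * g.c) +
    star h.a * (star g.b * (g.a * h.b - h.a * g.b + h.c) - h.a * g.y - g.d) + star g.c * (g.a * h.b + h.c) -
    star h.c * (h.a * g.b + g.c) + star g.d * h.a - star h.d * g.a := by
  simp [commutatorElement_def, U.star_y]; ring

@[simp] theorem conj_a (s g : U K) : (s * g * s⁻¹).a = g.a := by simp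
@[simp] theorem conj_b (s g : U K) : (s * g * s⁻¹).b = g.b := by simp
theorem conj_c (s g : U K) : (s * g * s⁻¹).c = g.c + s.a * g.b - g.a * s.b := by simp; ring
theorem conj_y (s g : U K) : (s * g * s⁻¹).y = g.y + star s.b * g.b - star g.b * s.b := by simp; ring
theorem conj_d (s g : U K) : (s * g * s⁻¹).d = g.d + star s.b * (s.a * g.b - g.a * s.b + g.c) - star g.b * s.c +
    s.a * g.y - g.a * s.y := by simp; ring

/-- the first three equations of commuting elements -/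
theorem comm_eqs {g h : U K} (k : ⁅g, h⁆.c = 0 ∧ ⁅g, h⁆.y = 0 ∧ ⁅g, h⁆.d = 0) : g.a * h.b = h.a * g.b ∧
    star g.b * h.b = star h.b * g.b ∧ star g.b * h.c + g.a * h.y = star h.b * g.c + h.a * g.y := by
  simp only [comm_c, comm_y, comm_d] at k
  exact ⟨by linear_combination k.1, by linear_combination k.2.1,
    by linear_combination k.2.2 - (star g.b + star h.b) * k.1⟩

theorem eq_one_iff {g : U K} : g = 1 ↔ g.a = 0 ∧ g.b = 0 ∧ g.c = 0 ∧ g.y = 0 ∧ g.d = 0 ∧ g.z = 0 := U.ext_iff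

/-- `a = 0` -/
def Q2 (K : Type u) [Field K] [StarRing K] : Subgroup (U K) where
  carrier := {g | g.a = 0}
  mul_mem' := fun {g h} (hg : g.a = 0) (hh : h.a = 0) => show g.a + h.a = 0 by rw [hg, hh, add_zero]
  one_mem' := rfl
  inv_mem' := fun {g} (hg : g.a = 0) => show -g.a = 0 by rw [hg, neg_zero]

/-- `b = y = 0` -/
def Q1 (K : Type u) [Field K] [StarRing K] : Subgroup (U K) where
  carrier := {g | g.b = 0 ∧ g.y = 0}
  mul_mem' := fun hg hh => ⟨by simp [hg.1, hh.1], by simp [hg.1, hg.2, hh.2]⟩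
  one_mem' := ⟨rfl, rfl⟩
  inv_mem' := fun hg => ⟨by simp [hg.1], by simp [hg.1, hg.2]⟩

/-- `a = b = 0` -/
def Z3 (K : Type u) [Field K] [StarRing K] : Subgroup (U K) where
  carrier := {g | g.a = 0 ∧ g.b = 0}
  mul_mem' := fun hg hh => ⟨by simp [hg.1, hh.1], by simp [hg.2, hh.2]⟩
  one_mem' := ⟨rfl, rfl⟩
  inv_mem' := fun hg => ⟨by simp [hg.1], by simp [hg.2]⟩

/-- `a = b = c = 0` -/
def U0 (K : Type u) [Field K] [StarRing K] : Subgroup (U K) where
  carrier := {g | g.a = 0 ∧ g.b = 0 ∧ g.c = 0}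
  mul_mem' := fun hg hh => ⟨by simp [hg.1, hh.1], by simp [hg.2.1, hh.2.1], by simp [hg.1, hg.2.2, hh.2.2]⟩
  one_mem' := ⟨rfl, rfl, rfl⟩
  inv_mem' := fun hg => ⟨by simp [hg.1], by simp [hg.2.1], by simp [hg.1, hg.2.2]⟩

/-- `a = b = c = y = 0` -/
def Z2 (K : Type u) [Field K] [StarRing K] : Subgroup (U K) where
  carrier := {g | g.a = 0 ∧ g.b = 0 ∧ g.c = 0 ∧ g.y = 0}
  mul_mem' := fun hg hh => ⟨by simp [hg.1, hh.1], by simp [hg.2.1, hh.2.1], by simp [hg.1, hg.2.2.1, hh.2.2.1],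
    by simp [hg.2.1, hg.2.2.2, hh.2.2.2]⟩
  one_mem' := ⟨rfl, rfl, rfl, rfl⟩
  inv_mem' := fun hg => ⟨by simp [hg.1], by simp [hg.2.1], by simp [hg.1, hg.2.2.1], by simp [hg.2.1, hg.2.2.2]⟩

/-- `a = b = c = y = d = 0` -/
def Z (K : Type u) [Field K] [StarRing K] : Subgroup (U K) where
  carrier := {g | g.a = 0 ∧ g.b = 0 ∧ g.c = 0 ∧ g.y = 0 ∧ g.d = 0}
  mul_mem' := fun hg hh => ⟨by simp [hg.1, hh.1], by simp [hg.2.1, hh.2.1], by simp [hg.1, hg.2.2.1, hh.2.2.1],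
    by simp [hg.2.1, hg.2.2.2.1, hh.2.2.2.1], by simp [hg.1, hg.2.2.1, hg.2.2.2.2, hh.2.2.2.2]⟩
  one_mem' := ⟨rfl, rfl, rfl, rfl, rfl⟩
  inv_mem' := fun hg => ⟨by simp [hg.1], by simp [hg.2.1], by simp [hg.1, hg.2.2.1], by simp [hg.2.1, hg.2.2.2.1],
    by simp [hg.1, hg.2.2.1, hg.2.2.2.2]⟩

theorem mem_Q2 {g : U K} : g ∈ Q2 K ↔ g.a = 0 := Iff.rfl
theorem mem_Q1 {g : U K} : g ∈ Q1 K ↔ g.b = 0 ∧ g.y = 0 := Iff.rfl
theorem mem_Z3 {g : U K} : g ∈ Z3 K ↔ g.a = 0 ∧ g.b = 0 := Iff.rfl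
theorem mem_U0 {g : U K} : g ∈ U0 K ↔ g.a = 0 ∧ g.b = 0 ∧ g.c = 0 := Iff.rfl
theorem mem_Z2 {g : U K} : g ∈ Z2 K ↔ g.a = 0 ∧ g.b = 0 ∧ g.c = 0 ∧ g.y = 0 := Iff.rfl
theorem mem_Z {g : U K} : g ∈ Z K ↔ g.a = 0 ∧ g.b = 0 ∧ g.c = 0 ∧ g.y = 0 ∧ g.d = 0 := Iff.rfl

instance : (Q2 K).Normal := ⟨fun g hg s => (conj_a s g).trans hg⟩
instance : (Q1 K).Normal := ⟨fun g hg s => ⟨(conj_b s g).trans hg.1, by rw [conj_y]; simp [hg.1, hg.2]⟩⟩
instance : (Z3 K).Normal := ⟨fun g hg s => ⟨(conj_a s g).trans hg.1, (conj_b s g).trans hg.2⟩⟩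
instance : (U0 K).Normal := ⟨fun g hg s => ⟨(conj_a s g).trans hg.1, (conj_b s g).trans hg.2.1,
  by rw [conj_c]; simp [hg.1, hg.2.1, hg.2.2]⟩⟩
instance : (Z2 K).Normal := ⟨fun g hg s => ⟨(conj_a s g).trans hg.1, (conj_b s g).trans hg.2.1,
  by rw [conj_c]; simp [hg.1, hg.2.1, hg.2.2.1], by rw [conj_y]; simp [hg.2.1, hg.2.2.2]⟩⟩
instance : (Z K).Normal := ⟨fun g hg s => ⟨(conj_a s g).trans hg.1, (conj_b s g).trans hg.2.1,
  by rw [conj_c]; simp [hg.1, hg.2.1, hg.2.2.1], by rw [conj_y]; simp [hg.2.1, hg.2.2.2.1],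
  by rw [conj_d]; simp [hg.1, hg.2.1, hg.2.2.1, hg.2.2.2.1, hg.2.2.2.2]⟩⟩

theorem Z_le_Z2 : Z K ≤ Z2 K := fun _ h => ⟨h.1, h.2.1, h.2.2.1, h.2.2.2.1⟩
theorem Z2_le_U0 : Z2 K ≤ U0 K := fun _ h => ⟨h.1, h.2.1, h.2.2.1⟩
theorem U0_le_Z3 : U0 K ≤ Z3 K := fun _ h => ⟨h.1, h.2.1⟩
theorem Z3_le_Q2 : Z3 K ≤ Q2 K := fun _ h => h.1
theorem Z2_le_Q1 : Z2 K ≤ Q1 K := fun _ h => ⟨h.2.1, h.2.2.2⟩

theorem comm_mem_Z3 (g h : U K) : ⁅g, h⁆ ∈ Z3 K := ⟨comm_a g h, comm_b g h⟩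
theorem comm_mem_Z2 (g : U K) {h : U K} (k : h ∈ Z3 K) : ⁅g, h⁆ ∈ Z2 K := by simp [mem_Z2, k.1, k.2]
theorem comm_mem_Z (g : U K) {h : U K} (k : h ∈ Z2 K) : ⁅g, h⁆ ∈ Z K := by
  simp [mem_Z, k.1, k.2.1, k.2.2.1, k.2.2.2]
theorem comm_Z (g : U K) {h : U K} (k : h ∈ Z K) : ⁅g, h⁆ = 1 := by
  simp [eq_one_iff, k.1, k.2.1, k.2.2.1, k.2.2.2.1, k.2.2.2.2]
theorem comm_Q2 {g h : U K} (k : g ∈ Q2 K) (k' : h ∈ Q2 K) : ⁅g, h⁆ ∈ U0 K := by simp [mem_U0, mem_Q2.1 k, mem_Q2.1 k']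
theorem comm_Q2_U0 {g h : U K} (k : g ∈ Q2 K) (k' : h ∈ U0 K) : ⁅g, h⁆ = 1 := by
  simp [eq_one_iff, mem_Q2.1 k, k'.1, k'.2.1, k'.2.2]
theorem comm_Q1 {g h : U K} (k : g ∈ Q1 K) (k' : h ∈ Q1 K) : ⁅g, h⁆ ∈ Z K := by simp [mem_Z, k.1, k.2, k'.1, k'.2]
theorem comm_Z3 {g h : U K} (k : g ∈ Z3 K) (k' : h ∈ Z3 K) : ⁅g, h⁆ ∈ Z K := by simp [mem_Z, k.1, k.2, k'.1, k'.2]

/-- root elements -/
def xa (a : K) : U K := ⟨a, 0, 0, 0, 0, 0, by simp, by simp⟩
def xd (d : K) : U K := ⟨0, 0, 0, 0, d, 0, by simp, by simp⟩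
def xy (y : K) (h : star y = -y) : U K := ⟨0, 0, 0, y, 0, 0, by simp [h], by simp⟩
def xz (z : K) (h : star z = -z) : U K := ⟨0, 0, 0, 0, 0, z, by simp, by simp [h]⟩
def xb (b y : K) (h : y + star y + b * star b = 0) : U K := ⟨0, b, 0, y, 0, 0, h, by simp⟩

theorem Z_skew {g : U K} (h : g ∈ Z K) : star g.z = -g.z := by simp [U.star_z, h.1, h.2.2.1, h.2.2.2.2]

variable [UF K]

theorem exists_y (b : K) : ∃ y : K, y + star y + b * star b = 0 := by
  obtain ⟨y, h⟩ := exists_trace (a := -(b * star b)) (by simp [mul_comm])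
  exact ⟨y, by rw [h, neg_add_cancel]⟩

/-- an element with given coordinates -/
theorem exists_el (a b c y d : K) (h : y + star y + b * star b = 0) :
    ∃ g : U K, g.a = a ∧ g.b = b ∧ g.c = c ∧ g.y = y ∧ g.d = d := by
  obtain ⟨z, hz⟩ := exists_trace (a := -(a * star d + d * star a + c * star c)) (by simp; ring)
  exact ⟨⟨a, b, c, y, d, z, h, by linear_combination hz⟩, rfl, rfl, rfl, rfl, rfl⟩

instance : Finite (U K) := Finite.of_injective (fun g : U K => (g.a, g.b, g.c, g.y, g.d, g.z)) fun g h e => by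
  simp only [Prod.mk.injEq] at e; exact U.ext e.1 e.2.1 e.2.2.1 e.2.2.2.1 e.2.2.2.2.1 e.2.2.2.2.2

theorem pg (p : ℕ) [Fact p.Prime] [CharP K p] : IsPGroup p (U K) := by
  have z : (p : K) = 0 := CharP.cast_eq_zero K p
  have step : ∀ (X Y : Subgroup (U K)) (φ : U K → K), (∀ g ∈ X, ∀ h ∈ X, φ (g * h) = φ g + φ h) →
      ∀ g ∈ X, φ (g ^ p) = 0 := fun X _ φ hφ g hg => by
    have : ∀ n : ℕ, φ (g ^ (n + 1)) = (n + 1 : ℕ) * φ g := fun n => by
      induction n with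
      | zero => simp
      | succ n ih => rw [pow_succ, hφ _ (X.pow_mem hg _) _ hg, ih]; push_cast; ring
    obtain ⟨n, rfl⟩ := Nat.exists_eq_add_one_of_ne_zero (Fact.out : p.Prime).ne_zero
    rw [this, z, zero_mul]
  intro g
  have h1 : g ^ p ∈ Z3 K := ⟨step ⊤ ⊤ U.a (fun _ _ _ _ => rfl) g trivial, step ⊤ ⊤ U.b (fun _ _ _ _ => rfl) g trivial⟩
  have h2 : (g ^ p) ^ p ∈ Z2 K := ⟨((Z3 K).pow_mem h1 p).1, ((Z3 K).pow_mem h1 p).2,
    step (Z3 K) ⊤ U.c (fun a ha b _ => by simp [ha.1]) _ h1, step (Z3 K) ⊤ U.y (fun a ha b _ => by simp [ha.2]) _ h1⟩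
  have h3 := (Z2 K).pow_mem h2 p
  refine ⟨3, ?_⟩
  rw [pow_succ, pow_succ, pow_one, pow_mul, pow_mul]
  exact eq_one_iff.2 ⟨h3.1, h3.2.1, h3.2.2.1, h3.2.2.2,
    step (Z2 K) ⊤ U.d (fun a ha b _ => by simp [ha.1, ha.2.2.1]) _ h2,
    step (Z2 K) ⊤ U.z (fun a ha b hb => by simp [ha.1, ha.2.2.1, hb.1]) _ h2⟩

/-! ### diagonal and field automorphisms -/

/-- parameters of the diagonal and field automorphisms -/
@[ext] structure Par (K : Type u) [Field K] where
  l : Kˣ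
  m : Kˣ
  γ : K ≃+* K

instance : Mul (Par K) := ⟨fun h k => ⟨h.l * Units.map (h.γ : K →* K) k.l, h.m * Units.map (h.γ : K →* K) k.m, h.γ * k.γ⟩⟩
instance : One (Par K) := ⟨⟨1, 1, 1⟩⟩
instance : _root_.Inv (Par K) := ⟨fun h => ⟨Units.map ((h.γ⁻¹ : K ≃+* K) : K →* K) h.l⁻¹,
  Units.map ((h.γ⁻¹ : K ≃+* K) : K →* K) h.m⁻¹, h.γ⁻¹⟩⟩

@[simp] theorem par_mul_l (h k : Par K) : ((h * k).l : K) = h.l * h.γ k.l := rfl
@[simp] theorem par_mul_m (h k : Par K) : ((h * k).m : K) = h.m * h.γ k.m := rfl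
@[simp] theorem par_mul_γ (h k : Par K) (x : K) : (h * k).γ x = h.γ (k.γ x) := rfl
@[simp] theorem par_one_l : ((1 : Par K).l : K) = 1 := rfl
@[simp] theorem par_one_m : ((1 : Par K).m : K) = 1 := rfl
@[simp] theorem par_one_γ (x : K) : (1 : Par K).γ x = x := rfl
theorem par_ext {h k : Par K} (e1 : (h.l : K) = k.l) (e2 : (h.m : K) = k.m) (e3 : ∀ x, h.γ x = k.γ x) : h = k :=
  Par.ext (Units.ext e1) (Units.ext e2) (RingEquiv.ext e3)

instance : Group (Par K) := Group.ofLeftAxioms (fun h k r => par_ext (by simp [mul_assoc]) (by simp [mul_assoc]) (by simp))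
  (fun h => par_ext (by simp) (by simp) (by simp)) fun h => par_ext
    (show h.γ.symm (h.l⁻¹ : Kˣ) * h.γ.symm h.l = 1 by rw [← map_mul]; simp)
    (show h.γ.symm (h.m⁻¹ : Kˣ) * h.γ.symm h.m = 1 by rw [← map_mul]; simp) fun x => h.γ.symm_apply_apply x

instance : Finite (Par K) := Finite.of_injective (fun h : Par K => ((h.l : K), (h.m : K), (h.γ : K → K))) fun h k e => by
  simp only [Prod.mk.injEq] at e; exact par_ext e.1 e.2.1 (congrFun e.2.2)

def actF (h : Par K) (g : U K) : U K := ⟨h.l * h.γ g.a, h.m * h.γ g.b, h.l * h.m * h.γ g.c, h.m * star (h.m : K) * h.γ g.y,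
  h.l * h.m * star (h.m : K) * h.γ g.d, h.l * star (h.l : K) * h.m * star (h.m : K) * h.γ g.z,
  by have := congrArg h.γ g.hy
     simp only [map_add, map_mul, map_star', map_zero] at this
     simp only [star_mul', star_star]; linear_combination (h.m * star (h.m : K)) * this,
  by have := congrArg h.γ g.hz
     simp only [map_add, map_mul, map_star', map_zero] at this
     simp only [star_mul', star_star]; linear_combination (h.l * star (h.l : K) * h.m * star (h.m : K)) * this⟩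

theorem actF_mul (h k : Par K) (g : U K) : actF (h * k) g = actF h (actF k g) := by
  ext <;> simp only [actF, par_mul_l, par_mul_m, par_mul_γ, map_mul, map_star', star_mul'] <;> ring
theorem actF_one (g : U K) : actF 1 g = g := by ext <;> simp [actF]
theorem actF_map (h : Par K) (g k : U K) : actF h (g * k) = actF h g * actF h k := by
  ext <;> simp only [actF, mul_a, mul_b, mul_c, mul_y, mul_d, mul_z, map_add, map_sub, map_mul, map_star', star_mul',
    star_star] <;> ring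

/-- the diagonal and field automorphisms -/
def act : Par K →* MulAut (U K) := MonoidHom.mk' (fun h =>
  { toFun := actF h
    invFun := actF h⁻¹
    left_inv := fun g => by rw [← actF_mul, inv_mul_cancel, actF_one]
    right_inv := fun g => by rw [← actF_mul, mul_inv_cancel, actF_one]
    map_mul' := actF_map h }) fun h k => MulEquiv.ext (actF_mul h k)

@[simp] theorem act_a (h : Par K) (g : U K) : (act h g).a = h.l * h.γ g.a := rfl
@[simp] theorem act_b (h : Par K) (g : U K) : (act h g).b = h.m * h.γ g.b := rfl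
@[simp] theorem act_c (h : Par K) (g : U K) : (act h g).c = h.l * h.m * h.γ g.c := rfl
@[simp] theorem act_y (h : Par K) (g : U K) : (act h g).y = h.m * star (h.m : K) * h.γ g.y := rfl
@[simp] theorem act_d (h : Par K) (g : U K) : (act h g).d = h.l * h.m * star (h.m : K) * h.γ g.d := rfl
@[simp] theorem act_z (h : Par K) (g : U K) : (act h g).z = h.l * star (h.l : K) * h.m * star (h.m : K) * h.γ g.z := rfl

theorem act_Q1 (h : Par K) (g : U K) : act h g ∈ Q1 K ↔ g ∈ Q1 K := by simp [mem_Q1]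
theorem act_Q2 (h : Par K) (g : U K) : act h g ∈ Q2 K ↔ g ∈ Q2 K := by simp [mem_Q2]

/-- the torus of `SL₂(q²)` -/
def ha (u : Kˣ) : Par K := ⟨u ^ 2, u⁻¹, 1⟩
/-- the torus of `SU₃(q)` -/
def hb (v : Kˣ) : Par K := ⟨v⁻¹, v ^ 2 * (star v)⁻¹, 1⟩

@[simp] theorem ha_l (u : Kˣ) : ((ha u).l : K) = (u : K) ^ 2 := by simp [ha]
@[simp] theorem ha_m (u : Kˣ) : ((ha u).m : K) = (u : K)⁻¹ := by simp [ha]
@[simp] theorem ha_γ (u : Kˣ) (x : K) : (ha u).γ x = x := rfl
@[simp] theorem hb_l (v : Kˣ) : ((hb v).l : K) = (v : K)⁻¹ := by simp [hb]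
@[simp] theorem hb_m (v : Kˣ) : ((hb v).m : K) = (v : K) ^ 2 * (star (v : K))⁻¹ := by simp [hb]
@[simp] theorem hb_γ (v : Kˣ) (x : K) : (hb v).γ x = x := rfl

/-- `A0` is the product of the inner automorphisms with the group `H` of diagonal and field automorphisms -/
def Std (A0 : Subgroup (MulAut (U K))) (H : Subgroup (Par K)) : Prop :=
  ∀ α, α ∈ A0 ↔ ∃ s, ∃ h ∈ H, α = MulAut.conj s * act h

/-! ### the reflections -/

omit [UF K]

def r1F (g : Q1 K) : Q1 K := ⟨⟨g.1.d, 0, -g.1.c, 0, g.1.a, g.1.z, by simp, by simp; linear_combination g.1.hz⟩, rfl, rfl⟩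

/-- the reflection on `Q1` -/
def r1 (K : Type u) [Field K] [StarRing K] : MulAut (Q1 K) where
  toFun := r1F
  invFun := r1F
  left_inv g := Subtype.ext (by ext <;> simp [r1F, g.2.1, g.2.2])
  right_inv g := Subtype.ext (by ext <;> simp [r1F, g.2.1, g.2.2])
  map_mul' g h := Subtype.ext (by ext <;> simp [r1F, g.2.1, g.2.2, h.2.1, h.2.2] <;> ring)

theorem r1_coe (g : Q1 K) : (r1 K g : U K) = ⟨g.1.d, 0, -g.1.c, 0, g.1.a, g.1.z, (r1 K g).1.hy, (r1 K g).1.hz⟩ := rfl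

def r2F (g : Q2 K) : Q2 K := ⟨⟨0, -g.1.c, g.1.b, g.1.z, star g.1.c * g.1.b + star g.1.d, g.1.y,
  by have := g.1.hz; rw [mem_Q2.1 g.2] at this; simp at this ⊢; linear_combination this,
  by simp; linear_combination g.1.hy⟩, rfl⟩

def r2G (g : Q2 K) : Q2 K := ⟨⟨0, g.1.c, -g.1.b, g.1.z, star g.1.c * g.1.b + star g.1.d, g.1.y,
  by have := g.1.hz; rw [mem_Q2.1 g.2] at this; simp at this ⊢; linear_combination this,
  by simp; linear_combination g.1.hy⟩, rfl⟩

/-- the reflection on `Q2` -/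
def r2 (K : Type u) [Field K] [StarRing K] : MulAut (Q2 K) where
  toFun := r2F
  invFun := r2G
  left_inv g := Subtype.ext (by ext <;> simp [r2F, r2G, mem_Q2.1 g.2] <;> ring)
  right_inv g := Subtype.ext (by ext <;> simp [r2F, r2G, mem_Q2.1 g.2] <;> ring)
  map_mul' g h := Subtype.ext (by
    ext <;> simp only [r2F, Subgroup.coe_mul, mul_a, mul_b, mul_c, mul_y, mul_d, mul_z, mem_Q2.1 g.2, mem_Q2.1 h.2,
      star_add, star_sub, star_neg, star_mul', star_star, star_zero] <;> ring)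

theorem r2_coe (g : Q2 K) : (r2 K g : U K) = ⟨0, -g.1.c, g.1.b, g.1.z, star g.1.c * g.1.b + star g.1.d, g.1.y,
    (r2 K g).1.hy, (r2 K g).1.hz⟩ := rfl

end Model

/-! ### the essential subgroups -/

section Parts
variable (K : Type u) [Field K] [StarRing K] [UF K]

def ESA : Prop := ∀ (E : Subgroup (U K)) (M B : (U K → U K) → Prop), Crit E M B → Z2 K ≤ E

def ESB : Prop := ∀ (E : Subgroup (U K)) (M B : (U K → U K) → Prop), Crit E M B → E ≤ Q2 K → E = Q2 K

/-- the centre is invariant and there is an element outside `Q2` that is central in `E` modulo the centre -/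
def ESC1 : Prop := ∀ (E : Subgroup (U K)) (M B : (U K → U K) → Prop), Crit E M B → Z2 K ≤ E → ¬ U0 K ≤ E →
  Inv E M (Z K) ∧ ∃ w ∈ E, w.a ≠ 0 ∧ ∀ e ∈ E, ⁅w, e⁆ ∈ Z K

def ESC2 : Prop := ∀ (E : Subgroup (U K)) (M B : (U K → U K) → Prop), Crit E M B → Z2 K ≤ E → Inv E M (Z K) →
  ∀ w ∈ E, w.a ≠ 0 → (∀ e ∈ E, ⁅w, e⁆ ∈ Z K) → w.b = 0 → E = Q1 K

def ESC3 : Prop := ∀ (E : Subgroup (U K)) (M B : (U K → U K) → Prop), Crit E M B → Z2 K ≤ E → Inv E M (Z K) →
  ∀ w ∈ E, w.a ≠ 0 → (∀ e ∈ E, ⁅w, e⁆ ∈ Z K) → w.b = 0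

def ESD1 : Prop := ∀ (E : Subgroup (U K)) (M B : (U K → U K) → Prop), Crit E M B → U0 K ≤ E →
  ∀ f, M f → ∀ g ∈ U0 K, f g ∈ Q2 K

def ESD2 : Prop := ∀ (E : Subgroup (U K)) (M B : (U K → U K) → Prop), Crit E M B → U0 K ≤ E → ¬ E ≤ Q2 K →
  (∀ f, M f → ∀ g ∈ U0 K, f g ∈ Q2 K) → Inv E M (U0 K)

def ESD3 : Prop := ∀ (E : Subgroup (U K)) (M B : (U K → U K) → Prop), Crit E M B → Inv E M (U0 K) → E ≤ Q2 K

/-- automorphisms keeping `Q1` and `Q2` are standard modulo the commutator subgroup -/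
def AU1 : Prop := ∀ α : MulAut (U K), (∀ x, α x ∈ Q1 K ↔ x ∈ Q1 K) → (∀ x, α x ∈ Q2 K ↔ x ∈ Q2 K) →
  ∃ h : Par K, ∀ x, (α x).a = (act h x).a ∧ (α x).b = (act h x).b

def AU2 : Prop := ∀ (p : ℕ) [Fact p.Prime] [CharP K p] (A0 : Subgroup (MulAut (U K))), (∀ s, MulAut.conj s ∈ A0) →
  ¬ p ∣ (MulAut.conj : U K →* MulAut (U K)).range.relIndex A0 →
  (∀ α ∈ A0, (∀ x, α x ∈ Q1 K ↔ x ∈ Q1 K) ∧ ∀ x, α x ∈ Q2 K ↔ x ∈ Q2 K) →
  ∃ (β : MulAut (U K)) (H : Subgroup (Par K)), ¬ p ∣ Nat.card H ∧ Std (A0.map (MulAut.conj β).toMonoidHom) H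

variable {K}

theorem ess (h1 : ESA K) (h2 : ESB K) (h3 : ESC1 K) (h4 : ESC2 K) (h5 : ESC3 K) (h6 : ESD1 K) (h7 : ESD2 K) (h8 : ESD3 K)
    {E : Subgroup (U K)} {M B : (U K → U K) → Prop} (h : Crit E M B) : E = Q1 K ∨ E = Q2 K := by
  by_cases k : E ≤ Q2 K
  · exact .inr (h2 E M B h k)
  by_cases k' : U0 K ≤ E
  · exact (k (h8 E M B h (h7 E M B h k' k (h6 E M B h k')))).elim
  obtain ⟨i, w, hw, a, c⟩ := h3 E M B h (h1 E M B h) k'
  exact .inl (h4 E M B h (h1 E M B h) i w hw a c (h5 E M B h (h1 E M B h) i w hw a c))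

end Parts

end CL.U5
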