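/-
Project U5: automorphisms of `U K` that keep `Q1` and `Q2`.
-/
import Cfsg.Agent.U5.Defs
import Cfsg.Agent.Grp.SZConj
import Cfsg.Agent.Grp.Hall

set_option autoImplicit false
set_option linter.unusedSectionVars false

namespace CL.U5

open Cfsg CL.Fus
open scoped commutatorElement Pointwise

universe u

variable {K : Type u} [Field K] [StarRing K] [UF K]

namespace AUx

theorem isotopy (α β : K → K) (γ : K →+ K) (hγ : Function.Injective γ) (h : ∀ x y, γ (x * y) = α x * β y) :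
    α 1 ≠ 0 ∧ β 1 ≠ 0 ∧ ∃ τ : K ≃+* K, (∀ x, α x = α 1 * τ x) ∧ ∀ x, β x = β 1 * τ x := by
  have h1 : α 1 * β 1 ≠ 0 := by rw [← h, mul_one]; exact fun k => one_ne_zero (hγ (k.trans γ.map_zero.symm))
  obtain ⟨a, b⟩ := mul_ne_zero_iff.1 h1
  have ha : ∀ x, α x = γ x / β 1 := fun x => by rw [eq_div_iff b, ← h, mul_one]
  have hb : ∀ x, β x = γ x / α 1 := fun x => by rw [eq_div_iff a, mul_comm, ← h, one_mul]
  let φ : K →+* K :=
    { toFun := fun x => γ x / (α 1 * β 1), map_one' := by rw [div_eq_one_iff_eq h1, ← h, mul_one]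
      map_mul' := fun x y => by rw [h, ha x, hb y]; field_simp
      map_zero' := by rw [map_zero, zero_div], map_add' := fun x y => by rw [map_add, add_div] }
  refine ⟨a, b, RingEquiv.ofBijective φ (Finite.injective_iff_bijective.1 φ.injective), fun x => ?_, fun x => ?_⟩
  · show α x = α 1 * (γ x / (α 1 * β 1)); rw [ha x]; field_simp
  · show β x = β 1 * (γ x / (α 1 * β 1)); rw [hb x]; field_simp

theorem cm (g h : U K) : ⁅g, h⁆ ∈ commutator (U K) :=
  Subgroup.commutator_mem_commutator (Subgroup.mem_top g) (Subgroup.mem_top h)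

theorem of_div {X : Subgroup (U K)} (hX : X ≤ commutator (U K)) {g k : U K} (hk : k ∈ commutator (U K))
    (h : g * k⁻¹ ∈ X) : g ∈ commutator (U K) := by
  simpa using mul_mem (hX h) hk

theorem Z_le : Z K ≤ commutator (U K) := fun g hg => by
  obtain ⟨t, ht⟩ := exists_sub (Z_skew hg)
  have : g = ⁅xa (1 : K), xd t⁆ := by
    ext <;> simp [xa, xd, hg.1, hg.2.1, hg.2.2.1, hg.2.2.2.1, hg.2.2.2.2, ← ht]
  exact this ▸ cm _ _

theorem Z2_le : Z2 K ≤ commutator (U K) := fun g hg => by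
  obtain ⟨y, hy⟩ := exists_y (1 : K)
  obtain ⟨x, e1, e2, e3, e4, e5⟩ := exists_el (0 : K) 0 g.d 0 0 (by simp)
  refine of_div Z_le (cm (xb 1 y hy) x) ?_
  simp [mem_Z, xb, hg.1, hg.2.1, hg.2.2.1, hg.2.2.2, e1, e2, e3, e4]

theorem U0_le : U0 K ≤ commutator (U K) := fun g hg => by
  obtain ⟨y, hy⟩ := exists_y (1 : K)
  obtain ⟨b, hb⟩ := exists_sub (c := g.y) (by simp [U.star_y, hg.2.1])
  obtain ⟨y', hy'⟩ := exists_y b
  refine of_div Z2_le (cm (xb 1 y hy) (xb b y' hy')) ?_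
  simp [mem_Z2, xb, hg.1, hg.2.1, hg.2.2, ← hb]

theorem Z3_le : Z3 K ≤ commutator (U K) := fun g hg => by
  obtain ⟨y, hy⟩ := exists_y g.c
  refine of_div U0_le (cm (xa 1) (xb g.c y hy)) ?_
  simp [mem_U0, xa, xb, hg.1, hg.2]

theorem aut_Z3 (α : MulAut (U K)) {x : U K} (hx : x ∈ Z3 K) : α x ∈ Z3 K := by
  have h1 : commutator (U K) ≤ Z3 K := Subgroup.commutator_le.2 fun g _ h _ => comm_mem_Z3 g h
  exact h1 (Subgroup.characteristic_iff_le_comap.1 inferInstance α (Z3_le hx))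

theorem aut_Z2 {α : MulAut (U K)} (h1 : ∀ x, α x ∈ Q1 K ↔ x ∈ Q1 K) (h2 : ∀ x, α x ∈ Q2 K ↔ x ∈ Q2 K)
    {x : U K} (hx : x ∈ Z2 K) : α x ∈ Z2 K := by
  obtain ⟨y, hy⟩ := exists_y (1 : K)
  have k1 := (h1 x).2 (Z2_le_Q1 hx)
  have k2 : (α x).a = 0 := (h2 x).2 hx.1
  have k3 : α.symm (xb 1 y hy) ∈ Q2 K := (h2 _).1 (by rw [MulEquiv.apply_symm_apply]; exact rfl)
  have k4 := congrArg (fun g => (α g).d) (comm_Q2_U0 k3 (Z2_le_U0 hx))
  simp only [map_commutatorElement, MulEquiv.apply_symm_apply, map_one] at k4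
  refine ⟨k2, k1.1, ?_, k1.2⟩
  simpa [xb, k1.1, k2] using k4

/-- the automorphisms that are trivial modulo `Z3` -/
def C0 (K : Type u) [Field K] [StarRing K] : Subgroup (MulAut (U K)) where
  carrier := {α | ∀ x, (α x).a = x.a ∧ (α x).b = x.b}
  one_mem' := fun _ => ⟨rfl, rfl⟩
  mul_mem' := fun {α β} h1 h2 x => ⟨(h1 _).1.trans (h2 x).1, (h1 _).2.trans (h2 x).2⟩
  inv_mem' := fun {α} h x => by
    have := h (α⁻¹ x)
    rw [MulAut.apply_inv_self] at this
    exact ⟨this.1.symm, this.2.symm⟩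

theorem mem_C0 {α : MulAut (U K)} : α ∈ C0 K ↔ ∀ x, x⁻¹ * α x ∈ Z3 K :=
  forall_congr' fun x => by
    simp only [mem_Z3, mul_a, mul_b, inv_a, inv_b, neg_add_eq_zero]
    exact ⟨fun h => ⟨h.1.symm, h.2.symm⟩, fun h => ⟨h.1.symm, h.2.symm⟩⟩

instance : (C0 K).Normal := ⟨fun α h β => mem_C0.2 fun x => by
  have := aut_Z3 β (mem_C0.1 h (β⁻¹ x))
  rwa [map_mul, map_inv, MulAut.apply_inv_self] at this⟩

theorem C0_pg (p : ℕ) [hp : Fact p.Prime] [CharP K p] : IsPGroup p (C0 K) := fun α => by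
  refine ⟨(orderOf (α : MulAut (U K))).factorization p, Subtype.ext ?_⟩
  have h0 := (orderOf_pos (α : MulAut (U K))).ne'
  refine mulAut_eq_one_of_comm_comm_frattini (pg p) (C := ⊤) ?_ (fun _ _ => trivial) (fun _ => trivial)
    fun x _ => CL.Grp.commutator_le_frattini (pg p) (Z3_le (mem_C0.1 (Subtype.property _) x))
  rw [Subgroup.coe_pow, orderOf_pow_of_dvd (pow_ne_zero _ hp.out.ne_zero) (Nat.ordProj_dvd _ _)]
  exact (Nat.coprime_ordCompl hp.out h0).symm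

theorem conj_mem (s : U K) : MulAut.conj s ∈ C0 K := fun x => ⟨conj_a s x, conj_b s x⟩

theorem act_eq_one {h : Par K} (k : act h ∈ C0 K) : h = 1 := by
  obtain ⟨y, hy⟩ := exists_y (1 : K)
  have e1 : ∀ s : K, h.l * h.γ s = s := fun s => (k (xa s)).1
  have e2 : h.m * h.γ 1 = 1 := (k (xb 1 y hy)).2
  have e3 : (h.l : K) = 1 := by simpa using e1 1
  exact par_ext e3 (by simpa using e2) fun x => by simpa [e3] using e1 x

end AUx

open AUx

theorem au1 : AU1 K := by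
  intro α h1 h2
  choose ys hys using exists_y (K := K)
  choose xc c1 c2 c3 c4 c5 using fun c : K => exists_el (0 : K) 0 c 0 0 (by simp)
  have q1 : ∀ s : K, (α (xa s)).b = 0 := fun s => ((h1 _).2 ⟨rfl, rfl⟩).1
  have q2 : ∀ c : K, (α (xc c)).a = 0 := fun c => (h2 _).2 (c1 c)
  have A : ∀ x : U K, (α x).a = (α (xa x.a)).a := fun x => by
    have : (α ((xa x.a)⁻¹ * x)).a = 0 := (h2 _).2 (by simp [mem_Q2, xa])
    rw [map_mul, map_inv, mul_a, inv_a] at this
    linear_combination this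
  have B : ∀ x : U K, (α x).b = (α (xb x.b (ys _) (hys _))).b := fun x => by
    have := (aut_Z3 α (x := (xb x.b (ys _) (hys _))⁻¹ * ((xa x.a)⁻¹ * x)) (by simp [mem_Z3, xa, xb])).2
    rw [map_mul, map_mul, map_inv, map_inv, mul_b, mul_b, inv_b, inv_b, q1] at this
    linear_combination this
  have C : ∀ x : U K, x.a = 0 → x.b = 0 → x.y = 0 → (α x).c = (α (xc x.c)).c := fun x e1 e2 e3 => by
    have := (aut_Z2 h1 h2 (x := (xc x.c)⁻¹ * x) (by simp [mem_Z2, c1, c2, c3, c4, e1, e2, e3])).2.2.1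
    rw [map_mul, map_inv, mul_c, inv_c, inv_a, q2] at this
    linear_combination this
  let ga : K →+ K := AddMonoidHom.mk' (fun c => (α (xc c)).c) fun c c' => by
    have := C (xc c * xc c') (by simp [c1]) (by simp [c2]) (by simp [c2, c4])
    rw [map_mul, mul_c, q2, mul_c, c1, c3, c3] at this
    simpa using this.symm
  have inj : Function.Injective ga := (injective_iff_map_eq_zero ga).2 fun c hc => by
    have k := (h1 (xc c)).2 ⟨c2 c, c4 c⟩
    have := aut_Z2 (α := α.symm) (fun x => by rw [← h1, MulEquiv.apply_symm_apply])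
      (fun x => by rw [← h2, MulEquiv.apply_symm_apply]) (x := α (xc c)) ⟨q2 c, k.1, hc, k.2⟩
    rw [MulEquiv.symm_apply_apply] at this
    exact (c3 c).symm.trans this.2.2.1
  obtain ⟨a, b, τ, e1, e2⟩ := isotopy (fun s => (α (xa s)).a) (fun b => (α (xb b (ys b) (hys b))).b) ga inj
    fun s b => by
      have := C ⁅xa s, xb b (ys b) (hys b)⁆ (comm_a _ _) (comm_b _ _) (by simp [xa])
      rw [map_commutatorElement, comm_c, q1, comm_c] at this
      show (α (xc (s * b))).c = _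
      simpa [xa, xb] using this.symm
  exact ⟨⟨Units.mk0 _ a, Units.mk0 _ b, τ⟩, fun x => ⟨(A x).trans (e1 _), (B x).trans (e2 _)⟩⟩

theorem au2 (h : AU1 K) : AU2 K := by
  intro p hp _ A0 inn hnd hq
  have hN : (MulAut.conj : U K →* MulAut (U K)).range.Normal := ⟨by
    rintro _ ⟨s, rfl⟩ β
    exact ⟨β s, MulEquiv.ext fun x => by simp⟩⟩
  have cop : ∀ {X : Subgroup (MulAut (U K))} {n : ℕ}, IsPGroup p X → ¬ p ∣ n → (Nat.card X).Coprime n :=
    fun h hn => by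
      obtain ⟨k, e⟩ := IsPGroup.iff_card.1 h
      exact e ▸ ((hp.out.coprime_iff_not_dvd).2 hn).pow_left k
  have pinn : IsPGroup p (MulAut.conj : U K →* MulAut (U K)).range :=
    (C0_pg p).to_le (by rintro _ ⟨s, rfl⟩; exact conj_mem s)
  obtain ⟨H, hA, h1, h2⟩ := CL.Grp.hall_exists_compl_in (L := A0) (by rintro _ ⟨s, rfl⟩; exact inn s) (cop pinn hnd)
  have hs : C0 K ⊔ H = C0 K ⊔ (act.range ⊓ (C0 K ⊔ H)) := by
    refine le_antisymm (sup_le le_sup_left fun α hα => ?_) (sup_le le_sup_left inf_le_right)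
    obtain ⟨k, hk⟩ := h α (hq α (hA hα)).1 (hq α (hA hα)).2
    have hc : α * (act k)⁻¹ ∈ C0 K := fun x => by
      have := hk ((act k)⁻¹ x)
      rwa [MulAut.apply_inv_self] at this
    rw [show α = α * (act k)⁻¹ * act k by simp]
    refine Subgroup.mul_mem_sup hc ⟨⟨k, rfl⟩, ?_⟩
    rw [show act k = (α * (act k)⁻¹)⁻¹ * α by simp]
    exact Subgroup.mul_mem_sup (inv_mem hc) hα
  have hbot : (act.range ⊓ (C0 K ⊔ H)) ⊓ C0 K = ⊥ := eq_bot_iff.2 (by
    rintro _ ⟨⟨⟨k, rfl⟩, -⟩, hk⟩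
    rw [act_eq_one hk, map_one]
    exact one_mem _)
  have hK : ¬ p ∣ Nat.card (act.range ⊓ (C0 K ⊔ H) : Subgroup (MulAut (U K))) := fun hd => by
    have e1 := CL.Grp.card_sup_mul_card_inf_of_normal (act.range ⊓ (C0 K ⊔ H)) (C0 K)
    have e2 := CL.Grp.card_sup_mul_card_inf_of_normal H (C0 K)
    rw [hbot, Subgroup.card_bot, mul_one, sup_comm, ← hs] at e1
    rw [sup_comm, e1] at e2
    exact hnd (h1 ▸ hd.trans (Nat.dvd_of_mul_dvd_mul_right Nat.card_pos ⟨_, e2.symm⟩))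
  obtain ⟨β, -, e⟩ := CL.Grp.schurZassenhaus_conj_of_sup_eq (N := C0 K) (H := H) (K := act.range ⊓ (C0 K ⊔ H))
    Subgroup.le_normalizer_of_normal (cop (C0_pg p) (h1 ▸ hnd)) (cop (C0_pg p) hK) hs
    (.inl (have := (C0_pg (K := K) p).isNilpotent; inferInstance))
  have inj : Function.Injective (act : Par K →* MulAut (U K)) :=
    (injective_iff_map_eq_one _).2 fun k hk => act_eq_one (hk ▸ one_mem _)
  refine ⟨β, (act.range ⊓ (C0 K ⊔ H)).comap act, fun hd => hK (hd.trans (Subgroup.card_comap_dvd_of_injective _ _ inj)),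
    fun α => ⟨?_, ?_⟩⟩
  · rintro ⟨a, ha, rfl⟩
    obtain ⟨_, ⟨s, rfl⟩, k, hk, rfl⟩ := (CL.Grp.mem_sup_iff_of_le_normalizer Subgroup.le_normalizer_of_normal).1
      (((sup_comm _ _).trans h2).ge ha)
    have h3 : β * k * β⁻¹ ∈ act.range ⊓ (C0 K ⊔ H) := e.le (Subgroup.smul_mem_pointwise_smul _ _ _ hk)
    obtain ⟨r, hr⟩ := h3.1
    refine ⟨β s, r, show act r ∈ _ from hr ▸ h3, ?_⟩
    rw [hr]
    exact MulEquiv.ext fun x => by simp
  · rintro ⟨s, r, hr, rfl⟩
    obtain ⟨k, hk, e2⟩ := (Subgroup.mem_smul_pointwise_iff_exists _ _ _).1 (e.ge hr)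
    refine ⟨MulAut.conj (β⁻¹ s) * k, mul_mem (inn _) (hA hk), ?_⟩
    rw [← e2]
    exact MulEquiv.ext fun x => by simp

end CL.U5
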