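/-
Project U5, job CRI: essential subgroups are critical.
-/
import Cfsg.Agent.U5.Gen
import Cfsg.Agent.Fus.NormalCrit
import Cfsg.Agent.Fus.EssExt

set_option autoImplicit false
set_option linter.unusedSectionVars false
set_option linter.unusedVariables false

namespace CL.U5

open Cfsg CL.Fus
open scoped commutatorElement

universe u

namespace CRIx

theorem chain {U : Type*} [Group U] {E : Subgroup U} {M : (U → U) → Prop} {x : U} {X : Subgroup U}
    (h : Triv E M x X) : ∃ (n : ℕ) (C : ℕ → Subgroup U), C 0 = ⊥ ∧ C n = X ∧ (∀ i, C i = ⊥ ∨ Inv E M (C i)) ∧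
      ∀ i < n, ∀ e ∈ C (i + 1), ⁅e, x⁆ ∈ C i := by
  induction h with
  | bot => exact ⟨0, fun _ => ⊥, rfl, rfl, fun _ => .inl rfl, fun _ h => absurd h (Nat.not_lt_zero _)⟩
  | @step X Y _ hX hc ih =>
    obtain ⟨n, C, h0, rfl, h1, h2⟩ := ih
    refine ⟨n + 1, fun i => if i ≤ n then C i else X, by simpa using h0, by simp, fun i => ?_, fun i hi e he => ?_⟩
    · by_cases h : i ≤ n
      · simpa only [if_pos h] using h1 i
      · simpa only [if_neg h] using .inr hX
    · simp only [if_pos (Nat.le_of_lt_succ hi)]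
      rcases Nat.lt_succ_iff_lt_or_eq.1 hi with h | rfl
      · exact h2 i h e (by simpa only [if_pos (Nat.succ_le_of_lt h)] using he)
      · exact hc e (by simpa using he)

theorem norm {U : Type*} [Group U] [Finite U] {E : Subgroup U} {x : U} (h : Nm E x) :
    x ∈ Subgroup.normalizer (E : Set U) := mem_normalizer_of_finite fun e he => by
  have := mul_mem he (h _ (inv_mem he))
  rwa [← inv_mul_conj_eq_commutator, mul_inv_cancel_left] at this

theorem nm {U : Type*} [Group U] {E : Subgroup U} {x : U} (h : x ∈ Subgroup.normalizer (E : Set U)) : Nm E x :=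
  fun e he => by
    rw [commutatorElement_def, mul_assoc, mul_assoc, ← mul_assoc x]
    exact mul_mem he (conj_mem_of_mem_normalizer h (inv_mem he))

/-- the elements of `E` whose commutator with `x` lies in `N` -/
def cm {U : Type*} [Group U] (E N : Subgroup U) (x : U) (h : ∀ e ∈ E, ∀ n ∈ N, e * n * e⁻¹ ∈ N) : Subgroup U where
  carrier := {v | v ∈ E ∧ ⁅v, x⁆ ∈ N}
  one_mem' := ⟨one_mem _, by simp⟩
  mul_mem' := fun {a b} ha hb => ⟨mul_mem ha.1 hb.1, by
    rw [show ⁅a * b, x⁆ = a * ⁅b, x⁆ * a⁻¹ * ⁅a, x⁆ by simp only [commutatorElement_def]; group]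
    exact mul_mem (h a ha.1 _ hb.2) ha.2⟩
  inv_mem' := fun {a} ha => ⟨inv_mem ha.1, by
    rw [show ⁅a⁻¹, x⁆ = a⁻¹ * ⁅a, x⁆⁻¹ * a⁻¹⁻¹ by simp only [commutatorElement_def]; group]
    exact h _ (inv_mem ha.1) _ (inv_mem ha.2)⟩

end CRIx

open CRIx in
theorem cri : CRI.{u} := by
  intro U _ _ p _ hU F hF E hE
  have hS : IsPGroup p (⊤ : Subgroup U) := hU.to_subgroup _
  have hP : IsPGroup p E := hU.to_subgroup _
  have mc : ∀ {x}, Nm E x → Mor F E (cj x) ∧ img (cj x) E = E := fun hx =>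
    ⟨mor_conj F le_top trivial, img_conj_of_mem_normalizer (norm hx)⟩
  have pe : ∀ {x} (hx : Nm E x), ∃ k, conjAut E (norm hx) ^ p ^ k = 1 := fun hx =>
    (isPGroup_autInducedBy hS E ⟨_, conjAut_mem_autInducedBy (norm hx) trivial⟩).imp fun _ => congrArg Subtype.val
  have pe' : ∀ {x} (hx : Nm E x), x ∉ E → ∀ β ∈ F.autGroup E, β * conjAut E (norm hx) * β⁻¹ ∈ extAut F E →
      β ∈ extAut F E := fun hx hx' β => IsEssential.mem_extAut_of_conj hS hF hE
    (IsEssential.conjAut_mem_extAut hS hF hE trivial _) (IsEssential.conjAut_notMem_Inn hE trivial _ hx') (pe hx)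
  refine ⟨fun f => ∃ α ∈ extAut F E, ∀ x ∈ E, autFun α x = f x, (IsEssential.lt_top hS hF hE).ne,
    fun hf x hx => hf.2.le (mem_img_of_mem _ hx), fun hf x hx y hy => hf.1.homOn.map_mul hx hy, fun hf => ?_,
    fun {f g} hf hg => ?_, ⟨mor_id F le_top, img_id E⟩, mc,
    fun x hx => IsCentric.centralizerIn_le hE.1 ⟨trivial, fun e he => (hx e he).eq.symm⟩, fun x hx t => ?_,
    fun N hN k => le_of_inf_normalizer_le_of_normalizes hS le_top le_top Subgroup.le_normalizer_of_normal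
      fun a ha h => k a ha (nm h), ?_, fun {f g} hf nf hg e ⟨β, hβ, k⟩ => nf ⟨β⁻¹, inv_mem hβ, fun x hx => ?_⟩,
    fun {f g} hf nf hg ⟨β, hβ, k⟩ ⟨α, hα, k'⟩ => nf ⟨α * β⁻¹, mul_mem hα (inv_mem hβ), fun x hx => ?_⟩,
    fun {f g x} hf nf hg e hx hx' ⟨α, hα, k⟩ => ?_, fun {f x y N} hf nf hx hx' hy hy' hN c1 c2 c3 => ?_⟩
  · obtain ⟨g, h1, h2, h3, h4⟩ := hf.1.exists_inv' hf.2
    exact ⟨g, ⟨h1, h4⟩, fun x hx => ⟨h2 x hx, h3 x hx⟩⟩
  · exact ⟨hg.1.comp_img hf.1 hg.2.le, (hg.1.img_comp f).trans (by rw [hg.2, hf.2])⟩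
  · obtain ⟨n, C, h0, h1, h2, h3⟩ := chain t
    refine mem_of_chain_top hS hE.1 (IsEssential.isRadical hS hE) n C (fun i _ f hf e z _ hz => ?_)
      (fun z _ hz => Subgroup.mem_bot.1 (h0.le hz)) trivial (norm hx) (fun z hz => ?_) fun i hi z _ hz => ?_
    · rcases h2 i with h | h
      · rw [Subgroup.mem_bot.1 (h.le hz), hf.homOn.map_one]; exact one_mem _
      · exact h.2 f ⟨hf, e⟩ z hz
    · rw [inv_mul_conj_eq_commutator, h1]; exact hx _ (inv_mem hz)
    · rw [inv_mul_conj_eq_commutator]; exact h3 i hi _ (inv_mem hz)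
  · obtain ⟨γ, h1, h2⟩ := IsEssential.exists_notMem_extAut hS hF hE
    exact ⟨autFun γ, ⟨mor_autFun le_top h1, img_autFun γ⟩, fun ⟨α, hα, k⟩ => h2 (aut_ext k ▸ hα)⟩
  · have := hf.2.le (mem_img_of_mem _ hx)
    rw [← autFun_inv_apply β this, k _ this, e x hx]
  · rw [autFun_mul _ _ hx, k' _ (autFun_mem _ hx), Function.comp_apply, ← k _ (autFun_mem _ hx), autFun_apply_inv β hx]
  · obtain ⟨φ, hφ, k'⟩ := hf.1.exists_aut hf.2
    refine nf ⟨φ, inv_mem_iff.1 (pe' hx hx' _ (inv_mem hφ) ?_), k'⟩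
    refine (congrArg (· ∈ extAut F E) (aut_ext fun z hz => ?_)).mp hα
    have h1 := autFun_mem (conjAut E (norm hx)) (autFun_mem φ hz)
    rw [inv_inv, autFun_mul _ _ hz, autFun_mul _ _ (autFun_mem φ hz), k z hz, ← e _ (autFun_mem φ⁻¹ h1),
      ← k' _ (autFun_mem φ⁻¹ h1), autFun_apply_inv φ h1, autFun_conjAut _ (autFun_mem φ hz), k' z hz]
    rfl
  · obtain ⟨φ, hφ, k'⟩ := hf.1.exists_aut hf.2
    have cN : ∀ e ∈ E, ∀ n ∈ N, e * n * e⁻¹ ∈ N := fun e he => hN.2 _ (mc (nm (Subgroup.le_normalizer he)))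
    have NR : N ≤ cm E N x cN := fun n hn => ⟨hN.1 hn, c1 n hn ▸ one_mem _⟩
    have RE : cm E N x cN ≤ E := fun _ h => h.1
    have ht : conjAut E (norm hx) ∈ F.autGroup E ⊓ stabAut E (cm E N x cN) :=
      ⟨conjAut_mem_autGroup F le_top _ trivial, mem_stabAut_of_finite RE fun z hz => by
        rw [autFun_conjAut _ hz.1, ← cj_apply, cj_eq]
        exact mul_mem (inv_mem (NR hz.2)) hz⟩
    have hψ : φ * conjAut E (norm hy) * φ⁻¹ ∈ F.autGroup E ⊓ stabAut E (cm E N x cN) :=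
      ⟨(F.autGroup E).mul_mem (mul_mem hφ (conjAut_mem_autGroup F le_top _ trivial)) (inv_mem hφ),
        mem_stabAut_of_finite RE fun z hz => by
          have h1 := autFun_mem φ⁻¹ hz.1
          rw [autFun_mul _ _ hz.1, autFun_mul _ _ h1, autFun_conjAut _ h1, ← cj_apply, cj_eq,
            (homOn_autFun φ).map_mul (inv_mem (hy _ h1)) h1, (homOn_autFun φ).map_inv (hy _ h1),
            autFun_apply_inv φ hz.1]
          exact mul_mem (inv_mem ⟨autFun_mem φ (hy _ h1), k' _ (hy _ h1) ▸ c3 _ h1⟩) hz⟩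
    have hc := mem_pCore_of_chain hP (F.autGroup E ⊓ stabAut E (cm E N x cN)) 3
      (fun i => [⊥, N, cm E N x cN].getD i E) (fun i γ hγ z hz h => match i, h with
        | 0, h => by rw [Subgroup.mem_bot.1 h, (homOn_autFun γ).map_one]; exact one_mem _
        | 1, h => hN.2 _ ⟨mor_autFun le_top hγ.1, img_autFun γ⟩ z h
        | 2, h => (hγ.2 z hz).2 h
        | _ + 3, _ => autFun_mem γ hz) le_rfl (fun z _ h => Subgroup.mem_bot.1 h) (α := ⟨_, ht⟩)
      fun i hi z hz h => by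
        rw [autFun_conjAut _ hz, inv_mul_conj_eq_commutator]
        match i, hi, h with
        | 0, _, h => exact Subgroup.mem_bot.2 (c1 _ (inv_mem h))
        | 1, _, h => exact (inv_mem h : z⁻¹ ∈ cm E N x cN).2
        | 2, _, _ => exact ⟨hx _ (inv_mem hz), c2 _ (inv_mem hz)⟩
    have hl := IsEssential.le_extAut_of_isPGroup hS hF hE (isPGroup_pCore'.map (Subgroup.subtype _))
      ((Subgroup.map_subtype_le _).trans inf_le_left) ⟨_, hc, rfl⟩
      (IsEssential.conjAut_mem_extAut hS hF hE trivial (norm hx)) (IsEssential.conjAut_notMem_Inn hE trivial _ hx')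
    exact nf ⟨φ, pe' hy hy' φ hφ (pe' hx hx' _ hψ.1
      (hl ⟨_, (inferInstance : (pCore p _).Normal).conj_mem _ hc ⟨_, hψ⟩, rfl⟩)), k'⟩

end CL.U5
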