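/-
Project U5: a critical subgroup contains the second centre.
-/
import Cfsg.Agent.U5.Defs

set_option autoImplicit false
set_option linter.unusedSectionVars false

namespace CL.U5

open Cfsg CL.Fus
open scoped commutatorElement

universe u

variable {K : Type u} [Field K] [StarRing K] [UF K]

namespace ESAx

theorem comm_z2 (g : U K) {x : U K} (hx : x ∈ Z2 K) : ⁅g, x⁆.z = star g.a * x.d - star x.d * g.a := by
  simp [hx.1, hx.2.1, hx.2.2.1, hx.2.2.2]

theorem Z_ext {g k : U K} (hg : g ∈ Z K) (hk : k ∈ Z K) (e : g.z = k.z) : g = k :=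
  U.ext (hg.1.trans hk.1.symm) (hg.2.1.trans hk.2.1.symm) (hg.2.2.1.trans hk.2.2.1.symm)
    (hg.2.2.2.1.trans hk.2.2.2.1.symm) (hg.2.2.2.2.trans hk.2.2.2.2.symm) e

theorem xd_mem (t : K) : xd t ∈ Z2 K := ⟨rfl, rfl, rfl, rfl⟩

/-- the elements of `Z2` with `d` in `F t` -/
def AA (t : K) : Subgroup (U K) where
  carrier := {g | g ∈ Z2 K ∧ ∃ l : K, star l = l ∧ g.d = l * t}
  mul_mem' := by
    rintro g k ⟨hg, l, hl, e⟩ ⟨hk, m, hm, e'⟩
    refine ⟨mul_mem hg hk, l + m, by rw [star_add, hl, hm], ?_⟩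
    simp only [mul_d, hg.1, hg.2.2.1, e, e']; ring
  one_mem' := ⟨one_mem _, 0, star_zero _, by simp⟩
  inv_mem' := by
    rintro g ⟨hg, l, hl, e⟩
    refine ⟨inv_mem hg, -l, by rw [star_neg, hl], ?_⟩
    simp only [inv_d, hg.1, hg.2.2.1, e]; ring

/-- the centraliser of `xd t` -/
def HH (t : K) : Subgroup (U K) where
  carrier := {g | star g.a * t = star t * g.a}
  mul_mem' := by
    intro g k (hg : star g.a * t = star t * g.a) (hk : star k.a * t = star t * k.a)
    change star (g.a + k.a) * t = star t * (g.a + k.a)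
    rw [star_add]; linear_combination hg + hk
  one_mem' := by change star (0 : K) * t = star t * 0; simp
  inv_mem' := by
    intro g (hg : star g.a * t = star t * g.a)
    change star (-g.a) * t = star t * (-g.a)
    rw [star_neg]; linear_combination -hg

theorem mem_HH {t : K} {g : U K} : g ∈ HH t ↔ star g.a * t = star t * g.a := Iff.rfl

theorem Z_le_HH (t : K) : Z K ≤ HH t := fun g hg => by rw [mem_HH, hg.1]; simp

theorem exists_l {t : K} {w z : U K} (hw : w ∉ HH t) (hz : z ∈ Z K) :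
    ∃ l : K, star l = l ∧ ⁅w, xd (l * t)⁆ = z := by
  have hs : star w.a * t - star t * w.a ≠ 0 := sub_ne_zero.2 hw
  have hs' : star (star w.a * t - star t * w.a) = -(star w.a * t - star t * w.a) := by
    simp only [star_sub, star_mul', star_star]; ring
  have hl : star (z.z / (star w.a * t - star t * w.a)) = z.z / (star w.a * t - star t * w.a) := by
    rw [star_div₀, Z_skew hz, hs', neg_div_neg_eq]
  refine ⟨_, hl, Z_ext (comm_mem_Z _ (xd_mem _)) hz ?_⟩
  rw [comm_z2 _ (xd_mem _)]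
  change star w.a * (_ * t) - star (_ * t) * w.a = z.z
  rw [star_mul', hl]
  field_simp

theorem mem_of_xd {E : Subgroup (U K)} (hZ : Z K ≤ E) {g : U K} (hg : g ∈ Z2 K) (k : xd g.d ∈ E) : g ∈ E := by
  have : (xd g.d)⁻¹ * g ∈ Z K := by
    simp [mem_Z, xd, hg.1, hg.2.1, hg.2.2.1, hg.2.2.2]
  simpa using mul_mem k (hZ this)

end ESAx

open ESAx in
theorem esa (hT : TV.{u}) : ESA K := by
  intro E M B h
  have hZ : Z K ≤ E := fun x hx => h.cen x fun e _ =>
    (commutatorElement_eq_one_iff_commute.1 (comm_Z e hx)).symm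
  by_contra hn
  obtain ⟨d0, hd0⟩ : ∃ t : K, xd t ∉ E := by
    by_contra k
    push Not at k
    exact hn fun g hg => mem_of_xd hZ hg (k _)
  have hV : Inv E M (cz E E) := h.inv_cz h.inv_top h.inv_top
  have hZV : Z K ≤ cz E E := fun x hx => mem_cz.2 ⟨hZ hx, fun e _ =>
    commutatorElement_eq_one_iff_mul_comm.1 (comm_Z e hx)⟩
  have T := hT (U K) E M B h ⊥ (cz E E) {t : K // xd t ∉ E} (fun i => AA i.1) (fun _ => Z K) (fun i => HH i.1)
    h.inv_bot (fun n hn x => by rw [Subgroup.mem_bot.1 hn]; simp) hV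
    (fun v hv e he => Subgroup.mem_bot.2 (commutatorElement_eq_one_iff_mul_comm.2 ((mem_cz.1 hv).2 e he)))
    (fun i => ⟨bot_le, hZV, Z_le_HH _⟩) (fun i a ha e _ => comm_mem_Z e ha.1)
    (by
      rintro i a ⟨ha, l, hl, e⟩ v _ hv
      refine Subgroup.mem_bot.2 (Z_ext (comm_mem_Z v ha) (one_mem _) ?_)
      rw [comm_z2 _ ha, e, star_mul', hl, one_z]
      linear_combination l * mem_HH.1 hv)
    (by
      intro i w _ hw z hz
      obtain ⟨l, hl, e⟩ := exists_l hw hz
      exact ⟨xd (l * i.1), ⟨xd_mem _, l, hl, rfl⟩, by rw [e, inv_mul_cancel]; exact one_mem _⟩)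
    (by
      rintro i a ⟨ha, l, hl, e⟩ haE v _ hv
      have l0 : l ≠ 0 := by
        rintro rfl
        exact haE (hZ ⟨ha.1, ha.2.1, ha.2.2.1, ha.2.2.2, by rw [e, zero_mul]⟩)
      have := congrArg U.z (Subgroup.mem_bot.1 hv)
      rw [comm_z2 _ ha, e, star_mul', hl, one_z] at this
      rw [mem_HH]
      apply mul_left_cancel₀ l0
      linear_combination this)
    (fun i => ⟨xd i.1, ⟨xd_mem _, 1, star_one _, (one_mul _).symm⟩, i.2⟩) (fun _ _ => rfl)
  have T1 : ∀ f, M f → ¬ B f → ∀ t : K, xd t ∉ E → ∀ z ∈ Z K, f z ∈ HH t → z = 1 :=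
    fun f hf nf t ht z hz k => Subgroup.mem_bot.1 ((T f hf nf ⟨t, ht⟩ ⟨t, ht⟩).1 z hz k)
  have T2 : ∀ f, M f → ¬ B f → ∀ v ∈ cz E E, ∃ z ∈ Z K, v⁻¹ * f z ∈ HH d0 :=
    fun f hf nf => (T f hf nf ⟨d0, hd0⟩ ⟨d0, hd0⟩).2
  clear T
  obtain ⟨f, g, hf, nf, hg, ng, efg⟩ := h.exists_out
  obtain ⟨s, s0, hs⟩ := exists_skew K
  have hz0 : xz s hs ∈ Z K := ⟨rfl, rfl, rfl, rfl, rfl⟩
  have nz0 : xz s hs ≠ 1 := fun e => s0 (congrArg U.z e)
  obtain ⟨w, hw⟩ : ∃ w, w = f (xz s hs) := ⟨_, rfl⟩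
  have hwV : w ∈ cz E E := hw ▸ hV.2 f hf _ (hZV hz0)
  have hwH : ∀ t : K, xd t ∉ E → w ∉ HH t := fun t ht k => nz0 (T1 f hf nf t ht _ hz0 (hw ▸ k))
  have a0 : w.a ≠ 0 := fun e => hwH d0 hd0 (by rw [mem_HH, e]; simp)
  have hxa : ∀ l : K, star l = l → xd (l * w.a) ∈ E := fun l hl => by
    by_contra k
    exact hwH _ k (by rw [mem_HH, star_mul', hl]; ring)
  have N : ∀ x, Nm E x → ∃ t : K, xd t * x ∈ E := by
    intro x hx
    have hw1 : cj x w ∈ cz E E := hV.2 _ (h.conj hx) _ hwV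
    have hw1H : cj x w ∉ HH d0 := by
      rw [mem_HH, cj_apply, conj_a]; exact hwH d0 hd0
    obtain ⟨z, hz, k⟩ := T2 g hg ng _ (inv_mem (hV.2 g hg _ hw1))
    rw [inv_inv, ← h.mul hg _ (hV.1 hw1) _ (hZ hz)] at k
    obtain ⟨l, -, e⟩ := exists_l hw1H (inv_mem hz)
    refine ⟨l * d0, ?_⟩
    have hx1 : Nm E (xd (l * d0) * x) := by
      intro e he
      have e1 : ⁅e, xd (l * d0) * x⁆ = ⁅e, xd (l * d0)⁆ * (⁅⁅e, x⁆, xd (l * d0)⁆⁻¹ * ⁅e, x⁆) := by
        simp only [commutatorElement_def]; group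
      rw [e1]
      exact mul_mem (hZ (comm_mem_Z _ (xd_mem _))) (mul_mem (inv_mem (hZ (comm_mem_Z _ (xd_mem _)))) (hx e he))
    by_contra k1
    refine nz0 (T1 _ (h.comp hg (h.comp (h.conj hx1) hf))
      (h.far hf nf hg (fun y hy => (efg y hy).1) hx1 k1) d0 hd0 _ hz0 ?_)
    have e2 : cj (xd (l * d0) * x) w = cj x w * z := by
      have e3 : cj (xd (l * d0) * x) w = cj (xd (l * d0)) (cj x w) := by simp only [cj_apply]; group
      rw [e3, cj_eq, e, inv_inv]
      exact (commutatorElement_eq_one_iff_mul_comm.1 (comm_Z _ hz)).symm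
    change g (cj (xd (l * d0) * x) (f (xz s hs))) ∈ HH d0
    rw [← hw, e2]
    exact k
  have Q : ∀ e ∈ E, w.a * e.b = e.a * w.b ∧ star w.b * e.b = star e.b * w.b ∧
      star w.b * e.c + w.a * e.y = star e.b * w.c + e.a * w.y := fun e he => by
    have : ⁅w, e⁆ = 1 := commutatorElement_eq_one_iff_mul_comm.2 ((mem_cz.1 hwV).2 e he).symm
    exact comm_eqs (by rw [this]; exact ⟨rfl, rfl, rfl⟩)
  by_cases b0 : w.b = 0
  · have hb : ∀ e ∈ E, e.b = 0 := fun e he => by
      have := (Q e he).1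
      rw [b0, mul_zero] at this
      exact (mul_eq_zero.1 this).resolve_left a0
    have hy : ∀ e ∈ E, w.a * e.y = e.a * w.y := fun e he => by
      have := (Q e he).2.2
      rw [b0, hb e he] at this
      simpa using this
    have hc : ∀ c : K, ∃ e ∈ E, e.a = 0 ∧ e.c = c := fun c => by
      obtain ⟨x, xa, xb, xc, xy, xd'⟩ := exists_el (0 : K) 0 c 0 0 (by simp)
      obtain ⟨t, ht⟩ := N x fun e he => hZ (by simp [mem_Z, xa, xb, xy, hb e he])
      exact ⟨_, ht, by simp [xd, xa], by simp [xd, xc]⟩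
    have hEE : ∀ e ∈ E, ∀ e' ∈ E, ⁅e, e'⁆ ∈ Z K := fun e he e' he' => by
      refine ⟨comm_a _ _, comm_b _ _, by simp [hb e he, hb e' he'], by simp [hb e he, hb e' he'], ?_⟩
      apply mul_left_cancel₀ a0
      simp only [comm_d, hb e he, hb e' he', star_zero]
      linear_combination e.a * hy e' he' - e'.a * hy e he
    obtain ⟨t, ht⟩ := exists_ne K
    obtain ⟨e1, he1, a1, c1⟩ := hc 1
    obtain ⟨e2, he2, a2, c2⟩ := hc t
    have k := T1 f hf nf d0 hd0 _ (hEE e1 he1 e2 he2) (by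
      rw [h.map_comm hf he1 he2]
      exact Z_le_HH _ (hEE _ (h.mem hf _ he1) _ (h.mem hf _ he2)))
    have k' := congrArg U.z k
    simp only [comm_z, a1, a2, c1, c2, star_zero, star_one, one_z] at k'
    exact ht (by linear_combination -k')
  · have b0' : star w.b ≠ 0 := star_ne_zero.2 b0
    obtain ⟨x, xa, xb, xc, xy, xd'⟩ := exists_el (0 : K) 0 (w.a / star w.b) 0 0 (by simp)
    obtain ⟨t, ht⟩ := N x fun e he => by
      obtain ⟨q1, q2, -⟩ := Q e he
      have eb : e.b = e.a / w.a * w.b := by field_simp; linear_combination q1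
      have hl : star (e.a / w.a) = e.a / w.a := by
        rw [eb, star_mul'] at q2
        apply mul_left_cancel₀ (mul_ne_zero b0 b0')
        linear_combination -q2
      refine mem_of_xd hZ (comm_mem_Z2 e ⟨xa, xb⟩) ?_
      have : ⁅e, x⁆.d = e.a / w.a * w.a := by
        simp only [comm_d, xa, xb, xc, xy, star_zero]
        rw [eb, star_mul', hl]
        field_simp
        ring
      rw [this]
      exact hxa _ hl
    have := (Q _ ht).2.2
    simp only [mul_a, mul_b, mul_c, mul_y, xd, xa, xb, xc, xy, star_zero, add_zero] at this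
    apply a0
    field_simp at this
    linear_combination this

end CL.U5
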