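/-
Project U5: a critical subgroup inside `Q2` is `Q2`.
-/
import Cfsg.Agent.U5.Defs

set_option autoImplicit false
set_option linter.unusedSectionVars false

namespace CL.U5

open Cfsg CL.Fus
open scoped commutatorElement

universe u

variable {K : Type u} [Field K] [StarRing K] [UF K]

namespace ESBx

/-- the commutator of elements of `Q2` -/
def kel (b c b1 c1 : K) : U K := ⟨0, 0, 0, star b * b1 - star b1 * b, star b * c1 - star b1 * c,
  star c * c1 - star c1 * c, by simp; ring, by simp; ring⟩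

theorem kel_mem (b c b1 c1 : K) : kel b c b1 c1 ∈ U0 K := ⟨rfl, rfl, rfl⟩

theorem comm_eq {g h : U K} (hg : g ∈ Q2 K) (hh : h ∈ Q2 K) : ⁅g, h⁆ = kel g.b g.c h.b h.c := by
  ext <;> simp [kel, mem_Q2.1 hg, mem_Q2.1 hh]

theorem kel_mul (b c b1 c1 b2 c2 : K) : kel b c b1 c1 * kel b c b2 c2 = kel b c (b1 + b2) (c1 + c2) := by
  ext <;> simp [kel] <;> ring

theorem kel_inv (b c b1 c1 : K) : (kel b c b1 c1)⁻¹ = kel b c (-b1) (-c1) := by
  ext <;> simp [kel] <;> ring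

theorem kel_smul {l : K} (hl : star l = l) (b c b1 c1 : K) :
    kel (l * b) (l * c) b1 c1 = kel b c (l * b1) (l * c1) := by
  ext <;> simp [kel, hl] <;> ring

theorem kel_self {l : K} (hl : star l = l) (b c : K) : kel b c (l * b) (l * c) = 1 := by
  ext <;> simp [kel, hl] <;> ring

theorem cw {b c b1 c1 : K} (h0 : ¬ (b = 0 ∧ c = 0)) (h : kel b c b1 c1 = 1) :
    ∃ l, star l = l ∧ b1 = l * b ∧ c1 = l * c := by
  obtain ⟨-, -, -, h1, h2, h3⟩ := eq_one_iff.1 h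
  simp only [kel] at h1 h2 h3
  by_cases hb : b = 0
  · have hc : c ≠ 0 := fun e => h0 ⟨hb, e⟩
    have hc' : star c ≠ 0 := star_ne_zero.2 hc
    have : b1 = 0 := by simpa [hb, hc] using h2
    refine ⟨c1 / c, ?_, by rw [this, hb, mul_zero], by field_simp⟩
    rw [star_div₀]; field_simp; linear_combination -h3
  · have hb' : star b ≠ 0 := star_ne_zero.2 hb
    refine ⟨b1 / b, ?_, by field_simp, ?_⟩
    · rw [star_div₀]; field_simp; linear_combination -h1
    · rw [div_mul_eq_mul_div, eq_div_iff hb]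
      apply mul_left_cancel₀ hb'
      linear_combination b * h2 - c * h1

/-- the points different from `(b, c)` -/
def I (b c : K) : Type u := {v : K × K // ∀ l, star l = l → ¬ (v.1 = l * b ∧ v.2 = l * c)}

variable {b c : K}

theorem nz (h0 : ¬ (b = 0 ∧ c = 0)) (v : I b c) {m : K} (hm : star m = m)
    (h : kel b c (m * v.1.1) (m * v.1.2) = 1) : m = 0 := by
  by_contra e
  obtain ⟨l, hl, h1, h2⟩ := cw h0 h
  refine v.2 (l / m) (by rw [star_div₀, hl, hm]) ⟨?_, ?_⟩ <;> field_simp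
  exacts [by linear_combination h1, by linear_combination h2]

def A (v : I b c) : Subgroup (U K) where
  carrier := {s | s.a = 0 ∧ ∃ m, star m = m ∧ s.b = m * v.1.1 ∧ s.c = m * v.1.2}
  mul_mem' := by
    rintro g h ⟨g0, m, g1, g2, g3⟩ ⟨h0, n, h1, h2, h3⟩
    exact ⟨by simp [g0, h0], m + n, by simp [g1, h1], by simp [g2, h2, add_mul], by simp [g0, g3, h3, add_mul]⟩
  one_mem' := ⟨rfl, 0, by simp⟩
  inv_mem' := by
    rintro g ⟨g0, m, g1, g2, g3⟩
    exact ⟨by simp [g0], -m, by simp [g1], by simp [g2], by simp [g0, g3]⟩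

def Zc (v : I b c) : Subgroup (U K) where
  carrier := {g | ∃ m, star m = m ∧ g = kel b c (m * v.1.1) (m * v.1.2)}
  mul_mem' := by
    rintro _ _ ⟨m, g1, rfl⟩ ⟨n, h1, rfl⟩
    exact ⟨m + n, by simp [g1, h1], by rw [kel_mul, add_mul, add_mul]⟩
  one_mem' := ⟨0, by simp, by ext <;> simp [kel]⟩
  inv_mem' := by
    rintro _ ⟨m, g1, rfl⟩
    exact ⟨-m, by simp [g1], by rw [kel_inv, neg_mul, neg_mul]⟩

theorem card_Zc (h0 : ¬ (b = 0 ∧ c = 0)) (v : I b c) : Nat.card (Zc v) = Nat.card {m : K // star m = m} := by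
  refine (Nat.card_congr (Equiv.ofBijective (fun m : {m : K // star m = m} => (⟨_, m.1, m.2, rfl⟩ : Zc v))
    ⟨fun m n e => Subtype.ext (sub_eq_zero.1 (nz h0 v (by rw [star_sub, m.2, n.2]) ?_)), ?_⟩)).symm
  · have := mul_inv_eq_one.2 (congrArg Subtype.val e)
    rwa [kel_inv, kel_mul, ← sub_eq_add_neg, ← sub_eq_add_neg, ← sub_mul, ← sub_mul] at this
  · rintro ⟨_, m, hm, rfl⟩
    exact ⟨⟨m, hm⟩, rfl⟩

theorem exQ (b c : K) : ∃ s : U K, s.a = 0 ∧ s.b = b ∧ s.c = c :=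
  let ⟨y, hy⟩ := exists_y b
  let ⟨s, h1, h2, h3, _⟩ := exists_el 0 b c y 0 hy
  ⟨s, h1, h2, h3⟩

theorem two (b c : K) : ∃ (v : I b c) (w : K × K), ∀ m, star m = m → ∀ l, star l = l →
    ¬ (m * v.1.1 - w.1 = l * b ∧ m * v.1.2 - w.2 = l * c) := by
  obtain ⟨t, ht⟩ := exists_ne K
  by_cases hb : b = 0
  · refine ⟨⟨(1, 0), fun l _ k => by simpa [hb] using k.1⟩, (t, 0), fun m hm l _ k => ht ?_⟩
    have : m = t := by simpa [hb, sub_eq_zero] using k.1
    rwa [← this]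
  · refine ⟨⟨(0, 1), fun l _ k => ?_⟩, (0, t), fun m hm l _ k => ht ?_⟩
    · have : l = 0 := by simpa [hb] using k.1
      simpa [this] using k.2
    · have e : l = 0 := by simpa [hb] using k.1
      have : m = t := by simpa [e, sub_eq_zero] using k.2
      rwa [← this]

end ESBx

open ESBx

theorem esb (h : TV.{u}) : ESB K := by
  intro E M B hc hE
  have sw : ∀ {x e : U K}, x ∈ Q2 K → e ∈ U0 K → ⁅e, x⁆ = 1 := fun hx he => by
    rw [← commutatorElement_inv, comm_Q2_U0 hx he, inv_one]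
  have hU : U0 K ≤ E := fun x hx => hc.cen x fun e he => commutatorElement_eq_one_iff_commute.1 (sw (hE he) hx)
  by_cases hX : cz E E ≤ U0 K
  · refine le_antisymm hE fun x hx => hc.mem1 (hc.inv_cz hc.inv_top hc.inv_top) (fun e he => ?_) fun e he =>
      sw hx (hX he)
    have k := comm_Q2 (hE he) hx
    exact mem_cz.2 ⟨hU k, fun y hy => commutatorElement_eq_one_iff_mul_comm.1 (comm_Q2_U0 (hE hy) k)⟩
  exfalso
  obtain ⟨u, hu, hu'⟩ := SetLike.not_le_iff_exists.1 hX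
  have h0 : ¬ (u.b = 0 ∧ u.c = 0) := fun k => hu' ⟨hE hu.1, k⟩
  have lam : ∀ e ∈ E, ∃ l, star l = l ∧ e.b = l * u.b ∧ e.c = l * u.c := fun e he => cw h0 (by
    rw [← comm_eq (hE hu.1) (hE he)]
    exact commutatorElement_eq_one_iff_mul_comm.2 ((mem_cz.1 hu).2 e he).symm)
  generalize u.b = b at h0 lam
  generalize u.c = c at h0 lam
  have cm : ∀ {e s : U K} {l m : K} {v : K × K}, e ∈ E → s.a = 0 → star l = l → e.b = l * b → e.c = l * c →
      s.b = m * v.1 → s.c = m * v.2 → ⁅e, s⁆ = kel b c (l * m * v.1) (l * m * v.2) := fun he hs hl h1 h2 h3 h4 => by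
    rw [comm_eq (hE he) hs, h1, h2, h3, h4, kel_smul hl, mul_assoc, mul_assoc]
  obtain ⟨f, hf, nf⟩ := hc.out
  have T := h (U K) E M B hc ⊥ E (I b c) A Zc (fun _ => U0 K) hc.inv_bot
    (fun n hn x => by rw [Subgroup.mem_bot.1 hn, commutatorElement_one_left]) hc.inv_top
    (fun v hv e he => by
      obtain ⟨l, hl, h1, h2⟩ := lam e he
      obtain ⟨m, hm, h3, h4⟩ := lam v hv
      rw [Subgroup.mem_bot, cm (v := (b, c)) he (hE hv) hl h1 h2 h3 h4]
      exact kel_self (by rw [star_mul', hl, hm]) b c)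
    (fun i => have k : Zc i ≤ U0 K := by rintro _ ⟨m, -, rfl⟩; exact kel_mem ..
      ⟨bot_le, k.trans hU, k⟩)
    (fun i a ⟨a0, m, hm, h3, h4⟩ e he => by
      obtain ⟨l, hl, h1, h2⟩ := lam e he
      exact ⟨l * m, by rw [star_mul', hl, hm], cm he a0 hl h1 h2 h3 h4⟩)
    (fun i a ha v _ hv => Subgroup.mem_bot.2 (sw ha.1 hv))
    (fun i w hw hw' z ⟨m, hm, hz⟩ => by
      obtain ⟨l, hl, h1, h2⟩ := lam w hw
      have l0 : l ≠ 0 := fun e => hw' ⟨hE hw, by rw [h1, e, zero_mul], by rw [h2, e, zero_mul]⟩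
      obtain ⟨s, s0, h3, h4⟩ := exQ (m / l * i.1.1) (m / l * i.1.2)
      refine ⟨s, ⟨s0, m / l, by rw [star_div₀, hl, hm], h3, h4⟩, ?_⟩
      rw [Subgroup.mem_bot, cm hw s0 hl h1 h2 h3 h4, mul_div_cancel₀ _ l0, hz, inv_mul_cancel])
    (fun i a ⟨a0, m, hm, h3, h4⟩ ha v hv k => by
      obtain ⟨l, hl, h1, h2⟩ := lam v hv
      rw [Subgroup.mem_bot, cm hv a0 hl h1 h2 h3 h4] at k
      rcases mul_eq_zero.1 (nz h0 i (by rw [star_mul', hl, hm]) k) with e | e
      · exact ⟨hE hv, by rw [h1, e, zero_mul], by rw [h2, e, zero_mul]⟩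
      · exact absurd (hU ⟨a0, by rw [h3, e, zero_mul], by rw [h4, e, zero_mul]⟩) ha)
    (fun i => by
      obtain ⟨s, s0, h3, h4⟩ := exQ i.1.1 i.1.2
      refine ⟨s, ⟨s0, 1, star_one K, by rw [h3, one_mul], by rw [h4, one_mul]⟩, fun k => ?_⟩
      obtain ⟨l, hl, h1, h2⟩ := lam s k
      exact i.2 l hl ⟨h3 ▸ h1, h4 ▸ h2⟩)
    (fun i j => by rw [card_Zc h0, card_Zc h0]) f hf nf
  obtain ⟨v, w, hw⟩ := two b c
  have z2 : kel b c w.1 w.2 ∈ E := hU (kel_mem ..)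
  obtain ⟨_, ⟨m, hm, rfl⟩, k⟩ := (T v v).2 _ (hc.mem hf _ z2)
  rw [← hc.map_inv hf z2, ← hc.mul hf _ (inv_mem z2) _ (hU (kel_mem ..)), kel_inv, kel_mul, neg_add_eq_sub,
    neg_add_eq_sub] at k
  let j : I b c := ⟨(m * v.1.1 - w.1, m * v.1.2 - w.2), hw m hm⟩
  have e := Subgroup.mem_bot.1 ((T j j).1 _ ⟨1, star_one K, by rw [one_mul, one_mul]⟩ k)
  exact one_ne_zero (nz h0 j (star_one K) (by rwa [one_mul, one_mul]))

end CL.U5
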