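/-
Project U5: the parts `ESC1` and `ESC2`.
-/
import Cfsg.Agent.U5.Defs

set_option autoImplicit false
set_option linter.unusedSectionVars false

namespace CL.U5

open Cfsg CL.Fus
open scoped commutatorElement

universe u

variable {K : Type u} [Field K] [StarRing K] [UF K]

namespace ESCx

theorem xd_mem (t : K) : xd t ∈ Z2 K := ⟨rfl, rfl, rfl, rfl⟩

theorem onto {w z : U K} (hw : w.a ≠ 0) (hz : z ∈ Z K) : ∃ t : K, ⁅w, xd t⁆ = z := by
  obtain ⟨x, hx⟩ := exists_sub (Z_skew hz)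
  have hw' : star w.a ≠ 0 := star_ne_zero.2 hw
  have k := comm_mem_Z w (xd_mem (x / star w.a))
  refine ⟨x / star w.a, U.ext (k.1.trans hz.1.symm) (k.2.1.trans hz.2.1.symm) (k.2.2.1.trans hz.2.2.1.symm)
    (k.2.2.2.1.trans hz.2.2.2.1.symm) (k.2.2.2.2.trans hz.2.2.2.2.symm) ?_⟩
  rw [← hx]
  simp only [comm_z, xd, star_div₀, star_star, star_zero]
  field_simp
  ring

theorem Z_comm (g : U K) {h : U K} (k : h ∈ Z K) : ⁅h, g⁆ = 1 := by
  rw [← commutatorElement_inv, comm_Z g k, inv_one]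

end ESCx

open ESCx

theorem esc1 : ESC1 K := by
  intro E M B h hZ hU
  obtain ⟨x, hx, hxE⟩ := SetLike.not_le_iff_exists.1 hU
  have hc : ∀ e : U K, ⁅e, x⁆ ∈ Z2 K := fun e => comm_mem_Z2 e (U0_le_Z3 hx)
  have hN : Nm E x := fun e _ => hZ (hc e)
  have key : ∀ f, M f → ¬ B f → ∃ v ∈ Z2 K, (f v).a ≠ 0 := fun f hf nf => by
    by_contra k
    push Not at k
    exact h.pair hf nf hN hxE hN hxE h.inv_bot
      (fun n hn => by rw [Subgroup.mem_bot.1 hn, commutatorElement_one_left])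
      (fun e _ => Subgroup.mem_bot.2 (comm_Q2_U0 (comm_a e x) hx))
      (fun e _ => Subgroup.mem_bot.2 (comm_Q2_U0 (k _ (hc e)) hx))
  have key2 : ∀ f g, M f → ¬ B f → M g → (∀ x ∈ E, g (f x) = x ∧ f (g x) = x) → ∀ z ∈ Z K, g z ∈ Z K := by
    intro f g hf nf hg e z hz
    obtain ⟨v, hv, ha⟩ := key f hf nf
    obtain ⟨t, rfl⟩ := onto ha hz
    have ht : xd t ∈ E := hZ (xd_mem t)
    have k : ⁅v, g (xd t)⁆ ∈ Z K := comm_symm (comm_mem_Z _ hv)
    rw [← (e _ ht).2, ← h.map_comm hf (hZ hv) (h.mem hg _ ht), (e _ (hZ (Z_le_Z2 k))).1]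
    exact k
  have hI : Inv E M (Z K) := h.inv_of_out (Z_le_Z2.trans hZ) fun f hf nf => by
    obtain ⟨g, hg, e⟩ := h.inv hf
    exact key2 g f hg (h.outInv hf nf hg fun x hx => (e x hx).1) hf fun x hx => (e x hx).symm
  obtain ⟨f, hf, nf⟩ := h.out
  obtain ⟨v, hv, ha⟩ := key f hf nf
  refine ⟨hI, f v, h.mem hf v (hZ hv), ha, fun e he => ?_⟩
  obtain ⟨e', he', rfl⟩ := h.surj hf he
  rw [← h.map_comm hf (hZ hv) he']
  exact hI.2 f hf _ (comm_symm (comm_mem_Z _ hv))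

theorem esc2 : ESC2 K := by
  intro E M B h hZ hI w hw ha hc hb
  have eqs : ∀ e ∈ E, e.b = 0 ∧ w.a * e.y = e.a * w.y := fun e he => by
    obtain ⟨k1, -, k3⟩ := comm_eqs ⟨(hc e he).2.2.1, (hc e he).2.2.2.1, (hc e he).2.2.2.2⟩
    rw [hb, mul_zero] at k1
    have k := (mul_eq_zero.1 k1).resolve_left ha
    rw [hb, k] at k3
    exact ⟨k, by simpa using k3⟩
  by_cases hy : w.y = 0
  · have hle : E ≤ Q1 K := fun e he => ⟨(eqs e he).1, by
      have := (eqs e he).2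
      rw [hy, mul_zero] at this
      exact (mul_eq_zero.1 this).resolve_left ha⟩
    exact le_antisymm hle fun x hx => h.mem1 hI (fun e he => comm_Q1 (hle he) hx) fun e he => Z_comm x he
  exfalso
  have sk : ∀ e ∈ E, star e.y = -e.y := fun e he => by rw [U.star_y, (eqs e he).1]; simp
  have hxQ : xa (w.a * w.y) ∈ Q1 K := ⟨rfl, rfl⟩
  have hX : ∀ g ∈ Z2 K, ∀ l : K, star l = l → g.d = l * w.a → g ∈ cz E E := fun g hg l hl hd =>
    mem_cz.2 ⟨hZ hg, fun e he => commutatorElement_eq_one_iff_mul_comm.1 (by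
      have k := comm_mem_Z e hg
      refine eq_one_iff.2 ⟨k.1, k.2.1, k.2.2.1, k.2.2.2.1, k.2.2.2.2, ?_⟩
      have k1 := (eqs e he).2
      have k2 := congrArg star k1
      simp only [star_mul', sk e he, sk w hw] at k2
      refine mul_left_cancel₀ hy ?_
      simp only [comm_z, hg.1, hg.2.1, hg.2.2.1, hg.2.2.2, hd, (eqs e he).1, star_zero, star_mul', hl]
      linear_combination (l * star w.a) * k1 + (l * w.a) * k2)⟩
  have hx : xa (w.a * w.y) ∈ E := by
    refine h.mem2 (h.inv_cz h.inv_top h.inv_top) hI (fun e he => hX _ ?_ (-(w.y * e.y)) ?_ ?_)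
      (fun v hv => comm_Q1 ?_ hxQ) fun e he => Z_comm _ he
    · simp [mem_Z2, xa, (eqs e he).1]
    · simp [sk e he, sk w hw]
    · simp [xa, (eqs e he).1]; ring
    · have va : v.a = 0 := by
        by_contra va
        obtain ⟨c, c0, hc⟩ := exists_skew K
        obtain ⟨t, ht⟩ := onto (z := xz c hc) va ⟨rfl, rfl, rfl, rfl, rfl⟩
        rw [commutatorElement_eq_one_iff_mul_comm.2 ((mem_cz.1 hv).2 _ (hZ (xd_mem t))).symm] at ht
        exact c0 (congrArg U.z ht).symm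
      have k := eqs v (mem_cz.1 hv).1
      rw [va, zero_mul] at k
      exact ⟨k.1, (mul_eq_zero.1 k.2).resolve_left ha⟩
  have k := (eqs _ hx).2
  simp [xa, ha, hy] at k

end CL.U5
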