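/-
Project U5, job ESC3 (helper28).
-/
import Cfsg.Agent.U5.Defs

set_option autoImplicit false
set_option linter.unusedSectionVars false

namespace CL.U5

open Cfsg CL.Fus
open scoped commutatorElement

universe u

variable {K : Type u} [Field K] [StarRing K] [UF K]

namespace ESC3x

/-- the additive map on `Z3` -/
def del (w x : U K) : K := star w.b * x.c + w.a * x.y

/-- the acting groups -/
def A (w : U K) (t : K) : Subgroup (U K) where
  carrier := {x | x ∈ Z3 K ∧ ∃ m, star m = m ∧ del w x = m * t}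
  mul_mem' := by
    rintro g h ⟨hg, m, hm, e⟩ ⟨hh, n, hn, e'⟩
    refine ⟨mul_mem hg hh, m + n, by rw [star_add, hm, hn], ?_⟩
    simp only [del, mul_c, mul_y, hg.1, hg.2] at e e' ⊢
    linear_combination e + e'
  one_mem' := ⟨one_mem _, 0, star_zero _, by simp [del]⟩
  inv_mem' := by
    rintro g ⟨hg, m, hm, e⟩
    refine ⟨inv_mem hg, -m, by rw [star_neg, hm], ?_⟩
    simp only [del, inv_c, inv_y, hg.1, hg.2] at e ⊢
    linear_combination -e

/-- the centres -/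
def Zc (t : K) : Subgroup (U K) where
  carrier := {x | x ∈ Z2 K ∧ ∃ m, star m = m ∧ x.d = m * t}
  mul_mem' := by
    rintro g h ⟨hg, m, hm, e⟩ ⟨hh, n, hn, e'⟩
    refine ⟨mul_mem hg hh, m + n, by rw [star_add, hm, hn], ?_⟩
    simp only [mul_d, hg.1, hg.2.2.1]
    linear_combination e + e'
  one_mem' := ⟨one_mem _, 0, star_zero _, by simp⟩
  inv_mem' := by
    rintro g ⟨hg, m, hm, e⟩
    refine ⟨inv_mem hg, -m, by rw [star_neg, hm], ?_⟩
    simp only [inv_d, hg.1, hg.2.2.1]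
    linear_combination -e

theorem card_le {t : K} (ht : t ≠ 0) {t' : K} (ht' : t' ≠ 0) : Nat.card (Zc t) ≤ Nat.card (Zc t') := by
  refine Nat.card_le_card_of_injective (fun g => ⟨⟨0, 0, 0, 0, g.1.d * t' / t, g.1.z, by simp, ?_⟩,
    ⟨rfl, rfl, rfl, rfl⟩, ?_⟩) fun g h e => ?_
  · have := g.1.hz
    simpa [g.2.1.1, g.2.1.2.2.1] using this
  · obtain ⟨m, hm, e⟩ := g.2.2
    exact ⟨m, hm, by simp only [e]; field_simp⟩
  · have e1 : g.1.d * t' / t = h.1.d * t' / t := congrArg (fun x => x.1.d) e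
    have e2 : g.1.z = h.1.z := congrArg (fun x => x.1.z) e
    refine Subtype.ext (U.ext (g.2.1.1.trans h.2.1.1.symm) (g.2.1.2.1.trans h.2.1.2.1.symm)
      (g.2.1.2.2.1.trans h.2.1.2.2.1.symm) (g.2.1.2.2.2.trans h.2.1.2.2.2.symm) ?_ e2)
    field_simp at e1
    exact e1

theorem lam {w e : U K} (ha : w.a ≠ 0) (hb : w.b ≠ 0) (h : ⁅w, e⁆ ∈ Z K) :
    star (e.a / w.a) = e.a / w.a ∧ ∀ x ∈ Z3 K, ⁅e, x⁆.d = e.a / w.a * del w x := by
  obtain ⟨h1, h2, -⟩ := comm_eqs ⟨h.2.2.1, h.2.2.2.1, h.2.2.2.2⟩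
  have e1 : e.b = e.a / w.a * w.b := by field_simp; linear_combination h1
  have hb' : star w.b ≠ 0 := star_ne_zero.2 hb
  have e2 : star (e.a / w.a) = e.a / w.a := by
    generalize e.a / w.a = l at e1
    rw [e1, star_mul'] at h2
    exact mul_right_cancel₀ (mul_ne_zero hb hb') (by linear_combination -h2)
  refine ⟨e2, fun x hx => ?_⟩
  have e3 : e.a = e.a / w.a * w.a := by field_simp
  generalize e.a / w.a = l at e1 e2 e3
  simp only [comm_d, hx.1, hx.2, del, e1, e3, star_mul', e2, star_zero]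
  ring

end ESC3x

open ESC3x in
theorem esc3 (h : TV.{u}) : ESC3 K := by
  intro E M B hC h2 hZ w hw ha hc
  by_contra hb
  have hb' : star w.b ≠ 0 := star_ne_zero.2 hb
  have L := fun e he => lam ha hb (hc e he)
  have cZ : ∀ n ∈ Z K, ∀ x : U K, ⁅n, x⁆ = 1 := fun n hn x => by
    rw [← commutatorElement_inv, comm_Z x hn, inv_one]
  have mZ : ∀ {g : U K}, g ∈ Z2 K → g.d = 0 → g ∈ Z K := fun k e => ⟨k.1, k.2.1, k.2.2.1, k.2.2.2, e⟩
  have hV := hC.inv_czm hC.inv_top hC.inv_top hZ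
  have Z2V : Z2 K ≤ czm E E (Z K) := fun g hg => mem_czm.2 ⟨h2 hg, fun x _ => comm_mem_Z x hg⟩
  have ex : ∀ c : K, ∃ x ∈ Z3 K, del w x = c := fun c => by
    obtain ⟨x, h1, h2, h3, h4, -⟩ := exists_el (0 : K) 0 (c / star w.b) 0 0 (by simp)
    exact ⟨x, ⟨h1, h2⟩, by rw [del, h3, h4]; field_simp; ring⟩
  obtain ⟨f, hf, nf⟩ := hC.out
  have T := h (U K) E M B hC (Z K) (czm E E (Z K)) {t : K // t ≠ 0} (fun t => A w t.1) (fun t => Zc t.1)
    (fun _ => Q2 K) hZ cZ hV (fun v hv => (mem_czm.1 hv).2)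
    (fun i => ⟨fun g hg => ⟨Z_le_Z2 hg, 0, star_zero _, by rw [hg.2.2.2.2, zero_mul]⟩, fun g hg => Z2V hg.1,
      fun g hg => hg.1.1⟩)
    (fun i x ⟨hx, m, hm, e⟩ v hv => ⟨comm_mem_Z2 v hx, v.a / w.a * m, by rw [star_mul', (L v hv).1, hm],
      by rw [(L v hv).2 x hx, e, mul_assoc]⟩)
    (fun i x hx v hv k => mZ (comm_mem_Z2 v hx.1) (by rw [(L v hv.1).2 x hx.1, mem_Q2.1 k, zero_div, zero_mul]))
    (fun i v hv k z ⟨hz, m, hm, e⟩ => by
      have k' : v.a / w.a ≠ 0 := div_ne_zero k ha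
      obtain ⟨x, hx, e'⟩ := ex (m / (v.a / w.a) * i.1)
      refine ⟨x, ⟨hx, _, by rw [star_div₀, hm, (L v hv.1).1], e'⟩,
        mZ (mul_mem (inv_mem (comm_mem_Z2 v hx)) hz) ?_⟩
      have k2 := comm_mem_Z2 v hx
      rw [mul_d, inv_d, inv_a, inv_c, k2.1, k2.2.2.1, (L v hv.1).2 x hx, e', e]
      generalize v.a / w.a = l at k'
      field_simp
      ring)
    (fun i x hx xE v hv k => by
      have k1 := k.2.2.2.2
      rw [(L v hv.1).2 x hx.1] at k1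
      rcases mul_eq_zero.1 k1 with e | e
      · exact (div_eq_zero_iff.1 e).resolve_right ha
      · exact absurd (hC.mem1 hZ (fun g hg => mZ (comm_mem_Z2 g hx.1) (by rw [(L g hg).2 x hx.1, e, mul_zero]))
          fun n hn => cZ n hn x) xE)
    (fun i => by
      obtain ⟨x, hx, e⟩ := ex i.1
      refine ⟨x, ⟨hx, 1, star_one _, by rw [e, one_mul]⟩, fun k => i.2 ?_⟩
      have k1 := (hc x k).2.2.2.2
      rwa [(L w hw).2 x hx, div_self ha, one_mul, e] at k1)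
    (fun i j => le_antisymm (card_le i.2 j.2) (card_le j.2 i.2)) f hf nf
  obtain ⟨s, hs⟩ := exists_ne K
  have sZ : xd s ∈ Z2 K := ⟨rfl, rfl, rfl, rfl⟩
  obtain ⟨z, ⟨hz, m, hm, e⟩, k⟩ := (T ⟨1, one_ne_zero⟩ ⟨1, one_ne_zero⟩).2 _ (hV.2 f hf _ (Z2V sZ))
  rw [← hC.map_inv hf (h2 sZ), ← hC.mul hf _ (inv_mem (h2 sZ)) _ (h2 hz)] at k
  have e1 : ((xd s)⁻¹ * z).d = m - s := by
    rw [mul_d, e]
    simp [xd]
    ring
  have n1 : m - s ≠ 0 := fun k => hs (by rw [← sub_eq_zero.1 k, hm])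
  exact n1 (e1 ▸ ((T ⟨_, n1⟩ ⟨1, one_ne_zero⟩).1 _
    ⟨mul_mem (inv_mem sZ) hz, 1, star_one _, by rw [e1, one_mul]⟩ k).2.2.2.2)

end CL.U5
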