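/-
Project U5: the images of `U0` under the automizer of an essential subgroup containing `U0` lie in `Q2`.
-/
import Cfsg.Agent.U5.Defs

set_option autoImplicit false
set_option linter.unusedSectionVars false

namespace CL.U5

open Cfsg CL.Fus
open scoped commutatorElement

universe u

variable {K : Type u} [Field K] [StarRing K] [UF K]

namespace ESD1x

theorem card_U0 : UF.q K ^ 4 ≤ Nat.card (U0 K) := by
  have := Nat.card_le_card_of_injective
    (fun t : {x : K // star x = -x} × K × {x : K // star x = -x} =>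
      (⟨⟨0, 0, 0, t.1, t.2.1, t.2.2, by simp [t.1.2], by simp [t.2.2.2]⟩, rfl, rfl, rfl⟩ : U0 K)) fun t t' e => by
    have e := U.ext_iff.1 (congrArg Subtype.val e)
    exact Prod.ext (Subtype.ext e.2.2.2.1) (Prod.ext e.2.2.2.2.1 (Subtype.ext e.2.2.2.2.2))
  rw [Nat.card_prod, Nat.card_prod, card_skew, card_K] at this
  exact le_of_eq_of_le (by ring) this

theorem fix_div {a x : K} (ha : a ≠ 0) (e : star x * a = star a * x) : star (x / a) = x / a := by
  rw [star_div₀, div_eq_div_iff (star_ne_zero.2 ha) ha, e, mul_comm]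

end ESD1x

open ESD1x in
theorem esd1 : ESD1 K := by
  intro E M B h hE f hf u hu
  by_contra ha
  replace ha : (f u).a ≠ 0 := ha
  have c1 : ∀ v ∈ U0 K, ∀ v' ∈ U0 K, ⁅f v, f v'⁆ = 1 := fun v hv v' hv' => by
    rw [← h.map_comm hf (hE hv) (hE hv'), comm_Q2_U0 hv.1 hv', h.map_one hf]
  have c2 : ∀ v ∈ U0 K, ∀ w ∈ U0 K, ⁅f w, ⁅f u, v⁆⁆ = 1 := fun v hv w hw => by
    obtain ⟨x, hx, rfl⟩ := h.surj hf (hE hv)
    rw [← h.map_comm hf (hE hu) hx]
    refine c1 _ hw _ ?_
    rw [commutatorElement_def, mul_assoc, mul_assoc, ← mul_assoc x]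
    exact mul_mem hu (Subgroup.Normal.conj_mem inferInstance _ (inv_mem hu) x)
  obtain ⟨y, y0, hy⟩ := exists_skew K
  have c3 : ∀ w ∈ U0 K, star (f w).a * (f u).a + star (f u).a * (f w).a = 0 := fun w hw => by
    have := congrArg U.z (c2 (xy y hy) ⟨rfl, rfl, rfl⟩ w hw)
    simp only [xy, comm_a, comm_b, comm_c, comm_y, comm_d, comm_z, one_z, star_zero, star_add, star_sub, star_mul',
      mul_zero, zero_mul, add_zero, zero_add, sub_zero, hy] at this
    exact mul_left_cancel₀ y0 (by linear_combination this)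
  have two : (2 : K) = 0 :=
    mul_left_cancel₀ (mul_ne_zero (star_ne_zero.2 ha) ha) (by linear_combination c3 u hu)
  have sq : ∀ v ∈ U0 K, f v * f v = 1 := fun v hv => h.map_sq hf (hE hv) (by
    simp only [eq_one_iff, mul_a, mul_b, mul_c, mul_y, mul_d, mul_z, hv.1, hv.2.1, hv.2.2, mul_zero, zero_mul, add_zero,
      sub_zero, true_and, ← two_mul, two, star_zero])
  have sb : (f u).b = 0 := by
    have := congrArg U.c (sq u hu)
    rw [mul_c, one_c] at this
    exact mul_left_cancel₀ ha (by linear_combination this - (f u).c * two)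
  have ker : ∀ v ∈ U0 K, (f v).a = 0 → (f v).b = 0 ∧ (f v).c = 0 ∧ (f v).y = 0 ∧
      star ((f v).d / (f u).a) = (f v).d / (f u).a ∧ star (f v).z = (f v).z := fun v hv a => by
    have e := eq_one_iff.1 (c1 v hv u hu)
    obtain ⟨e1, -, e3⟩ := comm_eqs ⟨e.2.2.1, e.2.2.2.1, e.2.2.2.2.1⟩
    have b : (f v).b = 0 := mul_left_cancel₀ ha (by rw [a] at e1; linear_combination -e1)
    have y : (f v).y = 0 := mul_left_cancel₀ ha (by rw [a, b, sb, star_zero] at e3; linear_combination -e3)
    have c : (f v).c = 0 := by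
      have := congrArg U.z (sq v hv)
      rw [mul_z, one_z, a, star_zero] at this
      have k : (f v).c * star (f v).c = 0 := by linear_combination (f v).z * two - this
      simpa using k
    have e4 := e.2.2.2.2.2
    rw [comm_z, a, b, c, y, star_zero] at e4
    refine ⟨b, c, y, fix_div ha (by linear_combination e4), ?_⟩
    rw [U.star_z, a, c, star_zero]
    linear_combination -(f v).z * two
  let φ : U0 K →* Multiplicative K := MonoidHom.mk' (fun v => Multiplicative.ofAdd ((f v).a / (f u).a)) fun v w => by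
    rw [Subgroup.coe_mul, h.mul hf _ (hE v.2) _ (hE w.2), mul_a, add_div, ofAdd_add]
  have k0 : ∀ v : φ.ker, (f v.1).a = 0 := fun v => (div_eq_zero_iff.1 (show _ / (f u).a = 0 from v.2)).resolve_right ha
  have k1 : Nat.card φ.range ≤ UF.q K := card_fix (K := K) ▸ Nat.card_le_card_of_injective
    (fun t : φ.range => (⟨t.1.toAdd, by
      obtain ⟨_, v, rfl⟩ := t
      exact fix_div ha (by linear_combination c3 v v.2 - star (f u).a * (f v).a * two)⟩ : {x : K // star x = x}))
    fun t t' e => Subtype.ext (Subtype.ext_iff.1 e :)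
  have k2 := Nat.card_le_card_of_injective (fun v : φ.ker =>
    ((⟨_, (ker v.1 v.1.2 (k0 v)).2.2.2.1⟩, ⟨_, (ker v.1 v.1.2 (k0 v)).2.2.2.2⟩) :
      {x : K // star x = x} × {x : K // star x = x})) fun v w e => by
    simp only [Prod.mk.injEq, Subtype.mk.injEq, div_left_inj' ha] at e
    obtain ⟨a1, a2, a3, -⟩ := ker v.1 v.1.2 (k0 v)
    obtain ⟨b1, b2, b3, -⟩ := ker w.1 w.1.2 (k0 w)
    exact Subtype.ext (Subtype.ext (h.inj hf (hE v.1.2) (hE w.1.2) (U.ext ((k0 v).trans (k0 w).symm) (a1.trans b1.symm)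
      (a2.trans b2.symm) (a3.trans b3.symm) e.1 e.2)))
  have k3 := card_U0 (K := K)
  rw [Nat.card_prod, card_fix] at k2
  rw [← φ.ker.card_mul_index, Subgroup.index_ker] at k3
  have k4 := k3.trans (Nat.mul_le_mul k2 k1)
  have := two_le_q (K := K)
  rw [← pow_two, ← pow_succ, Nat.pow_le_pow_iff_right this] at k4
  omega

end CL.U5
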