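import Cfsg.Agent.U5.Defs

/-! # U5-ESD2: `U0` is invariant when `E` is not inside `Q2` -/

set_option autoImplicit false

namespace CL.U5

open Cfsg CL.Fus
open scoped commutatorElement

universe u
variable {K : Type u} [Field K] [StarRing K]

namespace ESD2x

theorem xd_mem (t : K) : xd t ∈ U0 K := ⟨rfl, rfl, rfl⟩

/-- lemma L -/
theorem lemL {s w : U K} (hs : s.a = 0) (hw : w ∈ Z3 K) (hc : w.c ≠ 0) (k : ⁅s, w⁆ = 1) :
    s.b = 0 ∧ star s.c * w.c = star w.c * s.c := by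
  have e := eq_one_iff.1 k
  have e1 := e.2.2.2.2.1
  have e2 := e.2.2.2.2.2
  simp only [comm_d, comm_z, hs, hw.1, hw.2, star_zero] at e1 e2
  refine ⟨?_, by linear_combination e2⟩
  have : star s.b * w.c = 0 := by linear_combination e1
  exact star_eq_zero.1 ((mul_eq_zero.1 this).resolve_right hc)

theorem comm_of_ratio {r s : U K} {c : K} (hc : c ≠ 0) (hr : r ∈ Z3 K) (hs : s ∈ Z3 K)
    (e1 : star r.c * c = star c * r.c) (e2 : star s.c * c = star c * s.c) : ⁅r, s⁆ = 1 := by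
  have hz := comm_Z3 hr hs
  refine eq_one_iff.2 ⟨hz.1, hz.2.1, hz.2.2.1, hz.2.2.2.1, hz.2.2.2.2, ?_⟩
  simp only [comm_z, hr.1, hr.2, hs.1, hs.2, star_zero]
  refine mul_left_cancel₀ hc ?_
  linear_combination s.c * e1 - r.c * e2

variable [UF K]

theorem onto_Z {g : U K} (hg : g.a ≠ 0) {w : U K} (hw : w ∈ Z K) : ∃ t : K, ⁅xd t, g⁆ = w := by
  obtain ⟨x, hx⟩ := exists_sub (Z_skew hw)
  refine ⟨star (x / g.a), ?_⟩
  have hs : star g.a ≠ 0 := star_ne_zero.2 hg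
  ext
  · simp [hw.1]
  · simp [hw.2.1]
  · simp [xd, hw.2.2.1]
  · simp [xd, hw.2.2.2.1]
  · simp [xd, hw.2.2.2.2]
  · rw [← hx]
    simp [xd]
    field_simp
    ring

theorem a_eq_zero {g : U K} (k : ∀ t : K, ⁅xd t, g⁆ = 1) : g.a = 0 := by
  by_contra hg
  obtain ⟨c, hc, hs⟩ := exists_skew K
  obtain ⟨t, ht⟩ := onto_Z hg (w := xz c hs) ⟨rfl, rfl, rfl, rfl, rfl⟩
  rw [k t] at ht
  exact hc (congrArg U.z ht).symm

end ESD2x

open ESD2x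

theorem esd2 [UF K] : ESD2 K := by
  intro E M B h hU hE hQ
  obtain ⟨e0, he0, ha0⟩ := SetLike.not_le_iff_exists.1 hE
  have ha0 : e0.a ≠ 0 := ha0
  have hR : Inv E M (cl M (U0 K)) := h.inv_cl hU
  have hUR : U0 K ≤ cl M (U0 K) := h.le_cl
  have hRQ : cl M (U0 K) ≤ Q2 K := cl_le_of hQ
  have hR3 : cl M (U0 K) ≤ Z3 K := cl_le_of fun f hf v hv => by
    obtain ⟨g, hg, hg'⟩ := h.inv hf
    have hr : (f v).a = 0 := hQ f hf v hv
    have hw : ⁅g e0, v⁆ ∈ U0 K := Z2_le_U0 (comm_mem_Z2 _ (U0_le_Z3 hv))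
    have k : ⁅f v, ⁅e0, f v⁆⁆ = 1 := by
      conv_lhs => rw [← (hg' e0 he0).2]
      rw [← h.map_comm hf (h.mem hg _ he0) (hU hv), ← h.map_comm hf (hU hv) (hU hw),
        comm_Q2_U0 (Z3_le_Q2 (U0_le_Z3 hv)) hw, h.map_one hf]
    have e1 := (eq_one_iff.1 k).2.2.2.2.1
    rw [comm_d] at e1
    simp only [comm_a, comm_b, comm_c, hr, star_zero] at e1
    have e2 : star (f v).b * (e0.a * (f v).b) = 0 := by linear_combination e1
    refine ⟨hr, ?_⟩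
    rcases mul_eq_zero.1 e2 with e | e
    · exact star_eq_zero.1 e
    · exact (mul_eq_zero.1 e).resolve_left ha0
  have hR1 : Inv E M ⁅cl M (U0 K), E⁆ := h.inv_comm hR h.inv_top
  have hR1Z : ⁅cl M (U0 K), E⁆ ≤ Z2 K := Subgroup.commutator_le.2 fun r hr e _ =>
    comm_symm (comm_mem_Z2 e (hR3 hr))
  have hZR1 : Z K ≤ ⁅cl M (U0 K), E⁆ := fun w hw => by
    obtain ⟨t, rfl⟩ := onto_Z ha0 hw
    exact Subgroup.commutator_mem_commutator (hUR (xd_mem t)) he0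
  have hZ3 : Z3 K ≤ E := fun x hx => h.mem2 hR hR1 (fun e _ => hUR (Z2_le_U0 (comm_mem_Z2 e hx)))
    (fun r hr => hZR1 (comm_Z3 (hR3 hr) hx)) fun e he => by
      rw [← commutatorElement_inv, comm_Q2_U0 (Z3_le_Q2 hx) (Z2_le_U0 (hR1Z he)), inv_one]
  refine ⟨hU, fun f hf v hv => ?_⟩
  by_contra hn
  have hu1R : f v ∈ cl M (U0 K) := mem_cl hf hv
  have hu1 : f v ∈ Z3 K := hR3 hu1R
  have hc1 : (f v).c ≠ 0 := fun e => hn ⟨hu1.1, hu1.2, e⟩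
  obtain ⟨g, hg, hg'⟩ := h.inv hf
  have hRu : ∀ r ∈ cl M (U0 K), ⁅r, f v⁆ = 1 := fun r hr => Subgroup.mem_bot.1
    (h.comm_map hf hR h.inv_bot (hU hv) (fun y hy => Subgroup.mem_bot.2 (comm_Q2_U0 (hRQ hy) hv)) r hr)
  have hRh : Inv E M (cz E (cl M (U0 K))) := h.inv_cz h.inv_top hR
  have hURh : U0 K ≤ cz E (cl M (U0 K)) := fun w hw => mem_cz.2 ⟨hU hw, fun r hr =>
    commutatorElement_eq_one_iff_mul_comm.1 (comm_Q2_U0 (hRQ hr) hw)⟩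
  have hRhL : ∀ s ∈ cz E (cl M (U0 K)), s ∈ Z3 K ∧ star s.c * (f v).c = star (f v).c * s.c := fun s hs => by
    have ha : s.a = 0 := a_eq_zero fun t =>
      commutatorElement_eq_one_iff_mul_comm.2 ((mem_cz.1 hs).2 _ (hUR (xd_mem t)))
    have k := lemL ha hu1 hc1 (commutatorElement_eq_one_iff_mul_comm.2 ((mem_cz.1 hs).2 _ hu1R).symm)
    exact ⟨⟨ha, k.1⟩, k.2⟩
  obtain ⟨t, ht⟩ := exists_ne K
  obtain ⟨x, xa0, xb0, xc0, -, -⟩ := exists_el (0 : K) 0 (t * (f v).c) 0 0 (by simp)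
  have hx3 : x ∈ Z3 K := ⟨xa0, xb0⟩
  have hxE : x ∈ E := hZ3 hx3
  have hsu : ⁅f x, f v⁆ = 1 := by
    rw [← h.map_comm hf hxE (hU hv), comm_Q2_U0 (Z3_le_Q2 hx3) hv, h.map_one hf]
  have hsa : (f x).a ≠ 0 := fun ha => by
    have k := lemL ha hu1 hc1 hsu
    have hs : f x ∈ cz E (cl M (U0 K)) := mem_cz.2 ⟨h.mem hf x hxE, fun r hr =>
      commutatorElement_eq_one_iff_mul_comm.1 (comm_of_ratio hc1 (hR3 hr) ⟨ha, k.1⟩
        (lemL (hRQ hr) hu1 hc1 (hRu r hr)).2 k.2)⟩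
    have hx := hRh.2 g hg _ hs
    rw [(hg' x hxE).1] at hx
    have e := (hRhL x hx).2
    rw [xc0, star_mul'] at e
    refine ht (mul_left_cancel₀ (mul_ne_zero hc1 (star_ne_zero.2 hc1)) ?_)
    linear_combination e
  have key : ∀ w ∈ U0 K, ⁅g w, x⁆ ∈ Z K ∧ ⁅w, f x⁆ = f ⁅g w, x⁆ := fun w hw =>
    ⟨comm_Z3 (hRhL _ (hRh.2 g hg w (hURh hw))).1 hx3, by
      rw [h.map_comm hf (h.mem hg w (hU hw)) hxE, (hg' w (hU hw)).2]⟩
  have hZE : Z K ≤ E := Z_le_Z2.trans (Z2_le_U0.trans hU)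
  have hgZ : Set.MapsTo g (Z K : Set (U K)) (Z K) := fun w hw => by
    obtain ⟨t', rfl⟩ := onto_Z hsa hw
    obtain ⟨k1, k2⟩ := key _ (xd_mem t')
    rw [k2, (hg' _ (hZE k1)).1]
    exact k1
  have hbij := ((Set.toFinite _).injOn_iff_bijOn_of_mapsTo hgZ).1
    fun a ha b hb e => h.inj hg (hZE ha) (hZE hb) e
  have hfZ : ∀ w ∈ Z K, f w ∈ Z K := fun w hw => by
    obtain ⟨w', hw', rfl⟩ := hbij.surjOn hw
    rw [(hg' w' (hZE hw')).2]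
    exact hw'
  obtain ⟨y, hy, hys⟩ := exists_skew K
  obtain ⟨k1, k2⟩ := key (xy y hys) ⟨rfl, rfl, rfl⟩
  have k3 := (hfZ _ k1).2.2.2.2
  rw [← k2] at k3
  simp [xy, hsa, hy] at k3

end CL.U5
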