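/-
Project U5, step ESD3: a critical subgroup with invariant `U0` lies in `Q2`.
-/
import Cfsg.Agent.U5.Defs

set_option autoImplicit false
set_option linter.unusedSectionVars false

namespace CL.U5

open Cfsg CL.Fus
open scoped commutatorElement

universe u

variable {K : Type u} [Field K] [StarRing K] [UF K]

namespace ESD3x

variable {X Y : Subgroup (U K)} {e k g : U K}

theorem step (hY : Y ≤ X) (hk : k ∈ X) (h : k⁻¹ * g ∈ Y) : g ∈ X := by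
  simpa using mul_mem hk (hY h)

theorem lowZ (he : e.a ≠ 0) (h : ∀ x ∈ Z2 K, ⁅e, x⁆ ∈ X) : Z K ≤ X := fun g hg => by
  obtain ⟨x, hx⟩ := exists_sub (Z_skew hg)
  have h' : star e.a ≠ 0 := star_ne_zero.2 he
  have h1 : ⁅e, xd (x / star e.a)⁆ = g := by
    ext <;> simp [xd, hg.1, hg.2.1, hg.2.2.1, hg.2.2.2.1, hg.2.2.2.2]
    rw [← hx]; field_simp
  exact h1 ▸ h _ ⟨rfl, rfl, rfl, rfl⟩

theorem lowZ2 (hZ : Z K ≤ X) (h : ∀ s ∈ Q2 K, ∀ x ∈ Z3 K, ⁅s, x⁆ ∈ X) : Z2 K ≤ X := fun g hg => by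
  obtain ⟨y, hy⟩ := exists_y (1 : K)
  obtain ⟨x, h1, h2, h3, h4, h5⟩ := exists_el (0 : K) 0 g.d 0 0 (by simp)
  refine step hZ (h (xb 1 y hy) rfl x ⟨h1, h2⟩) ?_
  simp [mem_Z, xb, h1, h2, h3, h4, hg.1, hg.2.1, hg.2.2.1, hg.2.2.2]

theorem lowU0 (hZ : Z2 K ≤ X) (h : ∀ s ∈ Q2 K, ∀ x ∈ Q2 K, ⁅s, x⁆ ∈ X) : U0 K ≤ X := fun g hg => by
  obtain ⟨y, hy⟩ := exists_y (1 : K)
  obtain ⟨b, hb⟩ := exists_sub (c := g.y) (by simp [U.star_y, hg.2.1])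
  obtain ⟨y', hy'⟩ := exists_y b
  refine step hZ (h (xb 1 y hy) rfl (xb b y' hy') rfl) ?_
  simp [mem_Z2, xb, hg.1, hg.2.1, hg.2.2, ← hb]

theorem lowZ3 (he : e.a ≠ 0) (hZ : U0 K ≤ X) (h : ∀ x ∈ Q2 K, ⁅e, x⁆ ∈ X) : Z3 K ≤ X := fun g hg => by
  obtain ⟨y, hy⟩ := exists_y (g.c / e.a)
  refine step hZ (h (xb _ y hy) rfl) ?_
  simp [mem_U0, xb, hg.1, hg.2]
  field_simp
  ring

end ESD3x

open ESD3x in
theorem esd3 : ESD3 K := by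
  intro E M B h hU e he
  by_contra ha
  rw [mem_Q2] at ha
  have hP : ∀ s, s ∈ cz E (U0 K) ↔ s ∈ E ∧ s ∈ Q2 K := fun s => by
    refine mem_cz.trans (and_congr_right fun _ => ⟨fun k => ?_, fun k x hx =>
      (commutatorElement_eq_one_iff_mul_comm.1 (comm_Q2_U0 k hx)).symm⟩)
    by_contra h1
    have h2 : Z K ≤ ⊥ := lowZ h1 fun x hx => commutatorElement_eq_one_iff_mul_comm.2 (k x (Z2_le_U0 hx)).symm
    obtain ⟨c, h3, h4⟩ := exists_skew K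
    exact h3 (eq_one_iff.1 (h2 (x := xz c h4) ⟨rfl, rfl, rfl, rfl, rfl⟩)).2.2.2.2.2
  have hQ : Q2 K ≤ E := h.grow _ inferInstance fun x hx hn =>
    h.mem2 (h.inv_cz h.inv_top hU) hU (fun s hs => (hP _).2 ⟨hn s hs, comm_a s x⟩)
      (fun s hs => comm_Q2 ((hP s).1 hs).2 hx)
      fun s hs => Subgroup.mem_bot.1 (comm_symm (Subgroup.mem_bot.2 (comm_Q2_U0 hx hs)))
  have i1 := h.inv_comm h.inv_top h.inv_top
  have i2 := h.inv_comm i1 h.inv_top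
  have i3 := h.inv_comm i2 h.inv_top
  have u1 : ⁅E, E⁆ ≤ Z3 K := Subgroup.commutator_le.2 fun a _ b _ => comm_mem_Z3 a b
  have u2 : ⁅⁅E, E⁆, E⁆ ≤ Z2 K := Subgroup.commutator_le.2 fun a k b _ => comm_symm (comm_mem_Z2 b (u1 k))
  have u3 : ⁅⁅⁅E, E⁆, E⁆, E⁆ ≤ Z K := Subgroup.commutator_le.2 fun a k b _ => comm_symm (comm_mem_Z b (u2 k))
  have c1 : ∀ s ∈ E, ∀ x ∈ Q2 K, ⁅s, x⁆ ∈ ⁅E, E⁆ := fun s hs x hx => Subgroup.commutator_mem_commutator hs (hQ hx)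
  have l1 : Z3 K ≤ ⁅E, E⁆ := lowZ3 ha (lowU0 (lowZ2 (lowZ ha fun x hx => c1 e he x hx.1) fun s hs x hx =>
    c1 s (hQ hs) x hx.1) fun s hs => c1 s (hQ hs)) (c1 e he)
  have c2 : ∀ s ∈ E, ∀ x ∈ Z3 K, ⁅s, x⁆ ∈ ⁅⁅E, E⁆, E⁆ := fun s hs x hx =>
    comm_symm (Subgroup.commutator_mem_commutator (l1 hx) hs)
  have l2 : Z2 K ≤ ⁅⁅E, E⁆, E⁆ :=
    lowZ2 (lowZ ha fun x hx => c2 e he x (U0_le_Z3 (Z2_le_U0 hx))) fun s hs => c2 s (hQ hs)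
  have l3 : Z K ≤ ⁅⁅⁅E, E⁆, E⁆, E⁆ := lowZ ha fun x hx => comm_symm (Subgroup.commutator_mem_commutator (l2 hx) he)
  refine h.ne (top_unique fun x _ => h.mem3 i1 i2 i3 (fun s _ => l1 (comm_mem_Z3 s x))
    (fun s hs => l2 (comm_symm (comm_mem_Z2 x (u1 hs)))) (fun s hs => l3 (comm_symm (comm_mem_Z x (u2 hs))))
    fun s hs => Subgroup.mem_bot.1 (comm_symm (Subgroup.mem_bot.2 (comm_Z x (u3 hs)))))

end CL.U5
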