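/-
Project U5: the linear groups on `Q1 / Z` and `Q2 / U0`, the matrix model, and the statements of the remaining parts.
-/
import Cfsg.Agent.U5.Defs
import Cfsg.Prelude.Def_Classical

set_option autoImplicit false
set_option linter.unusedSectionVars false

namespace CL.U5

open Cfsg CL.Fus Matrix
open scoped commutatorElement

universe u

/-! ### additive automorphisms -/

abbrev Au (V : Type u) [AddCommGroup V] := V ≃ₗ[ℤ] V
abbrev V2 (K : Type u) := K × K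
abbrev V3 (K : Type u) := K × K × K

section Aut
variable {V : Type u} [AddCommGroup V]

instance [Finite V] : Finite (Au V) := Finite.of_injective (fun g : Au V => (g : V → V)) DFunLike.coe_injective

theorem au_mul (g h : Au V) (v : V) : (g * h) v = g (h v) := rfl
theorem au_one (v : V) : (1 : Au V) v = v := rfl
theorem au_inv_apply (g : Au V) (v : V) : g⁻¹ (g v) = v := g.symm_apply_apply v
theorem au_apply_inv (g : Au V) (v : V) : g (g⁻¹ v) = v := g.apply_symm_apply v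
theorem au_ext {g h : Au V} (k : ∀ v, g v = h v) : g = h := LinearEquiv.ext k

/-- an additive map with a two-sided inverse -/
def mkAu (f g : V → V) (add : ∀ v w, f (v + w) = f v + f w) (l : ∀ v, g (f v) = v) (r : ∀ v, f (g v) = v) : Au V :=
  (AddEquiv.mk ⟨f, g, l, r⟩ add).toIntLinearEquiv

@[simp] theorem mkAu_apply (f g : V → V) (add : ∀ v w, f (v + w) = f v + f w) (l : ∀ v, g (f v) = v)
    (r : ∀ v, f (g v) = v) (v : V) : mkAu f g add l r v = f v := rfl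

theorem exists_au [Finite V] (f : V → V) (add : ∀ v w, f (v + w) = f v + f w) (inj : Function.Injective f) :
    ∃ g : Au V, ∀ v, g v = f v :=
  ⟨(AddEquiv.mk (Equiv.ofBijective f (Finite.injective_iff_bijective.1 inj)) add).toIntLinearEquiv, fun _ => rfl⟩

/-- an injective map of a finite type keeping a set maps it onto itself -/
theorem inv_mem_of [Finite V] {g : Au V} {W : Set V} (h : ∀ v ∈ W, g v ∈ W) {v : V} (hv : v ∈ W) : g⁻¹ v ∈ W := by
  obtain ⟨w, hw, rfl⟩ := ((Set.toFinite W).injOn_iff_bijOn_of_mapsTo h).1 g.injective.injOn |>.surjOn hv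
  rwa [au_inv_apply]

end Aut

section Lin
variable {K : Type u} [Field K] [StarRing K]

/-! ### `Q1 / Z` -/

def pV (g : U K) : V3 K := (g.a, g.c, g.d)

/-- the commutator form -/
def fm (u v : V3 K) : K := star u.1 * v.2.2 + star u.2.1 * v.2.1 + star u.2.2 * v.1 -
  (star v.1 * u.2.2 + star v.2.1 * u.2.1 + star v.2.2 * u.1)

theorem comm_z_Q1 {g h : U K} (k : g ∈ Q1 K) (k' : h ∈ Q1 K) : ⁅g, h⁆.z = fm (pV g) (pV h) := by
  simp [fm, pV, k.1, k.2, k'.1, k'.2]; ring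
theorem pV_mul {g h : U K} (k' : h ∈ Q1 K) : pV (g * h) = pV g + pV h := by simp [pV, k'.1, k'.2]
theorem pV_eq_zero {g : U K} (k : g ∈ Q1 K) : pV g = 0 ↔ g ∈ Z K := by simp [pV, mem_Z, k.1, k.2]

def Mt (b y : K) : Au (V3 K) := mkAu (fun v => (v.1, v.2.1 - b * v.1, v.2.2 + star b * v.2.1 + star y * v.1))
  (fun v => (v.1, v.2.1 + b * v.1, v.2.2 - star b * (v.2.1 + b * v.1) - star y * v.1))
  (fun v w => by ext <;> simp <;> ring) (fun v => by ext <;> simp <;> ring) (fun v => by ext <;> simp <;> ring)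

theorem Mt_apply (b y : K) (v : V3 K) : Mt b y v = (v.1, v.2.1 - b * v.1, v.2.2 + star b * v.2.1 + star y * v.1) := rfl
theorem Mt_mul (b y b' y' : K) : Mt b y * Mt b' y' = Mt (b + b') (y + y' - b * star b') :=
  au_ext fun v => by ext <;> simp [au_mul, Mt_apply] <;> ring
theorem Mt_zero : Mt (0 : K) 0 = 1 := au_ext fun v => by ext <;> simp [Mt_apply]
theorem Mt_inv (b y : K) : (Mt b y)⁻¹ = Mt (-b) (-y - b * star b) :=
  inv_eq_of_mul_eq_one_right (by rw [Mt_mul, ← Mt_zero]; congr 1 <;> simp <;> ring)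
theorem fm_Mt {b y : K} (h : y + star y + b * star b = 0) (u v : V3 K) : fm (Mt b y u) (Mt b y v) = fm u v := by
  simp only [fm, Mt_apply, star_add, star_sub, star_mul', star_star]
  linear_combination (star u.1 * v.1 - star v.1 * u.1) * h

theorem pV_conj (s : U K) {g : U K} (k : g ∈ Q1 K) : pV (s * g * s⁻¹) = Mt s.b s.y (pV g) := by
  simp only [pV, conj_a, conj_c, conj_d, Mt_apply, k.1, k.2, U.star_y]
  ext <;> simp <;> ring

/-- the image of the Sylow subgroup -/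
def TM (K : Type u) [Field K] [StarRing K] : Subgroup (Au (V3 K)) where
  carrier := {g | ∃ b y, y + star y + b * star b = 0 ∧ Mt b y = g}
  mul_mem' := by
    rintro _ _ ⟨b, y, h, rfl⟩ ⟨b', y', h', rfl⟩
    exact ⟨_, _, by simp; linear_combination h + h', (Mt_mul b y b' y').symm⟩
  one_mem' := ⟨0, 0, by simp, Mt_zero⟩
  inv_mem' := by rintro _ ⟨b, y, h, rfl⟩; exact ⟨_, _, by simp; linear_combination -h, (Mt_inv b y).symm⟩

theorem mem_TM {g : Au (V3 K)} : g ∈ TM K ↔ ∃ b y, y + star y + b * star b = 0 ∧ Mt b y = g := Iff.rfl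

/-- the opposite transvections -/
def Mm (y : K) : Au (V3 K) := mkAu (fun v => (v.1 + y * v.2.2, v.2.1, v.2.2)) (fun v => (v.1 - y * v.2.2, v.2.1, v.2.2))
  (fun v w => by ext <;> simp; ring) (fun v => by ext <;> simp) (fun v => by ext <;> simp)

theorem Mm_apply (y : K) (v : V3 K) : Mm y v = (v.1 + y * v.2.2, v.2.1, v.2.2) := rfl

def rV (K : Type u) [Field K] : Au (V3 K) := mkAu (fun v => (v.2.2, -v.2.1, v.1)) (fun v => (v.2.2, -v.2.1, v.1))
  (fun v w => by ext <;> simp; ring) (fun v => by ext <;> simp) (fun v => by ext <;> simp)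

theorem rV_apply (v : V3 K) : rV K v = (v.2.2, -v.2.1, v.1) := rfl
theorem pV_r1 (g : Q1 K) : pV (r1 K g : U K) = rV K (pV g) := rfl

def actV (h : Par K) : Au (V3 K) :=
  mkAu (fun v => (h.l * h.γ v.1, h.l * h.m * h.γ v.2.1, h.l * h.m * star (h.m : K) * h.γ v.2.2))
    (fun v => (h.γ.symm (v.1 / h.l), h.γ.symm (v.2.1 / (h.l * h.m)), h.γ.symm (v.2.2 / (h.l * h.m * star (h.m : K)))))
    (fun v w => by ext <;> simp <;> ring) (fun v => by ext <;> simp)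
    (fun v => by ext <;> simp only [RingEquiv.apply_symm_apply] <;> rw [mul_div_cancel₀] <;> simp)

theorem actV_apply (h : Par K) (v : V3 K) :
    actV h v = (h.l * h.γ v.1, h.l * h.m * h.γ v.2.1, h.l * h.m * star (h.m : K) * h.γ v.2.2) := rfl
theorem pV_act [UF K] (h : Par K) (g : U K) : pV (act h g) = actV h (pV g) := rfl

/-- `g` keeps the line `{(0, 0, d)}` -/
def PL (g : Au (V3 K)) : Prop := ∀ d, (g (0, 0, d)).1 = 0 ∧ (g (0, 0, d)).2.1 = 0

/-- `g` respects the commutator form -/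
def Conf (g : Au (V3 K)) : Prop := ∃ ζ : K → K, ∀ u v, fm (g u) (g v) = ζ (fm u v)

/-- the image of the line under `g` is in normal form -/
def NF (g : Au (V3 K)) (a b c : K) : Prop := (∀ d, ∃ x, g (0, 0, d) = (x, a * star x, b * x + c * star x)) ∧
  ∀ x, ∃ d, g (0, 0, d) = (x, a * star x, b * x + c * star x)

structure H1 (L : Subgroup (Au (V3 K))) : Prop where
  T : TM K ≤ L
  conf : ∀ g ∈ L, Conf g
  sr : ∀ g ∈ L, ∀ t ∈ TM K, t ≠ 1 → PL (g⁻¹ * t * g) → PL g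

/-! ### `Q2 / U0` -/

def pW (g : U K) : V2 K := (g.b, g.c)

theorem pW_mul {g : U K} (k : g ∈ Q2 K) (h : U K) : pW (g * h) = pW g + pW h := by simp [pW, mem_Q2.1 k]
theorem pW_eq_zero {g : U K} (k : g ∈ Q2 K) : pW g = 0 ↔ g ∈ U0 K := by simp [pW, mem_U0, mem_Q2.1 k]

def Tw (a : K) : Au (V2 K) := mkAu (fun v => (v.1, v.2 + a * v.1)) (fun v => (v.1, v.2 - a * v.1))
  (fun v w => by ext <;> simp; ring) (fun v => by ext <;> simp) (fun v => by ext <;> simp)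

omit [StarRing K] in
theorem Tw_apply (a : K) (v : V2 K) : Tw a v = (v.1, v.2 + a * v.1) := rfl
omit [StarRing K] in
theorem Tw_add (a a' : K) : Tw (a + a') = Tw a * Tw a' := au_ext fun v => by ext <;> simp [au_mul, Tw_apply]; ring
omit [StarRing K] in
theorem Tw_zero : Tw (0 : K) = 1 := au_ext fun v => by ext <;> simp [Tw_apply]
theorem pW_conj (s : U K) {g : U K} (k : g ∈ Q2 K) : pW (s * g * s⁻¹) = Tw s.a (pW g) := by
  simp only [pW, conj_b, conj_c, Tw_apply, mem_Q2.1 k]; simp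

def TW (K : Type u) [Field K] : Subgroup (Au (V2 K)) where
  carrier := {g | ∃ a, Tw a = g}
  mul_mem' := by rintro _ _ ⟨a, rfl⟩ ⟨a', rfl⟩; exact ⟨_, Tw_add a a'⟩
  one_mem' := ⟨_, Tw_zero⟩
  inv_mem' := by rintro _ ⟨a, rfl⟩; exact ⟨-a, eq_inv_of_mul_eq_one_left (by rw [← Tw_add, neg_add_cancel, Tw_zero])⟩

omit [StarRing K] in
theorem mem_TW {g : Au (V2 K)} : g ∈ TW K ↔ ∃ a, Tw a = g := Iff.rfl

def rW (K : Type u) [Field K] : Au (V2 K) := mkAu (fun v => (-v.2, v.1)) (fun v => (v.2, -v.1))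
  (fun v w => by ext <;> simp; ring) (fun v => by ext <;> simp) (fun v => by ext <;> simp)

omit [StarRing K] in
theorem rW_apply (v : V2 K) : rW K v = (-v.2, v.1) := rfl
theorem pW_r2 (g : Q2 K) : pW (r2 K g : U K) = rW K (pW g) := rfl

def actW (h : Par K) : Au (V2 K) := mkAu (fun v => (h.m * h.γ v.1, h.l * h.m * h.γ v.2))
  (fun v => (h.γ.symm (v.1 / h.m), h.γ.symm (v.2 / (h.l * h.m)))) (fun v w => by ext <;> simp <;> ring)
  (fun v => by ext <;> simp) (fun v => by ext <;> simp only [RingEquiv.apply_symm_apply] <;> rw [mul_div_cancel₀] <;> simp)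

omit [StarRing K] in
theorem actW_apply (h : Par K) (v : V2 K) : actW h v = (h.m * h.γ v.1, h.l * h.m * h.γ v.2) := rfl
theorem pW_act [UF K] (h : Par K) (g : U K) : pW (act h g) = actW h (pW g) := rfl

/-- `g` keeps the line `{(0, c)}` -/
def PW (g : Au (V2 K)) : Prop := ∀ c, (g (0, c)).1 = 0

/-- `g` maps lines to lines -/
def Lines (g : Au (V2 K)) : Prop := ∀ (v : V2 K) (k : K), ∃ k' : K, g (k • v) = k' • g v

/-! ### matrices -/

def Jm (K : Type u) [Field K] : Matrix (Fin 5) (Fin 5) K :=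
  !![0, 0, 0, 0, 1; 0, 0, 0, 1, 0; 0, 0, 1, 0, 0; 0, 1, 0, 0, 0; 1, 0, 0, 0, 0]

/-- the special unitary group of the form `Jm` -/
def SUm (K : Type u) [Field K] [StarRing K] : Subgroup (SpecialLinearGroup (Fin 5) K) where
  carrier := {M | M.1 * Jm K * M.1ᴴ = Jm K}
  mul_mem' := fun {M N} (hM : M.1 * Jm K * M.1ᴴ = Jm K) (hN : N.1 * Jm K * N.1ᴴ = Jm K) =>
    show M.1 * N.1 * Jm K * (M.1 * N.1)ᴴ = Jm K by
      rw [conjTranspose_mul, show M.1 * N.1 * Jm K * (N.1ᴴ * M.1ᴴ) = M.1 * (N.1 * Jm K * N.1ᴴ) * M.1ᴴ by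
        simp only [Matrix.mul_assoc], hN, hM]
  one_mem' := by simp
  inv_mem' := fun {M} (hM : M.1 * Jm K * M.1ᴴ = Jm K) => show M⁻¹.1 * Jm K * M⁻¹.1ᴴ = Jm K by
    have e : M⁻¹.1 * M.1 = 1 := congrArg Subtype.val (inv_mul_cancel M)
    rw [← hM, show M⁻¹.1 * (M.1 * Jm K * M.1ᴴ) * M⁻¹.1ᴴ = M⁻¹.1 * M.1 * Jm K * (M⁻¹.1 * M.1)ᴴ by
      simp only [conjTranspose_mul, Matrix.mul_assoc], e, hM]
    simp

theorem mem_SUm {M : SpecialLinearGroup (Fin 5) K} : M ∈ SUm K ↔ M.1 * Jm K * M.1ᴴ = Jm K := Iff.rfl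

def matM (g : U K) : Matrix (Fin 5) (Fin 5) K :=
  !![1, g.a, g.c, g.d, g.z; 0, 1, g.b, g.y, -(star g.a * g.y + star g.c * g.b + star g.d);
    0, 0, 1, -star g.b, star g.a * star g.b - star g.c; 0, 0, 0, 1, -star g.a; 0, 0, 0, 0, 1]

theorem matM_mul (g h : U K) : matM (g * h) = matM g * matM h := by
  ext i j
  rw [Matrix.mul_apply, Fin.sum_univ_five]
  fin_cases i <;> fin_cases j <;> simp only [matM, Fin.zero_eta, Fin.mk_one, Fin.reduceFinMk, Fin.isValue, of_apply,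
    cons_val, mul_a, mul_b, mul_c, mul_y, mul_d, mul_z, star_add, star_sub, star_mul', star_star, U.star_y] <;> ring

theorem det_matM (g : U K) : (matM g).det = 1 := by
  rw [det_of_upperTriangular]
  · simp [matM, Fin.prod_univ_five]
  · intro i j h
    fin_cases i <;> fin_cases j <;> simp [matM] at h ⊢

theorem matM_mem (g : U K) : matM g * Jm K * (matM g)ᴴ = Jm K := by
  ext i j
  simp only [Matrix.mul_apply, Fin.sum_univ_five, conjTranspose_apply]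
  fin_cases i <;> fin_cases j <;> simp only [matM, Jm, Fin.zero_eta, Fin.mk_one, Fin.reduceFinMk, Fin.isValue, of_apply,
    cons_val, star_add, star_sub, star_neg, star_mul', star_star, star_zero, star_one, U.star_y, U.star_z] <;> ring

/-- the matrix model -/
def mat : U K →* SUm K := MonoidHom.mk' (fun g => ⟨⟨matM g, det_matM g⟩, matM_mem g⟩) fun g h =>
  Subtype.ext (Subtype.ext (matM_mul g h))

theorem mat_coe (g : U K) : (mat g).1.1 = matM g := rfl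

theorem mat_inj : Function.Injective (mat : U K →* SUm K) := fun g h e => by
  have k : matM g = matM h := congrArg (fun M : SUm K => M.1.1) e
  exact U.ext (congrFun (congrFun k 0) 1) (congrFun (congrFun k 1) 2) (congrFun (congrFun k 0) 2)
    (congrFun (congrFun k 1) 3) (congrFun (congrFun k 0) 3) (congrFun (congrFun k 0) 4)

end Lin

/-! ### the statements of the parts -/

section Parts
variable (K : Type u) [Field K] [StarRing K] [UF K]

def L1S : Prop := ∀ (p : ℕ) [Fact p.Prime] [CharP K p] (L : Subgroup (Au (V3 K))), SylIn p (TM K) L →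
  (∀ g ∈ L, Conf g) → H1 L ∧ ∀ g ∈ L, PL g → ∀ t ∈ TM K, g * t * g⁻¹ ∈ TM K

/-- the conjugates of the line are subspaces over the fixed field -/
def L1F : Prop := ∀ L : Subgroup (Au (V3 K)), H1 L → ∀ g ∈ L, ∀ l d : K, star l = l →
  ∃ d', g (0, 0, d') = l • g (0, 0, d)

/-- another conjugate of the line meets its perpendicular space trivially -/
def L1P : Prop := ∀ L : Subgroup (Au (V3 K)), H1 L → ∀ g ∈ L, ¬ PL g → ∀ d, (g (0, 0, d)).1 = 0 → d = 0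

def L1A : Prop := ∀ L : Subgroup (Au (V3 K)), H1 L → ∀ g ∈ L, ¬ PL g →
  ∃ t ∈ TM K, ∃ a b c, b + star b = a * star a ∧ NF (t * g) a b c

def L1B : Prop := ∀ L : Subgroup (Au (V3 K)), H1 L → ∀ g ∈ L, ∀ g' ∈ L, ∀ a b c a' b' c', b + star b = a * star a →
  b' + star b' = a' * star a' → NF g a b c → NF g' a' b' c' → a = a' ∧ c = c' ∧ 2 * a = 0

def L1C : Prop := ∀ L : Subgroup (Au (V3 K)), H1 L → (∃ g ∈ L, NF g 0 0 0) →
  (∀ g ∈ L, PL g ∨ ∃ t ∈ TM K, NF (t * g) 0 0 0) → ∀ y, star y = -y → Mm y ∈ L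

def SU3 : Prop := ∀ L : Subgroup (Au (V3 K)), TM K ≤ L → (∀ y, star y = -y → Mm y ∈ L) →
  rV K ∈ L ∧ ∀ v, actV (hb v) ∈ L

def LIN1 : Prop := ∀ L : Subgroup (Au (V3 K)), H1 L → (∃ g ∈ L, ¬ PL g) →
  (∀ g ∈ L, PL g → ∃ t ∈ TM K, ∃ h, actV h ∈ L ∧ g = t * actV h) →
  rV K ∈ L ∧ (∀ v, actV (hb v) ∈ L) ∧ ∀ g ∈ L, PL g ∨ ∃ t ∈ TM K, PL (rV K * t * g)

def LIN2 : Prop := ∀ (p : ℕ) [Fact p.Prime] [CharP K p] (L : Subgroup (Au (V2 K))), SylIn p (TW K) L →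
  (∀ g ∈ L, Lines g) → (∀ g ∈ L, PW g → ∀ t ∈ TW K, g * t * g⁻¹ ∈ TW K) ∧ ((∃ g ∈ L, ¬ PW g) →
    rW K ∈ L ∧ (∀ u, actW (ha u) ∈ L) ∧ ∀ g ∈ L, PW g ∨ ∃ t ∈ TW K, PW (rW K * t * g))

def RHO1 : Prop := ∃ ρ : MulAut (Q1 K) →* Au (V3 K), (∀ α (x : Q1 K), pV (α x : U K) = ρ α (pV x)) ∧
  (∀ α, Conf (ρ α)) ∧ ∀ (p : ℕ) [Fact p.Prime] [CharP K p], IsPGroup p ρ.ker

def RHO2 : Prop := ∃ ρ : MulAut (Q2 K) →* Au (V2 K), (∀ α (x : Q2 K), pW (α x : U K) = ρ α (pW x)) ∧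
  (∀ α, Lines (ρ α)) ∧ ∀ (p : ℕ) [Fact p.Prime] [CharP K p], IsPGroup p ρ.ker

def LIFT1 : Prop := ∀ A : Subgroup (MulAut (Q1 K)), (∀ s ∈ Q1 K, MulAut.conjNormal s ∈ A) →
  (∀ α ∈ A, (∀ x : Q1 K, pV (α x : U K) = pV x) → ∃ s ∈ Q1 K, α = MulAut.conjNormal s) →
  (∀ v, ∃ α ∈ A, Res (act (hb v)) α) → ∀ g ∈ A, (∀ x : Q1 K, pV (g x : U K) = rV K (pV x)) → r1 K ∈ A

def LIFT2 : Prop := ∀ A : Subgroup (MulAut (Q2 K)), (∀ s ∈ Q2 K, MulAut.conjNormal s ∈ A) →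
  (∀ α ∈ A, (∀ x : Q2 K, pW (α x : U K) = pW x) → ∃ s ∈ Q2 K, α = MulAut.conjNormal s) →
  (∀ u v, ∃ α ∈ A, Res (act (ha u * hb v)) α) → ∀ g ∈ A, (∀ x : Q2 K, pW (g x : U K) = rW K (pW x)) → r2 K ∈ A

def GEN1 : Prop := ∀ (p : ℕ) [Fact p.Prime] [CharP K p] (A0 : Subgroup (MulAut (U K))) (A : Subgroup (MulAut (Q1 K)))
  (H : Subgroup (Par K)), Rk1 p (Q1 K) A0 A → Std A0 H → (∀ v, hb v ∈ H) ∧ r1 K ∈ A ∧
    ∀ A' : Subgroup (MulAut (Q1 K)), r1 K ∈ A' → (∀ α ∈ A0, ∀ a, Res α a → a ∈ A') → A ≤ A'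

def GEN2 : Prop := ∀ (p : ℕ) [Fact p.Prime] [CharP K p] (A0 : Subgroup (MulAut (U K))) (A : Subgroup (MulAut (Q2 K)))
  (H : Subgroup (Par K)), Rk1 p (Q2 K) A0 A → Std A0 H → (∀ u, ha u ∈ H) ∧ ((∀ v, hb v ∈ H) → r2 K ∈ A ∧
    ∀ A' : Subgroup (MulAut (Q2 K)), r2 K ∈ A' → (∀ α ∈ A0, ∀ a, Res α a → a ∈ A') → A ≤ A')

/-- the normaliser of the unipotent group -/
def MB : Prop := ∀ g : SUm K, (∀ x, ∃ x', g * mat x * g⁻¹ = mat x') →
  ∃ s u v, ∀ x, g * mat x * g⁻¹ = mat (s * act (ha u * hb v) x * s⁻¹)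

def MC : Prop := Nonempty (SUm K ≃* Cfsg.SU 5 K (UF.q K)) ∧
  ∀ (p : ℕ) [Fact p.Prime] [CharP K p], ¬ p ∣ (mat : U K →* SUm K).range.index

def MD : Prop := (∃ φ : Par K →* MulAut (SUm K), ∀ h x, φ h (mat x) = mat (act h x)) ∧
  (∃ g : SUm K, ∀ x : Q1 K, mat (r1 K x : U K) = g * mat (x : U K) * g⁻¹) ∧
  ∃ g : SUm K, ∀ x : Q2 K, mat (r2 K x : U K) = g * mat (x : U K) * g⁻¹

def REAL : Prop := ∀ (p : ℕ) [Fact p.Prime] [CharP K p] (H : Subgroup (Par K)), ¬ p ∣ Nat.card H → (∀ u, ha u ∈ H) →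
  (∀ v, hb v ∈ H) → ∃ (G : Type u) (_ : Group G) (_ : Finite G) (ι : U K →* G), Function.Injective ι ∧
    ¬ p ∣ ι.range.index ∧
    (∀ α : MulAut (U K), (∃ g, ∀ x, ι (α x) = g * ι x * g⁻¹) ↔ ∃ s, ∃ h ∈ H, α = MulAut.conj s * act h) ∧
    (∃ g, ∀ x : Q1 K, ι (r1 K x : U K) = g * ι (x : U K) * g⁻¹) ∧
    ∃ g, ∀ x : Q2 K, ι (r2 K x : U K) = g * ι (x : U K) * g⁻¹

def SYL : Prop := ∀ (p : ℕ) [Fact p.Prime] [CharP K p] (T : Sylow p (Cfsg.PSU 5 K (UF.q K))),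
  Nonempty (↥(T : Subgroup (Cfsg.PSU 5 K (UF.q K))) ≃* U K)

end Parts

end CL.U5
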