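/-
Project U5: the automizer of `Q1` is generated by the reflection and the restrictions.
-/
import Cfsg.Agent.U5.Defs2

set_option autoImplicit false
set_option linter.unusedSectionVars false

namespace CL.U5

open Cfsg CL.Fus

universe u

variable {K : Type u} [Field K] [StarRing K] [UF K]

namespace Gen1x

theorem pV_surj (v : V3 K) : ∃ x : Q1 K, pV (x : U K) = v := by
  obtain ⟨g, h1, h2, h3, h4, h5⟩ := exists_el v.1 0 v.2.1 0 v.2.2 (by simp)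
  exact ⟨⟨g, h2, h4⟩, by simp [pV, h1, h3, h5]⟩

variable {ρ : MulAut (Q1 K) →* Au (V3 K)} (hρ : ∀ α (x : Q1 K), pV (α x : U K) = ρ α (pV x))
include hρ

theorem rho_eq {a : MulAut (Q1 K)} {g : Au (V3 K)} (h : ∀ x : Q1 K, pV (a x : U K) = g (pV x)) : ρ a = g :=
  au_ext fun v => by
    obtain ⟨x, rfl⟩ := pV_surj v
    rw [← hρ, h]

theorem rho_conj (s : U K) : ρ (MulAut.conjNormal s) = Mt s.b s.y := rho_eq hρ fun x => pV_conj s x.2

theorem rho_r1 : ρ (r1 K) = rV K := rho_eq hρ pV_r1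

theorem rho_act {h : Par K} {a : MulAut (Q1 K)} (k : Res (act h) a) : ρ a = actV h :=
  rho_eq hρ fun x => by rw [k x, pV_act]

theorem rho_std {s : U K} {h : Par K} {a : MulAut (Q1 K)} (k : Res (MulAut.conj s * act h) a) :
    ρ a = Mt s.b s.y * actV h :=
  rho_eq hρ fun x => by
    rw [k x, au_mul, ← pV_act, ← pV_conj s ((act_Q1 h x).2 x.2)]; rfl

theorem rho_TM {t : Au (V3 K)} (ht : t ∈ TM K) : ∃ s : U K, ρ (MulAut.conjNormal s) = t := by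
  obtain ⟨b, y, h, rfl⟩ := ht
  exact ⟨xb b y h, rho_conj hρ _⟩

theorem map_T : (autInducedBy ⊤ (Q1 K)).map ρ = TM K := by
  refine le_antisymm ?_ fun t ht => ?_
  · rintro _ ⟨a, ha, rfl⟩
    obtain ⟨s, rfl⟩ := mem_T.1 ha
    exact ⟨s.b, s.y, s.hy, (rho_conj hρ s).symm⟩
  · obtain ⟨s, rfl⟩ := rho_TM hρ ht
    exact ⟨_, mem_T.2 ⟨s, rfl⟩, rfl⟩

omit hρ in
theorem par_eq {b y : K} {h : Par K} {v : Kˣ} (e : Mt b y * actV h = actV (hb v)) : h = hb v := by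
  have e1 : ∀ x : K, (h.l : K) * h.γ x = (v : K)⁻¹ * x := fun x => by
    have := congrArg (fun g : Au (V3 K) => (g (x, 0, 0)).1) e
    simpa [au_mul, Mt_apply, actV_apply] using this
  have e2 : (h.l : K) * h.m = (v : K)⁻¹ * ((v : K) ^ 2 * (star (v : K))⁻¹) := by
    have := congrArg (fun g : Au (V3 K) => (g (0, 1, 0)).2.1) e
    simpa [au_mul, Mt_apply, actV_apply] using this
  have e3 : (h.l : K) = (v : K)⁻¹ := by simpa using e1 1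
  have n : (v : K)⁻¹ ≠ 0 := inv_ne_zero v.ne_zero
  refine par_ext (by rw [e3, hb_l]) ?_ fun x => ?_
  · rw [hb_m]; exact mul_left_cancel₀ n (e3 ▸ e2)
  · rw [hb_γ]; exact mul_left_cancel₀ n (e3 ▸ e1 x)

omit hρ in
theorem PL_actV (h : Par K) : PL (actV h) := fun d => by simp [actV_apply]

omit hρ in
theorem Q1_of_Mt {s : U K} (e : Mt s.b s.y = 1) : s ∈ Q1 K := by
  have e1 := congrArg (fun g : Au (V3 K) => (g (1, 0, 0)).2.1) e
  have e2 := congrArg (fun g : Au (V3 K) => (g (1, 0, 0)).2.2) e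
  simp only [Mt_apply, au_one, mul_one, zero_sub, neg_eq_zero, mul_zero, add_zero, zero_add, star_eq_zero] at e1 e2
  exact ⟨e1, e2⟩

end Gen1x

open Gen1x in
theorem gen1 (h0 : KER.{u}) (h1 : RHO1 K) (h2 : L1S K) (h3 : LIN1 K) (h4 : LIFT1 K) : GEN1 K := by
  intro p _ _ A0 A H hR hS
  obtain ⟨ρ, hρ, hc, hk⟩ := h1
  obtain ⟨k1, k2, k3⟩ := h0 (U K) p (Q1 K) A0 A (Au (V3 K)) ρ hR (hk p)
  rw [map_T hρ] at k1
  obtain ⟨l1, l2⟩ := h2 p (A.map ρ) k1 (by rintro _ ⟨a, -, rfl⟩; exact hc a)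
  have ext : ∀ a ∈ A, PL (ρ a) → ∃ α ∈ A0, Res α a := fun a ha pl => k3 a ha fun s => by
    obtain ⟨s', e⟩ := rho_TM hρ (l2 _ ⟨a, ha, rfl⟩ pl _ ⟨s.b, s.y, s.hy, (rho_conj hρ s).symm⟩)
    exact ⟨s', e.symm⟩
  have act0 : ∀ h ∈ H, ∃ a ∈ A, Res (act h) a := fun h hh =>
    hR.res _ ((hS _).2 ⟨1, h, hh, by rw [map_one, one_mul]⟩)
  have cA : ∀ s : U K, MulAut.conjNormal s ∈ A := fun s => hR.syl.le (mem_T.2 ⟨s, rfl⟩)
  obtain ⟨⟨g, hg, eg⟩, m2, m3⟩ := h3 (A.map ρ) l1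
    (by obtain ⟨a, ha, n⟩ := hR.ne
        exact ⟨_, ⟨a, ha, rfl⟩, fun pl => n (ext a ha pl)⟩)
    (by rintro _ ⟨a, ha, rfl⟩ pl
        obtain ⟨α, hα, r⟩ := ext a ha pl
        obtain ⟨s, h, hh, rfl⟩ := (hS α).1 hα
        obtain ⟨a', ha', r'⟩ := act0 h hh
        exact ⟨_, ⟨s.b, s.y, s.hy, rfl⟩, h, ⟨a', ha', rho_act hρ r'⟩, rho_std hρ r⟩)
  have hH : ∀ v, hb v ∈ H := fun v => by
    obtain ⟨a, ha, e⟩ := m2 v
    obtain ⟨α, hα, r⟩ := ext a ha (e ▸ PL_actV _)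
    obtain ⟨s, h, hh, rfl⟩ := (hS α).1 hα
    exact par_eq ((rho_std hρ r).symm.trans e) ▸ hh
  have hr : r1 K ∈ A := h4 A (fun s _ => cA s) (fun α hα e => by
      have e1 : ρ α = 1 := rho_eq hρ e
      obtain ⟨s, rfl⟩ := k2 α hα e1
      exact ⟨s, Q1_of_Mt ((rho_conj hρ s).symm.trans e1), rfl⟩)
    (fun v => act0 _ (hH v)) g hg fun x => by rw [hρ, eg]
  refine ⟨hH, hr, fun A' r' hA' a ha => ?_⟩
  rcases m3 _ ⟨a, ha, rfl⟩ with pl | ⟨t, ht, pl⟩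
  · obtain ⟨α, hα, r⟩ := ext a ha pl
    exact hA' α hα a r
  · obtain ⟨s, rfl⟩ := rho_TM hρ ht
    rw [← rho_r1 hρ, ← map_mul, ← map_mul] at pl
    obtain ⟨α, hα, r⟩ := ext _ (mul_mem (mul_mem hr (cA s)) ha) pl
    exact (mul_mem_cancel_left (mul_mem r' (hA' _ (hR.inn s) _ (res_conj s)))).1 (hA' α hα _ r)

end CL.U5
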