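/-
Project U5: the automizer of `Q2` is generated by the restrictions and the reflection `r2`.
-/
import Cfsg.Agent.U5.Defs2

set_option autoImplicit false
set_option linter.unusedSectionVars false

namespace CL.U5

open Cfsg CL.Fus

universe u

variable {K : Type u} [Field K] [StarRing K] [UF K]

namespace Gen2x

theorem pW_surj (v : V2 K) : ∃ x : Q2 K, pW (x : U K) = v := by
  obtain ⟨y, hy⟩ := exists_y v.1
  obtain ⟨g, h1, h2, h3, -, -⟩ := exists_el 0 v.1 v.2 y 0 hy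
  exact ⟨⟨g, h1⟩, Prod.ext h2 h3⟩

variable {ρ : MulAut (Q2 K) →* Au (V2 K)} (hρ : ∀ α (x : Q2 K), pW (α x : U K) = ρ α (pW x))
include hρ

theorem rho_eq {α : MulAut (Q2 K)} {g : Au (V2 K)} (h : ∀ x : Q2 K, pW (α x : U K) = g (pW x)) : ρ α = g :=
  au_ext fun v => by
    obtain ⟨x, rfl⟩ := pW_surj v
    rw [← hρ, h]

theorem rho_conj (s : U K) : ρ (MulAut.conjNormal s) = Tw s.a :=
  rho_eq hρ fun x => pW_conj s x.2

theorem rho_r2 : ρ (r2 K) = rW K := rho_eq hρ fun x => pW_r2 x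

theorem rho_res {s : U K} {h : Par K} {a : MulAut (Q2 K)} (ha : Res (MulAut.conj s * act h) a) :
    ρ a = Tw s.a * actW h :=
  rho_eq hρ fun x => by
    rw [ha x, au_mul, ← pW_act]
    exact pW_conj s ((act_Q2 h x).2 x.2)

theorem map_T : (autInducedBy ⊤ (Q2 K)).map ρ = TW K := by
  ext g
  constructor
  · rintro ⟨a, ha, rfl⟩
    obtain ⟨s, rfl⟩ := mem_T.1 ha
    exact ⟨_, (rho_conj hρ s).symm⟩
  · rintro ⟨a, rfl⟩
    exact ⟨MulAut.conjNormal (xa a), mem_T.2 ⟨_, rfl⟩, rho_conj hρ (xa a)⟩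

omit hρ in
theorem pw_TA (a : K) (h : Par K) : PW (Tw a * actW h) := fun c => by
  simp [au_mul, Tw_apply, actW_apply]

omit hρ in
theorem par_eq {a : K} {h : Par K} {u : Kˣ} (e : Tw a * actW h = actW (ha u)) : h = ha u := by
  have e1 : ∀ x : K, (h.m : K) * h.γ x = (u : K)⁻¹ * x := fun x => by
    have := congrArg (fun g : Au (V2 K) => (g (x, 0)).1) e
    simpa [au_mul, Tw_apply, actW_apply] using this
  have e2 : (h.m : K) = (u : K)⁻¹ := by simpa using e1 1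
  have e3 : ∀ x, h.γ x = x := fun x => by
    have := e1 x
    rw [e2] at this
    exact mul_left_cancel₀ (inv_ne_zero u.ne_zero) this
  have e4 : (h.l : K) * h.m = (u : K) ^ 2 * (u : K)⁻¹ := by
    have := congrArg (fun g : Au (V2 K) => (g (0, 1)).2) e
    simpa [au_mul, Tw_apply, actW_apply] using this
  rw [e2] at e4
  exact par_ext (by rw [ha_l]; exact mul_right_cancel₀ (inv_ne_zero u.ne_zero) e4) (by rw [ha_m, e2]) e3

omit hρ in
theorem Tw_eq_one {a : K} (e : Tw a = 1) : a = 0 := by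
  have := congrArg (fun g : Au (V2 K) => (g (1, 0)).2) e
  simpa [Tw_apply, au_one] using this

end Gen2x

open Gen2x in
theorem gen2 (h0 : KER.{u}) (h1 : RHO2 K) (h2 : LIN2 K) (h3 : LIFT2 K) : GEN2 K := by
  intro p _ _ A0 A H R S
  obtain ⟨ρ, hρ, hL, hk⟩ := h1
  obtain ⟨k1, k2, k3⟩ := h0 (U K) p (Q2 K) A0 A _ ρ R (hk p)
  rw [map_T hρ] at k1
  obtain ⟨l1, l2⟩ := h2 p (A.map ρ) k1 (by rintro _ ⟨a, -, rfl⟩; exact hL a)
  have ext : ∀ a ∈ A, PW (ρ a) → ∃ α ∈ A0, Res α a := fun a ha hp => k3 a ha fun s => by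
    obtain ⟨b, hb⟩ := l1 _ ⟨a, ha, rfl⟩ hp (Tw s.a) ⟨_, rfl⟩
    exact ⟨xa b, by rw [rho_conj hρ, rho_conj hρ, ← hb]; rfl⟩
  obtain ⟨m1, m2, m3⟩ := l2 (by
    obtain ⟨a, ha, na⟩ := R.ne
    exact ⟨ρ a, ⟨a, ha, rfl⟩, fun hp => na (ext a ha hp)⟩)
  have cA : ∀ s : U K, (MulAut.conjNormal s : MulAut (Q2 K)) ∈ A := fun s => R.syl.le (mem_T.2 ⟨s, rfl⟩)
  have hH : ∀ u, ha u ∈ H := fun u => by
    obtain ⟨a, haA, e⟩ := m2 u
    obtain ⟨α, hα, r⟩ := ext a haA (by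
      rw [e]
      intro c
      simp [actW_apply])
    obtain ⟨s, h, hh, rfl⟩ := (S α).1 hα
    rw [← par_eq ((rho_res hρ r).symm.trans e)]
    exact hh
  refine ⟨hH, fun hb' => ?_⟩
  have r2A : r2 K ∈ A := by
    obtain ⟨g, hg, e⟩ := m1
    refine h3 A (fun s _ => cA s) (fun α hα t => ?_) (fun u v => ?_) g hg fun x => by rw [hρ, e]
    · have e1 : ρ α = 1 := rho_eq hρ t
      obtain ⟨s, rfl⟩ := k2 α hα e1
      rw [rho_conj hρ] at e1
      exact ⟨s, Tw_eq_one e1, rfl⟩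
    · exact R.res _ ((S _).2 ⟨1, _, H.mul_mem (hH u) (hb' v), by rw [map_one, one_mul]⟩)
  refine ⟨r2A, fun A' r' res' a haA => ?_⟩
  have ext' : ∀ a ∈ A, PW (ρ a) → a ∈ A' := fun a ha hp => by
    obtain ⟨α, hα, r⟩ := ext a ha hp
    exact res' α hα a r
  rcases m3 _ ⟨a, haA, rfl⟩ with hp | ⟨_, ⟨b, rfl⟩, hp⟩
  · exact ext' a haA hp
  · have c' : (MulAut.conjNormal (xa b) : MulAut (Q2 K)) ∈ A' := res' _ (R.inn _) _ (res_conj _)
    have := ext' (r2 K * MulAut.conjNormal (xa b) * a) (A.mul_mem (A.mul_mem r2A (cA _)) haA) (by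
      rw [map_mul, map_mul, rho_r2 hρ, rho_conj hρ]; exact hp)
    exact (A'.mul_mem_cancel_left (A'.mul_mem r' c')).1 this

end CL.U5
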