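/-
Project U5: the normal form of the conjugates of the line in `Q1 / Z`.
-/
import Cfsg.Agent.U5.Defs2

set_option autoImplicit false
set_option linter.unusedSectionVars false

namespace CL.U5

open Cfsg CL.Fus

universe u

variable {K : Type u} [Field K] [StarRing K] [UF K]

namespace L1Ax

theorem conf0 {g : Au (V3 K)} (h : Conf g) {u v : V3 K} (k : fm u v = 0) : fm (g u) (g v) = 0 := by
  obtain ⟨ζ, hζ⟩ := h
  have e : fm (0 : V3 K) 0 = 0 := by simp [fm]
  have := hζ 0 0
  rw [map_zero, e] at this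
  rw [hζ, k, ← this]

theorem fm_ell (d d' : K) : fm ((0, 0, d) : V3 K) (0, 0, d') = 0 := by simp [fm]

theorem perp {v : V3 K} (h : ∀ d, fm (0, 0, d) v = 0) : v.1 = 0 := by
  obtain ⟨t, ht⟩ := exists_ne K
  have := h (v.1 * t)
  simp only [fm, star_zero, star_mul'] at this
  have e : v.1 * star v.1 * (star t - t) = 0 := by linear_combination this
  rcases mul_eq_zero.1 ((mul_eq_zero.1 e).resolve_right (sub_ne_zero.2 ht)) with k | k
  · exact k
  · exact star_eq_zero.1 k

theorem key (h : L1P K) {L : Subgroup (Au (V3 K))} (hL : H1 L) {g g' : Au (V3 K)} (hg : g ∈ L) (hg' : g' ∈ L)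
    {a b c a' b' c' : K} (hb : b + star b = a * star a) (hb' : b' + star b' = a' * star a') (n : NF g a b c)
    (n' : NF g' a' b' c') {al : K} (hal : (al + (a + a')) * star (al + (a + a')) =
      (a + a') * star (a + a') + (a - a') * star (a - a') - (c' - c) - star (c' - c)) :
    al = 0 ∧ a = a' ∧ c = c' := by
  obtain ⟨be, hbe⟩ : ∃ be : K, star be = c' - c + star al * (a + a') - b' - star b + a * star a' :=
    ⟨star _, star_star _⟩
  have hbe' : be = star c' - star c + al * (star a + star a') - star b' - b + star a * a' := by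
    rw [← star_star be, hbe]
    simp only [star_add, star_sub, star_mul', star_star]
  have ht : be + star be + al * star al = 0 := by
    rw [hbe, hbe']
    simp only [star_add, star_sub] at hal
    linear_combination hal - hb - hb'
  have hk : g⁻¹ * Mt al be * g' ∈ L := mul_mem (mul_mem (inv_mem hg) (hL.T ⟨al, be, ht, rfl⟩)) hg'
  have pl : PL (g⁻¹ * Mt al be * g') := by
    by_contra np
    obtain ⟨y, y0, hy⟩ := exists_skew K
    obtain ⟨d, hd⟩ := n'.2 y
    have d0 : d = 0 := by
      refine h L hL _ hk np d (perp fun d1 => ?_)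
      obtain ⟨x, hx⟩ := n.1 d1
      have := conf0 (hL.conf _ (inv_mem hg)) (u := g (0, 0, d1)) (v := Mt al be (g' (0, 0, d))) (by
        rw [hx, hd, Mt_apply]
        simp only [fm, star_add, star_sub, star_mul', star_star, star_neg, hy]
        rw [hbe, hbe']
        ring)
      rwa [au_inv_apply] at this
    rw [d0] at hd
    have e : g' (0, 0, 0) = 0 := map_zero g'
    exact y0 (congrArg Prod.fst (hd.symm.trans e))
  have E : ∀ y : K, a' * star y - al * y = a * star y ∧
      b' * y + c' * star y + star al * (a' * star y) + star be * y = b * y + c * star y := fun y => by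
    obtain ⟨d, hd⟩ := n'.2 y
    obtain ⟨p1, p2⟩ := pl d
    obtain ⟨x, hx⟩ := n.1 ((g⁻¹ * Mt al be * g') (0, 0, d)).2.2
    have e : ((0, 0, ((g⁻¹ * Mt al be * g') (0, 0, d)).2.2) : V3 K) = (g⁻¹ * Mt al be * g') (0, 0, d) :=
      Prod.ext p1.symm (Prod.ext p2.symm rfl)
    rw [e, au_mul, au_mul, au_apply_inv, hd, Mt_apply] at hx
    simp only [Prod.mk.injEq] at hx
    obtain ⟨rfl, e2, e3⟩ := hx
    exact ⟨e2, e3⟩
  obtain ⟨t, ht'⟩ := exists_ne K
  have t0 : star t - t ≠ 0 := sub_ne_zero.2 ht'
  obtain ⟨e1, e2⟩ := E 1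
  obtain ⟨e3, e4⟩ := E t
  rw [star_one] at e1 e2
  have al0 : al = 0 := (mul_eq_zero.1 (show al * (star t - t) = 0 by
    linear_combination e3 - star t * e1)).resolve_right t0
  rw [al0, star_zero] at e2 e4
  refine ⟨al0, by rw [al0] at e1; linear_combination -e1, ?_⟩
  exact (sub_eq_zero.1 ((mul_eq_zero.1 (show (c' - c) * (star t - t) = 0 by
    linear_combination e4 - t * e2)).resolve_right t0)).symm

end L1Ax

open L1Ax in
theorem l1a (h1 : L1F K) (h2 : L1P K) : L1A K := by
  intro L hL g hg np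
  have add : ∀ d d' : K, g (0, 0, d + d') = g (0, 0, d) + g (0, 0, d') := fun d d' => by
    rw [← map_add]; simp
  have inj : Function.Injective fun d : K => (g (0, 0, d)).1 := fun d d' (e : (g (0, 0, d)).1 = (g (0, 0, d')).1) => by
    have e1 := congrArg Prod.fst (add (d - d') d')
    rw [sub_add_cancel, Prod.fst_add, e] at e1
    exact sub_eq_zero.1 (h2 L hL g hg np _ (by linear_combination -e1))
  obtain ⟨del, hdel⟩ := (Finite.injective_iff_surjective.1 inj).hasRightInverse
  have hd : ∀ x, (g (0, 0, del x)).1 = x := hdel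
  have uq : ∀ d x, (g (0, 0, d)).1 = x → del x = d := fun d x e => inj ((hd x).trans e.symm)
  have gadd : ∀ x y, g (0, 0, del (x + y)) = g (0, 0, del x) + g (0, 0, del y) := fun x y => by
    rw [uq (del x + del y) (x + y) (by rw [add, Prod.fst_add, hd, hd]), add]
  have glin : ∀ l x, star l = l → g (0, 0, del (l * x)) = l • g (0, 0, del x) := fun l x hl => by
    obtain ⟨d', e⟩ := h1 L hL g hg l (del x) hl
    rw [uq d' (l * x) (by rw [e, Prod.smul_fst, hd, smul_eq_mul]), e]
  obtain ⟨a0, a, ha⟩ := flin (fun x => (g (0, 0, del x)).2.1) (fun x y => by rw [gadd]; rfl)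
    (fun l x hl => by rw [glin l x hl]; rfl)
  obtain ⟨b0, c0, hb⟩ := flin (fun x => (g (0, 0, del x)).2.2) (fun x y => by rw [gadd]; rfl)
    (fun l x hl => by rw [glin l x hl]; rfl)
  obtain ⟨y0, hy0⟩ := exists_y a0
  have nf : ∀ x, (Mt a0 y0 * g) (0, 0, del x) =
      (x, a * star x, (b0 + a0 * star a0 + star y0) * x + (c0 + star a0 * a) * star x) := fun x => by
    rw [au_mul, Mt_apply, hd, ha x, hb x]
    refine Prod.ext rfl (Prod.ext ?_ ?_) <;> simp only <;> ring
  refine ⟨Mt a0 y0, ⟨a0, y0, hy0, rfl⟩, a, b0 + a0 * star a0 + star y0, c0 + star a0 * a, ?_,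
    fun d => ⟨(g (0, 0, d)).1, ?_⟩, fun x => ⟨del x, nf x⟩⟩
  · obtain ⟨t, ht⟩ := exists_ne K
    have e := conf0 (hL.conf g hg) (fm_ell (del 1) (del t))
    rw [← fm_Mt hy0, ← au_mul, ← au_mul, nf, nf] at e
    generalize b0 + a0 * star a0 + star y0 = b at e ⊢
    generalize c0 + star a0 * a = c at e
    simp only [fm, star_add, star_mul', star_star, star_one] at e
    exact sub_eq_zero.1 ((mul_eq_zero.1 (show (star t - t) * (b + star b - a * star a) = 0 by
      linear_combination -e)).resolve_left (sub_ne_zero.2 ht))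
  · rw [← nf, uq d _ rfl]

open L1Ax in
theorem l1b (h : L1P K) : L1B K := by
  intro L hL g hg g' hg' a b c a' b' c' hb hb' n n'
  obtain ⟨x, hx⟩ := exists_norm (a := (a + a') * star (a + a') + (a - a') * star (a - a') - (c' - c) - star (c' - c))
    (by simp only [star_add, star_sub, star_mul', star_star]; ring)
  obtain ⟨-, e1, e2⟩ := key h hL hg hg' hb hb' n n' (al := x - (a + a')) (by rw [sub_add_cancel, hx])
  obtain ⟨e3, -⟩ := key h hL hg hg hb hb n n (al := -(a + a + a + a))
    (by simp only [star_add, star_sub, star_neg]; ring)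
  refine ⟨e1, e2, ?_⟩
  rcases mul_eq_zero.1 (show (2 : K) * (2 * a) = 0 by linear_combination -e3) with k | k
  · rw [k, zero_mul]
  · exact k

end CL.U5
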