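/-
Project U5: the opposite transvections and the generation of `SU₃(q)` on `Q1 / Z`.
-/
import Cfsg.Agent.U5.Defs2

set_option autoImplicit false
set_option linter.unusedSectionVars false

namespace CL.U5

open Cfsg CL.Fus

universe u

variable {K : Type u} [Field K] [StarRing K] [UF K]

namespace L1Cx

theorem perp {g : Au (V3 K)} (hc : Conf g⁻¹) (nf : NF g 0 0 0) {v : V3 K} (hv : v.2.2 = 0) : (g⁻¹ v).1 = 0 := by
  obtain ⟨ζ, hζ⟩ := hc
  obtain ⟨t, ht⟩ := exists_ne K
  have z0 : ζ 0 = 0 := by simpa [fm] using (hζ 0 0).symm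
  obtain ⟨x, hx⟩ := nf.1 ((g⁻¹ v).1 * t)
  have h := hζ (g (0, 0, (g⁻¹ v).1 * t)) v
  rw [au_inv_apply, hx, show fm (x, 0 * star x, 0 * x + 0 * star x) v = 0 by simp [fm, hv], z0] at h
  by_contra h0
  have h1 : star (g⁻¹ v).1 ≠ 0 := star_ne_zero.2 h0
  simp only [fm, star_zero, star_mul', zero_mul, mul_zero, zero_add] at h
  exact mul_ne_zero (mul_ne_zero h0 h1) (sub_ne_zero.2 ht) (by linear_combination h)

theorem shape {g : Au (V3 K)} (hc : Conf g⁻¹) (nf : NF g 0 0 0) (y : K) :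
    ∃ ψ : K → K, ∀ v, (g * Mt 0 y * g⁻¹) v = (v.1 + ψ v.2.2, v.2.1, v.2.2) := by
  refine ⟨fun d => (g (0, 0, star y * (g⁻¹ (0, 0, d)).1)).1, fun v => ?_⟩
  have e1 : (g⁻¹ v).1 = (g⁻¹ (0, 0, v.2.2)).1 := by
    have : v = (v.1, v.2.1, 0) + (0, 0, v.2.2) := by ext <;> simp
    rw [congrArg (fun w => (g⁻¹ w).1) this, map_add, Prod.fst_add, perp hc nf rfl, zero_add]
  have e2 : Mt 0 y (g⁻¹ v) = g⁻¹ v + (0, 0, star y * (g⁻¹ v).1) := by ext <;> simp [Mt_apply]
  obtain ⟨x, hx⟩ := nf.1 (star y * (g⁻¹ (0, 0, v.2.2)).1)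
  rw [au_mul, au_mul, e2, map_add, au_apply_inv, e1]
  beta_reduce
  rw [hx]
  ext <;> simp

end L1Cx

theorem l1c : L1C K := by
  rintro L hL ⟨g, hg, nf⟩ alt
  have mem : ∀ y : K, star y = -y → g * Mt 0 y * g⁻¹ ∈ L := fun y hy =>
    mul_mem (mul_mem hg (hL.T ⟨0, y, by simp [hy], rfl⟩)) (inv_mem hg)
  have key : ∀ y : {y : K // star y = -y}, ∃ k : {y : K // star y = -y}, g * Mt 0 y.1 * g⁻¹ = Mm k.1 := by
    rintro ⟨y, hy⟩
    obtain ⟨ψ, hψ⟩ := L1Cx.shape (hL.conf _ (inv_mem hg)) nf y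
    rcases alt _ (mem y hy) with h | ⟨_, ⟨b, y1, h1, rfl⟩, h, -⟩
    · refine ⟨⟨0, by simp⟩, au_ext fun v => ?_⟩
      have := (h v.2.2).1
      rw [hψ] at this
      rw [hψ, Mm_apply, show ψ v.2.2 = 0 by simpa using this]
      simp
    · have h2 : ∀ d, b * ψ d = 0 ∧ d + star y1 * ψ d = 0 := fun d => by
        obtain ⟨x, hx⟩ := h d
        rw [au_mul, hψ, Mt_apply] at hx
        simp only [Prod.mk.injEq, zero_add, zero_mul, mul_zero, add_zero, zero_sub, neg_eq_zero] at hx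
        exact hx.2
      have h3 : ψ 1 ≠ 0 := fun e => by simpa [e] using (h2 1).2
      have h4 : b = 0 := (mul_eq_zero.1 (h2 1).1).resolve_right h3
      have h5 : star y1 = -y1 := by rw [h4] at h1; linear_combination h1
      have h6 : y1 ≠ 0 := fun e => by simpa [e] using (h2 1).2
      refine ⟨⟨y1⁻¹, by rw [star_inv₀, h5, inv_neg]⟩, au_ext fun v => ?_⟩
      have h7 : ψ v.2.2 = y1⁻¹ * v.2.2 := by
        have := (h2 v.2.2).2
        rw [h5] at this
        field_simp
        linear_combination -this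
      rw [hψ, Mm_apply, h7]
  choose κ hκ using key
  have inj : Function.Injective κ := fun y y' e => by
    have h1 : Mt 0 y.1 = Mt 0 y'.1 := mul_left_cancel (mul_right_cancel ((hκ y).trans (e ▸ (hκ y').symm)))
    have h2 := congrArg (fun f : Au (V3 K) => (f (1, 0, 0)).2.2) h1
    exact Subtype.ext (by simpa [Mt_apply] using h2)
  intro y hy
  obtain ⟨y', e⟩ := Finite.injective_iff_surjective.1 inj ⟨y, hy⟩
  have := hκ y' ▸ mem y'.1 y'.2
  rwa [e] at this

theorem su3 : SU3 K := by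
  intro L hT hM
  obtain ⟨k, k0, hk⟩ := exists_skew K
  obtain ⟨n, nL, hn⟩ : ∃ n ∈ L, ∀ v : V3 K, n v = (k * v.2.2, v.2.1, -v.1 / k) := by
    refine ⟨Mm k * Mt 0 k⁻¹ * Mm k, mul_mem (mul_mem (hM k hk) (hT ⟨0, k⁻¹, by simp [hk], rfl⟩)) (hM k hk), fun v => ?_⟩
    ext <;> simp only [au_mul, Mm_apply, Mt_apply, star_inv₀, hk, star_zero] <;> field_simp <;> ring
  have hA : ∀ v, actV (hb v) ∈ L := fun v => by
    have v0 : (v : K) ≠ 0 := v.ne_zero
    have v1 : star (v : K) ≠ 0 := star_ne_zero.2 v0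
    obtain ⟨b, hb'⟩ := exists_norm (a := -(k * v) - star (k * v)) (by rw [star_sub, star_neg, star_star]; ring)
    rw [star_mul', hk] at hb'
    have m1 : Mt (b / k) (k * v / (k * star k)) ∈ L := hT ⟨_, _, by
      simp only [star_div₀, star_mul', star_star, hk, star_neg]; field_simp; linear_combination -hb', rfl⟩
    have m2 : Mt (b / star (k * v)) (1 / star (k * v)) ∈ L := hT ⟨_, _, by
      simp only [star_div₀, star_mul', star_star, hk, star_neg, star_one]; field_simp; linear_combination -hb', rfl⟩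
    have m3 : Mt (-b / (k * v)) (1 / (k * v)) ∈ L := hT ⟨_, _, by
      simp only [star_div₀, star_mul', star_star, hk, star_neg, star_one]; field_simp; linear_combination -hb', rfl⟩
    have e : actV (hb v) * Mt (-b / (k * v)) (1 / (k * v)) * n =
        n * Mt (b / star (k * v)) (1 / star (k * v)) * n * Mt (b / k) (k * v / (k * star k)) := au_ext fun w => by
      ext <;> simp only [au_mul, hn, Mt_apply, actV_apply, hb_l, hb_m, hb_γ, star_div₀, star_mul', star_star, hk,
        star_neg, star_one, star_inv₀, star_pow] <;> field_simp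
      · linear_combination (w.1) * hb'
      · linear_combination (w.2.1) * hb'
      · ring
    exact (mul_mem_cancel_right m3).1 ((mul_mem_cancel_right nL).1 (e ▸ mul_mem (mul_mem (mul_mem nL m2) nL) m1))
  refine ⟨?_, hA⟩
  have e : rV K = actV (hb (Units.mk0 k k0)) * n := au_ext fun w => by
    ext <;> simp only [au_mul, hn, rV_apply, actV_apply, hb_l, hb_m, hb_γ, Units.val_mk0, star_mul', star_star, hk,
      star_neg, star_inv₀, star_pow] <;> field_simp
  exact e ▸ mul_mem (hA _) nL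

end CL.U5
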