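/-
Project U5: the conjugates of the line are subspaces over the fixed field, and meet its perpendicular space trivially.
-/
import Cfsg.Agent.U5.Defs2

set_option autoImplicit false
set_option linter.unusedSectionVars false

namespace CL.U5

open Cfsg CL.Fus Matrix
open scoped commutatorElement

universe u

variable {K : Type u} [Field K] [StarRing K] [UF K]

namespace L1Px

theorem fm_add_left (u u' v : V3 K) : fm (u + u') v = fm u v + fm u' v := by
  simp only [fm, Prod.fst_add, Prod.snd_add, star_add]; ring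

theorem fm_add_right (u v v' : V3 K) : fm u (v + v') = fm u v + fm u v' := by
  simp only [fm, Prod.fst_add, Prod.snd_add, star_add]; ring

theorem fm_sub_left (u u' v : V3 K) : fm (u - u') v = fm u v - fm u' v := by
  simp only [fm, Prod.fst_sub, Prod.snd_sub, star_sub]; ring

theorem fm_smul_left {l : K} (hl : star l = l) (u v : V3 K) : fm (l • u) v = l * fm u v := by
  simp only [fm, Prod.smul_fst, Prod.smul_snd, smul_eq_mul, star_mul', hl]; ring

theorem fm_smul_right {l : K} (hl : star l = l) (u v : V3 K) : fm u (l • v) = l * fm u v := by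
  simp only [fm, Prod.smul_fst, Prod.smul_snd, smul_eq_mul, star_mul', hl]; ring

theorem fm_swap (u v : V3 K) : fm u v = -fm v u := by
  simp only [fm]; ring

theorem key {a : K} (h : ∀ x : K, star a * x - star x * a = 0) : a = 0 := by
  obtain ⟨t, ht⟩ := exists_ne K
  have e : star a * a * (t - star t) = 0 := by
    have := h (a * t)
    rw [star_mul'] at this
    linear_combination this
  rcases mul_eq_zero.1 e with e | e
  · rcases mul_eq_zero.1 e with e | e
    · exact star_eq_zero.1 e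
    · exact e
  · exact absurd (sub_eq_zero.1 e).symm ht

theorem nondeg {u : V3 K} (h : ∀ v, fm u v = 0) : u = 0 := by
  refine Prod.ext (key fun x => ?_) (Prod.ext (key fun x => ?_) (key fun x => ?_))
  · have := h (0, 0, x); simp only [fm, star_zero] at this; linear_combination this
  · have := h (0, x, 0); simp only [fm, star_zero] at this; linear_combination this
  · have := h (x, 0, 0); simp only [fm, star_zero] at this; linear_combination this

theorem conf0 {g : Au (V3 K)} (hg : Conf g) {u v : V3 K} (h : fm u v = 0) : fm (g u) (g v) = 0 := by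
  obtain ⟨ζ, hζ⟩ := hg
  have e : fm (0 : V3 K) 0 = 0 := by simp [fm]
  have := hζ 0 0
  rw [map_zero, e] at this
  rw [hζ, h, ← this]

theorem fm_ell (d d' : K) : fm ((0, 0, d) : V3 K) (0, 0, d') = 0 := by simp [fm]

theorem Mt_smul (b y l : K) (v : V3 K) : Mt b y (l • v) = l • Mt b y v := by
  ext <;> simp [Mt_apply] <;> ring

theorem Mt_ell (b y d : K) : Mt b y (0, 0, d) = (0, 0, d) := by simp [Mt_apply]

theorem Mt_fix (y : K) {v : V3 K} (h : v.1 = 0) : Mt 0 y v = v := by
  ext <;> simp [Mt_apply, h]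

theorem Mt_ne {b y : K} (h : y ≠ 0) : Mt b y ≠ 1 := fun e => by
  have := congrArg (fun g : Au (V3 K) => (g (1, 0, 0)).2.2) e
  simp [Mt_apply] at this
  exact h this

theorem skew_mem {y : K} (h : star y = -y) : Mt 0 y ∈ TM K := mem_TM.2 ⟨0, y, by simp [h], rfl⟩

/-- a conjugate of the line other than the line is not inside the perpendicular space -/
theorem np {L : Subgroup (Au (V3 K))} (H : H1 L) {g : Au (V3 K)} (hg : g ∈ L) (h : ∀ d, (g (0, 0, d)).1 = 0) :
    PL g := by
  obtain ⟨y, y0, hy⟩ := exists_skew K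
  refine H.sr g hg _ (skew_mem hy) (Mt_ne y0) fun d => ?_
  rw [au_mul, au_mul, Mt_fix y (h d), au_inv_apply]
  exact ⟨rfl, rfl⟩

theorem np2 {L : Subgroup (Au (V3 K))} (H : H1 L) {g k : Au (V3 K)} (hg : g ∈ L) (hk : k ∈ L)
    (h : ∀ d d', fm (g (0, 0, d)) (k (0, 0, d')) = 0) : PL (g⁻¹ * k) := by
  refine np H (L.mul_mem (L.inv_mem hg) hk) fun d' => key fun d => ?_
  have := conf0 (H.conf _ (L.inv_mem hg)) (h d d')
  rw [au_inv_apply, ← au_mul] at this
  simp only [fm, star_zero] at this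
  linear_combination -this

theorem span (hF : L1F K) {L : Subgroup (Au (V3 K))} (H : H1 L) {g : Au (V3 K)} (hg : g ∈ L) {d0 d1 e : K}
    (e0 : e ≠ 0) (h0 : g (0, 0, d0) = (0, 0, e)) (h1 : (g (0, 0, d1)).1 ≠ 0) (d : K) :
    ∃ l m : K, star l = l ∧ star m = m ∧ g (0, 0, d) = l • ((0, 0, e) : V3 K) + m • g (0, 0, d1) := by
  have ex : ∀ p : {x : K // star x = x} × {x : K // star x = x},
      ∃ d, g (0, 0, d) = p.1.1 • ((0, 0, e) : V3 K) + p.2.1 • g (0, 0, d1) := fun p => by
    obtain ⟨a, ha⟩ := hF L H g hg p.1.1 d0 p.1.2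
    obtain ⟨b, hb⟩ := hF L H g hg p.2.1 d1 p.2.2
    exact ⟨a + b, by rw [← h0, ← ha, ← hb, ← map_add]; simp⟩
  choose f hf using ex
  have inj : Function.Injective f := fun p q hpq => by
    have k := (hf p).symm.trans ((congrArg (fun d => g (0, 0, d)) hpq).trans (hf q))
    have k1 := congrArg Prod.fst k
    simp only [Prod.fst_add, Prod.smul_fst, smul_eq_mul, mul_zero, zero_add] at k1
    have m := mul_right_cancel₀ h1 k1
    have k3 := congrArg (fun v : V3 K => v.2.2) k
    simp only [Prod.snd_add, Prod.smul_snd, smul_eq_mul, m, add_left_inj] at k3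
    exact Prod.ext (Subtype.ext (mul_right_cancel₀ e0 k3)) (Subtype.ext m)
  have bij := inj.bijective_of_nat_card_le (by rw [Nat.card_prod, card_fix, card_K, sq])
  obtain ⟨p, rfl⟩ := bij.2 d
  exact ⟨p.1.1, p.2.1, p.1.2, p.2.2, hf p⟩

theorem exists_t (K : Type u) [Field K] [StarRing K] [UF K] :
    ∃ b y : K, y ≠ 0 ∧ star y = y ∧ y + star y + b * star b = 0 := by
  by_cases h : (2 : K) = 0
  · exact ⟨0, 1, one_ne_zero, star_one K, by simp; linear_combination h⟩
  · refine ⟨1, -2⁻¹, neg_ne_zero.2 (inv_ne_zero h), by simp, ?_⟩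
    simp only [star_neg, star_inv₀, star_ofNat, star_one]
    field_simp; ring

theorem meet (hF : L1F K) {L : Subgroup (Au (V3 K))} (H : H1 L) {g : Au (V3 K)} (hg : g ∈ L) (hn : ¬ PL g) {d0 e : K}
    (h0 : g (0, 0, d0) = (0, 0, e)) : d0 = 0 := by
  by_contra hd
  have e0 : e ≠ 0 := fun k => hd (by
    have : g (0, 0, d0) = g 0 := by rw [h0, k, map_zero]; rfl
    exact congrArg (fun v : V3 K => v.2.2) (g.injective this))
  obtain ⟨d1, h1⟩ : ∃ d1, (g (0, 0, d1)).1 ≠ 0 := by
    by_contra k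
    push Not at k
    exact hn (np H hg k)
  obtain ⟨y0, hy0⟩ := exists_y ((g (0, 0, d1)).2.1 / (g (0, 0, d1)).1)
  obtain ⟨b, y, yne, yf, hy⟩ := exists_t K
  set s := Mt ((g (0, 0, d1)).2.1 / (g (0, 0, d1)).1) y0 with hs
  have sT : s ∈ TM K := mem_TM.2 ⟨_, _, hy0, rfl⟩
  have tT : Mt b y ∈ TM K := mem_TM.2 ⟨_, _, hy, rfl⟩
  have w2 : (s (g (0, 0, d1))).2.1 = 0 := by
    rw [hs, Mt_apply]; exact sub_eq_zero.2 (div_mul_cancel₀ _ h1).symm
  have w1 : (s (g (0, 0, d1))).1 ≠ 0 := h1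
  have ww : fm (0, 0, e) (s (g (0, 0, d1))) = 0 := by
    rw [← Mt_ell ((g (0, 0, d1)).2.1 / (g (0, 0, d1)).1) y0 e, hs, fm_Mt hy0, ← h0]
    exact conf0 (H.conf g hg) (fm_ell _ _)
  have sp : ∀ d, ∃ l m : K, star l = l ∧ star m = m ∧
      (s * g) (0, 0, d) = l • ((0, 0, e) : V3 K) + m • s (g (0, 0, d1)) := fun d => by
    obtain ⟨l, m, hl, hm, k⟩ := span hF H hg e0 h0 h1 d
    exact ⟨l, m, hl, hm, by rw [au_mul, k, map_add, hs, Mt_smul, Mt_smul, Mt_ell]⟩
  have g1 : s * g ∈ L := L.mul_mem (H.T sT) hg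
  have w1' : ((s * g) (0, 0, d1)).1 ≠ 0 := w1
  generalize s (g (0, 0, d1)) = w at w2 ww sp
  have a2 : fm (0, 0, e) (Mt b y w) = 0 := by rw [← Mt_ell b y e, fm_Mt hy, ww]
  have a3 : fm w (0, 0, e) = 0 := by rw [fm_swap, ww, neg_zero]
  have a4 : fm w (Mt b y w) = 0 := by
    simp only [fm, Mt_apply, w2, star_add, star_sub, star_mul', star_star, star_zero, yf]; ring
  have P := np2 H g1 (L.mul_mem (H.T tT) g1) fun d d' => by
    obtain ⟨l, m, hl, hm, k⟩ := sp d
    obtain ⟨l', m', hl', hm', k'⟩ := sp d'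
    rw [au_mul (Mt b y), k, k', map_add, Mt_smul, Mt_smul, Mt_ell, fm_add_left, fm_add_right, fm_add_right,
      fm_smul_left hl, fm_smul_left hl, fm_smul_left hm, fm_smul_left hm, fm_smul_right hl', fm_smul_right hm',
      fm_smul_right hl', fm_smul_right hm', fm_ell, a2, a3, a4]
    ring
  rw [← mul_assoc] at P
  exact w1' (H.sr _ g1 _ tT (Mt_ne yne) P d1).1

end L1Px

open L1Px

theorem l1f : L1F K := fun L H g hg l d hl => by
  obtain ⟨y, y0, hy⟩ := exists_skew K
  obtain ⟨ζ, hζ⟩ := H.conf g hg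
  have hy' : y + star y + 0 * star (0 : K) = 0 := by simp [hy]
  set r := g * Mt 0 y * g⁻¹ with hr
  have pres : ∀ u v, fm (r u) (r v) = fm u v := fun u v => by
    rw [hr, au_mul, au_mul, au_mul, au_mul, hζ, fm_Mt hy', ← hζ, au_apply_inv, au_apply_inv]
  have lin : ∀ u, r (l • u) = l • r u := fun u => sub_eq_zero.1 (nondeg fun v => by
    obtain ⟨v, rfl⟩ := r.surjective v
    rw [fm_sub_left, fm_smul_left hl, pres, pres, fm_smul_left hl, sub_self])
  have dif : ∀ u, r u - u = g (0, 0, star y * (g⁻¹ u).1) := fun u => by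
    have : Mt 0 y (g⁻¹ u) - g⁻¹ u = (0, 0, star y * (g⁻¹ u).1) := by ext <;> simp [Mt_apply]
    rw [← this, map_sub, au_apply_inv, hr, au_mul, au_mul]
  have e : g (0, 0, d) = r (g (d / star y, 0, 0)) - g (d / star y, 0, 0) := by
    rw [dif, au_inv_apply, mul_div_cancel₀ _ (star_ne_zero.2 y0)]
  exact ⟨_, by rw [← dif (l • g (d / star y, 0, 0)), lin, e, smul_sub]⟩

theorem l1p (h : L1F K) : L1P K := fun L H g hg hn d hd => by
  obtain ⟨y, y0, hy⟩ := exists_skew K
  have kL : g⁻¹ * Mt 0 y * g ∈ L := L.mul_mem (L.mul_mem (L.inv_mem hg) (H.T (skew_mem hy))) hg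
  refine meet h H kL (fun P => hn (H.sr g hg _ (skew_mem hy) (Mt_ne y0) P)) (e := d) ?_
  rw [au_mul, au_mul, Mt_fix y hd, au_inv_apply]

end CL.U5
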