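/-
Project U5, job L1S: the stabiliser of the line normalises the Sylow subgroup.
-/
import Cfsg.Agent.U5.Defs2

set_option autoImplicit false
set_option linter.unusedSectionVars false

namespace CL.U5

open Cfsg CL.Fus

universe u

variable {K : Type u} [Field K] [StarRing K] [UF K]

namespace L1Sx

/-- the stabiliser of the chain `V > D > Z > 0` -/
def St (K : Type u) [Field K] : Subgroup (Au (V3 K)) where
  carrier := {g | (∀ v, (g v).1 = v.1) ∧ (∀ y z, (g (0, y, z)).2.1 = y) ∧ ∀ z, g (0, 0, z) = (0, 0, z)}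
  mul_mem' := fun {g h} hg hh => ⟨fun v => by rw [au_mul, hg.1, hh.1], fun y z => by
    rw [au_mul, show h (0, y, z) = (0, y, (h (0, y, z)).2.2) from Prod.ext (hh.1 _) (Prod.ext (hh.2.1 y z) rfl),
      hg.2.1], fun z => by rw [au_mul, hh.2.2, hg.2.2]⟩
  one_mem' := ⟨fun _ => rfl, fun _ _ => rfl, fun _ => rfl⟩
  inv_mem' := fun {g} hg => by
    have h1 : ∀ v, (g⁻¹ v).1 = v.1 := fun v => by rw [← hg.1, au_apply_inv]
    refine ⟨h1, fun y z => ?_, fun z => by rw [← hg.2.2, au_inv_apply, hg.2.2]⟩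
    have := hg.2.1 (g⁻¹ (0, y, z)).2.1 (g⁻¹ (0, y, z)).2.2
    rw [show ((0 : K), (g⁻¹ (0, y, z)).2.1, (g⁻¹ (0, y, z)).2.2) = g⁻¹ (0, y, z) from Prod.ext (h1 (0, y, z)).symm rfl,
      au_apply_inv] at this
    exact this.symm

theorem mem_St {g : Au (V3 K)} : g ∈ St K ↔
    (∀ v, (g v).1 = v.1) ∧ (∀ y z, (g (0, y, z)).2.1 = y) ∧ ∀ z, g (0, 0, z) = (0, 0, z) := Iff.rfl

theorem pow_apply {V : Type u} [AddCommGroup V] {g : Au V} {v a b : V} (h1 : g v = v + a) (h2 : g a = a + b)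
    (h3 : g b = b) (n : ℕ) : (g ^ n) v = v + n • a + n.choose 2 • b := by
  induction n with
  | zero => simp
  | succ n ih =>
    rw [pow_succ', au_mul, ih, map_add, map_add, map_nsmul, map_nsmul, h1, h2, h3, Nat.choose_succ_succ' n 1,
      Nat.choose_one_right]
    module

theorem pg_St (p : ℕ) [Fact p.Prime] [CharP K p] : IsPGroup p (St K) := by
  rintro ⟨g, hg⟩
  refine ⟨2, Subtype.ext (au_ext fun v => ?_)⟩
  have z : ∀ w : V3 K, p • w = 0 := fun w => by rw [← Nat.cast_smul_eq_nsmul K, CharP.cast_eq_zero, zero_smul]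
  obtain ⟨y, z1, e1⟩ : ∃ y z, g v = v + (0, y, z) := ⟨(g v - v).2.1, (g v - v).2.2, by ext <;> simp [hg.1]⟩
  obtain ⟨w, e2⟩ : ∃ w, g (0, y, z1) = (0, y, z1) + (0, 0, w) :=
    ⟨(g (0, y, z1)).2.2 - z1, by ext <;> simp [hg.1, hg.2.1]⟩
  have k := pow_apply e1 e2 (hg.2.2 w) p
  rw [z, add_zero] at k
  have k2 : (g ^ p) (p.choose 2 • ((0 : K), (0 : K), w)) = p.choose 2 • ((0 : K), (0 : K), w) + 0 := by
    rw [map_nsmul, ((St K).pow_mem hg p).2.2, add_zero]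
  show (g ^ p ^ 2) v = v
  rw [sq, pow_mul, pow_apply k k2 (map_zero _), z, smul_zero, add_zero, add_zero]

def PD (g : Au (V3 K)) : Prop := ∀ y z, (g (0, y, z)).1 = 0

theorem pl_ex {g : Au (V3 K)} (h : PL g) (d : K) : ∃ w, g (0, 0, d) = (0, 0, w) :=
  ⟨_, Prod.ext (h d).1 (Prod.ext (h d).2 rfl)⟩

theorem pd_ex {g : Au (V3 K)} (h : PD g) (y z : K) : ∃ y' z', g (0, y, z) = (0, y', z') :=
  ⟨_, _, Prod.ext (h y z) rfl⟩

theorem pl_inv {g : Au (V3 K)} (h : PL g) : PL g⁻¹ := fun _ =>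
  inv_mem_of (g := g) (W := {v : V3 K | v.1 = 0 ∧ v.2.1 = 0})
    (fun v hv => by obtain ⟨a, c, d⟩ := v; obtain ⟨rfl, rfl⟩ : a = 0 ∧ c = 0 := hv; exact h d) ⟨rfl, rfl⟩

theorem perp {a : K} (h : ∀ d, star d * a - star a * d = 0) : a = 0 := by
  obtain ⟨t, ht⟩ := exists_ne K
  have h0 := h (a * t)
  rw [star_mul'] at h0
  have h1 : a * star a * (star t - t) = 0 := by linear_combination h0
  rcases mul_eq_zero.1 ((mul_eq_zero.1 h1).resolve_right (sub_ne_zero.2 ht)) with h3 | h3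
  exacts [h3, star_eq_zero.1 h3]

theorem pd {g : Au (V3 K)} (hc : Conf g) (h : PL g) : PD g := fun y z => perp fun d => by
  obtain ⟨ζ, hζ⟩ := hc
  obtain ⟨w, hw⟩ := pl_ex (pl_inv h) d
  have z0 : ζ 0 = 0 := by simpa [fm] using (hζ 0 0).symm
  have h1 := hζ (0, 0, w) (0, y, z)
  rw [show fm (0, 0, w) (0, y, z) = 0 by simp [fm], z0, ← hw, au_apply_inv] at h1
  simpa [fm] using h1

theorem St_conj {g t : Au (V3 K)} (h1 : PD g) (h1' : PD g⁻¹) (h2 : PL g) (ht : t ∈ St K) : g * t * g⁻¹ ∈ St K := by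
  refine ⟨fun v => ?_, fun y z => ?_, fun z => ?_⟩
  · obtain ⟨y, z, k⟩ : ∃ y z, t (g⁻¹ v) = g⁻¹ v + (0, y, z) :=
      ⟨(t (g⁻¹ v) - g⁻¹ v).2.1, (t (g⁻¹ v) - g⁻¹ v).2.2, by ext <;> simp [ht.1]⟩
    rw [au_mul, au_mul, k, map_add, au_apply_inv, Prod.fst_add, h1, add_zero]
  · obtain ⟨y', z', k⟩ := pd_ex h1' y z
    obtain ⟨w, e⟩ : ∃ w, t (0, y', z') = (0, y', z') + (0, 0, w) :=
      ⟨(t (0, y', z')).2.2 - z', by ext <;> simp [ht.1, ht.2.1]⟩
    rw [au_mul, au_mul, k, e, map_add, ← k, au_apply_inv, Prod.snd_add, Prod.fst_add, (h2 w).2, add_zero]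
  · obtain ⟨w, k⟩ := pl_ex (pl_inv h2) z
    rw [au_mul, au_mul, k, ht.2.2, ← k, au_apply_inv]

theorem TM_le : TM K ≤ St K := by
  rintro _ ⟨b, y, -, rfl⟩
  exact ⟨fun v => rfl, fun y z => by simp [Mt_apply], fun z => by simp [Mt_apply]⟩

theorem fix {b y : K} (hb : b ≠ 0) {v : V3 K} (h : Mt b y v = v) : v.1 = 0 ∧ v.2.1 = 0 := by
  have h1 : v.2.1 - b * v.1 = v.2.1 := congrArg (·.2.1) h
  have h2 : v.2.2 + star b * v.2.1 + star y * v.1 = v.2.2 := congrArg (·.2.2) h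
  have h3 : v.1 = 0 := (mul_eq_zero.1 (show b * v.1 = 0 by linear_combination -h1)).resolve_left hb
  rw [h3] at h2
  exact ⟨h3, (mul_eq_zero.1 (show star b * v.2.1 = 0 by linear_combination h2)).resolve_left (star_ne_zero.2 hb)⟩

end L1Sx

open L1Sx in
theorem l1s : L1S K := by
  intro p _ _ L hS hc
  have e0 : L ⊓ St K = TM K := hS.eq_of_le ((pg_St p).to_le inf_le_right) (le_inf hS.le TM_le) inf_le_left
  have nrm : ∀ g ∈ L, PL g → ∀ t ∈ TM K, g * t * g⁻¹ ∈ TM K := fun g hg h t ht =>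
    e0.le ⟨L.mul_mem (L.mul_mem hg (hS.le ht)) (L.inv_mem hg),
      St_conj (pd (hc g hg) h) (pd (hc _ (inv_mem hg)) (pl_inv h)) h (TM_le ht)⟩
  refine ⟨⟨hS.le, hc, fun g hg t ht t1 h => ?_⟩, nrm⟩
  have hL : g⁻¹ * t * g ∈ L := mul_mem (mul_mem (inv_mem hg) (hS.le ht)) hg
  have hp : IsPGroup p (Subgroup.zpowers (g⁻¹ * t * g)) :=
    (hS.isPGroup.map (MulAut.conj g⁻¹).toMonoidHom).to_le (Subgroup.zpowers_le.2 ⟨t, ht, by simp⟩)
  have hn : Subgroup.zpowers (g⁻¹ * t * g) ≤ Subgroup.normalizer (TM K : Set (Au (V3 K))) :=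
    Subgroup.zpowers_le.2 (Subgroup.mem_normalizer_iff.2 fun s => ⟨nrm _ hL h s, fun k => by
      simpa [mul_assoc] using nrm _ (inv_mem hL) (pl_inv h) _ k⟩)
  have hT : g⁻¹ * t * g ∈ TM K := (hS.eq_of_le (hS.isPGroup.to_sup_of_normal_left' hp hn) le_sup_left
    (sup_le hS.le (Subgroup.zpowers_le.2 hL))).le (Subgroup.mem_sup_right (Subgroup.mem_zpowers _))
  have tg : ∀ v, t (g v) = g ((g⁻¹ * t * g) v) := fun v => by rw [au_mul, au_mul, au_apply_inv]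
  have h1 : g⁻¹ * t * g ≠ 1 := fun e => t1 (by simpa [mul_assoc] using congrArg (fun x => g * x * g⁻¹) e)
  have f1 := (TM_le ht).2.2
  have f2 := (TM_le hT).2.2
  obtain ⟨b, y, -, et⟩ := ht
  obtain ⟨b', y', -, eh⟩ := hT
  by_cases hb : b = 0
  · by_cases hb' : b' = 0
    · subst hb hb'
      have y0 : star y' ≠ 0 := star_ne_zero.2 fun e => h1 (by rw [← eh, e, Mt_zero])
      intro d
      have k : ((0 : K), (0 : K), d) = (g⁻¹ * t * g) (d / star y', 0, 0) - (d / star y', 0, 0) := by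
        rw [← eh, Mt_apply]; ext <;> simp [mul_div_cancel₀ _ y0]
      rw [k, map_sub, ← tg, ← et, Mt_apply]
      simp
    · have k : PL g⁻¹ := fun d => fix (y := y') hb' (by rw [eh, au_mul, au_mul, au_apply_inv, f1])
      simpa using pl_inv k
  · exact fun d => fix (y := y) hb (by rw [et, tg, f2])

end CL.U5
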