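/-
Project U5: lifting the reflection on `Q1 / Z` to `Q1`.
-/
import Cfsg.Agent.U5.Defs2

set_option autoImplicit false
set_option linter.unusedSectionVars false

namespace CL.U5

open Cfsg CL.Fus
open scoped commutatorElement

universe u

variable {K : Type u} [Field K] [StarRing K] [UF K]

namespace Lift1x

theorem conj_z1 {s w : U K} (hs : s ∈ Q1 K) (hw : w ∈ Q1 K) : (s * w * s⁻¹).z = w.z + fm (pV s) (pV w) := by
  simp [fm, pV, hs.1, hs.2, hw.1, hw.2]; ring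

theorem pV_conj1 {s w : U K} (hs : s ∈ Q1 K) (hw : w ∈ Q1 K) : pV (s * w * s⁻¹) = pV w := by
  rw [pV_conj s hw, hs.1, hs.2, Mt_zero]; rfl

theorem ext1 {x y : Q1 K} (h : pV (x : U K) = pV (y : U K)) (hz : x.1.z = y.1.z) : x = y := by
  simp only [pV, Prod.mk.injEq] at h
  exact Subtype.ext (U.ext h.1 (x.2.1.trans y.2.1.symm) h.2.1 (x.2.2.trans y.2.2.symm) h.2.2 hz)

theorem mul_z1 {x x' y y' : U K} (hx : x' ∈ Q1 K) (hy : y' ∈ Q1 K) (e : pV y = pV x) (e' : pV y' = pV x') :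
    (y * y').z - (x * x').z = y.z - x.z + (y'.z - x'.z) := by
  simp only [pV, Prod.mk.injEq] at e e'
  simp only [mul_z, hx.1, hx.2, hy.1, hy.2, e.1, e.2.1, e.2.2, e'.1, e'.2.1, e'.2.2]; ring

/-- the defect of an automorphism that is trivial modulo the centre -/
def mu (m : MulAut (Q1 K)) (x : Q1 K) : K := (m x).1.z - x.1.z

variable {m : MulAut (Q1 K)} (hm : ∀ x : Q1 K, pV (m x : U K) = pV (x : U K))
include hm

theorem mu_mul (x x' : Q1 K) : mu m (x * x') = mu m x + mu m x' := by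
  rw [mu, map_mul]
  exact mul_z1 x'.2 (m x').2 (hm x) (hm x')

theorem mu_inv (x : Q1 K) : mu m x⁻¹ = -mu m x := by
  have := mu_mul hm x x⁻¹
  rw [mul_inv_cancel, mu, map_one, sub_self] at this
  linear_combination -this

theorem mu_Z {x : Q1 K} (hx : (x : U K) ∈ Z K) : mu m x = 0 := by
  obtain ⟨t, ht⟩ := exists_sub (Z_skew hx)
  let a : Q1 K := ⟨xa 1, rfl, rfl⟩
  let d : Q1 K := ⟨xd t, rfl, rfl⟩
  have e : x = a * d * a⁻¹ * d⁻¹ := by
    have k : ((a * d * a⁻¹ * d⁻¹ : Q1 K) : U K) = ⁅xa (1 : K), xd t⁆ := rfl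
    refine ext1 ?_ ?_
    · rw [(pV_eq_zero x.2).2 hx, (pV_eq_zero (a * d * a⁻¹ * d⁻¹).2).2 (k ▸ comm_Q1 a.2 d.2)]
    · rw [k, comm_z_Q1 a.2 d.2, ← ht]; simp [fm, pV, a, d, xa, xd]
  rw [e, mu_mul hm, mu_mul hm, mu_mul hm, mu_inv hm, mu_inv hm]; ring

theorem mu_congr {x y : Q1 K} (e : pV (x : U K) = pV (y : U K)) : mu m x = mu m y := by
  have k : ((x * y⁻¹ : Q1 K) : U K) ∈ Z K := (pV_eq_zero (x * y⁻¹).2).1 (by
    have := pV_mul (g := ((x * y⁻¹ : Q1 K) : U K)) y.2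
    rw [← Subgroup.coe_mul, inv_mul_cancel_right, e] at this
    simpa using this)
  have := mu_Z hm k
  rw [mu_mul hm, mu_inv hm] at this
  linear_combination this

end Lift1x

open Lift1x in
theorem lift1 : LIFT1 K := by
  intro A hI hK hT g hg hr
  obtain ⟨v, hv⟩ := exists_ne K
  have v0 : v ≠ 0 := by rintro rfl; exact hv (star_zero K)
  have v1 : v ≠ 1 := by rintro rfl; exact hv (star_one K)
  have w0 : star v ≠ 0 := star_ne_zero.2 v0
  have w1 : star v ≠ 1 := fun e => v1 (by simpa using congrArg star e)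
  obtain ⟨h, hA, hh⟩ := hT (Units.mk0 v v0)
  obtain ⟨h', hA', hh'⟩ := hT (Units.mk0 (star v)⁻¹ (inv_ne_zero w0))
  have ha : ∀ x : Q1 K, pV (h x : U K) = (v⁻¹ * x.1.a, v / star v * x.1.c, star v * x.1.d) ∧ (h x).1.z = x.1.z := fun x => by
    rw [hh x]
    simp only [pV, act_a, act_c, act_d, act_z, hb_l, hb_m, hb_γ, Units.val_mk0, star_mul', star_pow, star_inv₀, star_star,
      Prod.mk.injEq]
    refine ⟨⟨trivial, ?_, ?_⟩, ?_⟩ <;> field_simp
  have ha' : ∀ x : Q1 K, pV (h' x : U K) = (star v * x.1.a, v / star v * x.1.c, v⁻¹ * x.1.d) ∧ (h' x).1.z = x.1.z :=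
    fun x => by
    rw [hh' x]
    simp only [pV, act_a, act_c, act_d, act_z, hb_l, hb_m, hb_γ, Units.val_mk0, star_mul', star_pow, star_inv₀, star_star,
      Prod.mk.injEq]
    refine ⟨⟨?_, ?_, ?_⟩, ?_⟩ <;> field_simp
  have e1 : h' * r1 K = r1 K * h := MulEquiv.ext fun x => ext1
    (by rw [MulAut.mul_apply, MulAut.mul_apply, pV_r1, (ha x).1, (ha' _).1]; simp [rV_apply, r1_coe])
    (by rw [MulAut.mul_apply, MulAut.mul_apply, (ha' _).2]; exact (ha x).2.symm)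
  obtain ⟨m, rfl⟩ : ∃ m, g = r1 K * m := ⟨(r1 K)⁻¹ * g, by group⟩
  have hm : ∀ x : Q1 K, pV (m x : U K) = pV (x : U K) := fun x => (rV K).injective (by rw [← hr x, ← pV_r1]; rfl)
  have hc : ∀ x y : Q1 K, pV (x : U K) = pV (y : U K) → pV (h x : U K) = pV (h y : U K) := fun x y e => by
    simp only [pV, Prod.mk.injEq] at e
    rw [(ha x).1, (ha y).1, e.1, e.2.1, e.2.2]
  have e2 : r1 K * m * h * (r1 K * m)⁻¹ * h'⁻¹ = r1 K * (m * h * m⁻¹ * h⁻¹) * (r1 K)⁻¹ := by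
    rw [eq_mul_inv_of_mul_eq e1]; group
  obtain ⟨s, hs, e3⟩ := hK _ (A.mul_mem (A.mul_mem (A.mul_mem hg hA) (A.inv_mem hg)) (A.inv_mem hA')) fun x => by
    rw [e2]
    change pV (r1 K (m (h (m⁻¹ (h⁻¹ ((r1 K)⁻¹ x))))) : U K) = _
    rw [pV_r1, hm, hc _ (h⁻¹ ((r1 K)⁻¹ x)) (by rw [← hm, MulAut.apply_inv_self]), MulAut.apply_inv_self, ← pV_r1,
      MulAut.apply_inv_self]
  obtain ⟨s1, e4⟩ : ∃ s1 : Q1 K, r1 K s1 = ⟨s, hs⟩ := (r1 K).surjective _
  have e5 : ∀ y, m (h y) = s1 * h (m y) * s1⁻¹ := fun y => (r1 K).injective (by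
    have := DFunLike.congr_fun (e2.symm.trans e3) (r1 K (h (m y)))
    simp only [MulAut.mul_apply, MulAut.inv_apply_self] at this
    rw [this, map_mul, map_mul, map_inv, e4]
    exact Subtype.ext (MulAut.conjNormal_apply _ _))
  have e6 : ∀ y, mu m (h y) - mu m y = fm (pV (s1 : U K)) (pV (h y : U K)) := fun y => by
    have := conj_z1 s1.2 (h (m y)).2
    rw [(ha _).2, hc _ _ (hm y)] at this
    have k : (m (h y)).1.z = _ := (congrArg (fun t : Q1 K => t.1.z) (e5 y)).trans this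
    rw [mu, mu, k, (ha y).2]; ring
  have n1 : 1 - v ≠ 0 := sub_ne_zero.2 v1.symm
  have n2 : v - star v ≠ 0 := sub_ne_zero.2 hv.symm
  have n3 : star v - 1 ≠ 0 := sub_ne_zero.2 w1
  have n1' : 1 - star v ≠ 0 := sub_ne_zero.2 w1.symm
  have n2' : star v - v ≠ 0 := sub_ne_zero.2 hv
  have n3' : v - 1 ≠ 0 := sub_ne_zero.2 v1
  obtain ⟨s2, a2, b2, c2, y2, d2⟩ := exists_el (s1.1.a * (v / (v - 1))) 0 (s1.1.c * (star v / (star v - v))) 0
    (s1.1.d / (1 - star v)) (by simp)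
  have e7 : ∀ x, mu m x = fm (pV s2) (pV (x : U K)) := fun x => by
    obtain ⟨y, a3, b3, c3, y3, d3⟩ := exists_el (x.1.a * (v / (1 - v))) 0 (x.1.c * (star v / (v - star v))) 0
      (x.1.d / (star v - 1)) (by simp)
    have k : mu m (h ⟨y, b3, y3⟩) = mu m (x * ⟨y, b3, y3⟩) := mu_congr hm (by
      rw [(ha _).1, Subgroup.coe_mul, pV_mul (show y ∈ Q1 K from ⟨b3, y3⟩)]
      simp only [pV, a3, c3, d3, Prod.mk_add_mk, Prod.mk.injEq]
      refine ⟨?_, ?_, ?_⟩ <;> field_simp <;> ring)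
    have := e6 ⟨y, b3, y3⟩
    rw [k, mu_mul hm, add_sub_cancel_right, (ha _).1] at this
    rw [this]
    simp only [fm, pV, a2, c2, d2, a3, c3, d3, star_mul', star_div₀, star_sub, star_inv₀, star_star, star_one]
    field_simp
  have e8 : m = MulAut.conjNormal s2 := MulEquiv.ext fun x => ext1
    (by rw [hm, MulAut.conjNormal_apply, pV_conj1 ⟨b2, y2⟩ x.2])
    (by rw [MulAut.conjNormal_apply, conj_z1 ⟨b2, y2⟩ x.2, ← e7, mu]; ring)
  simpa using A.mul_mem hg (A.inv_mem (e8 ▸ hI s2 ⟨b2, y2⟩ : m ∈ A))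

end CL.U5
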