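/-
Project U5: lifting the reflection on `Q2 / U0` to `Q2`.
-/
import Cfsg.Agent.U5.Defs2

set_option autoImplicit false
set_option linter.unusedSectionVars false

namespace CL.U5

open Cfsg CL.Fus
open scoped commutatorElement

universe u

variable {K : Type u} [Field K] [StarRing K] [UF K]

namespace Lift2x

/-- an additive map is determined by its defect on a diagonal map without eigenvalue one -/
theorem onto {f g : V2 K → K} (add : ∀ v w, f (v + w) = f v + f w) {α β : K} (h1 : α ≠ 1) (h2 : β ≠ 1)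
    (h : ∀ w : V2 K, f (α * w.1, β * w.2) = f w + g w) (x : V2 K) : f x = g (x.1 / (α - 1), x.2 / (β - 1)) := by
  have k1 := sub_ne_zero.2 h1
  have k2 := sub_ne_zero.2 h2
  have := h (x.1 / (α - 1), x.2 / (β - 1))
  rw [show ((α * (x.1 / (α - 1), x.2 / (β - 1)).1, β * (x.1 / (α - 1), x.2 / (β - 1)).2) : V2 K) =
    (x.1 / (α - 1), x.2 / (β - 1)) + x by ext <;> simp <;> field_simp <;> ring, add] at this
  exact add_left_cancel this

theorem exists_u (K : Type u) [Field K] [StarRing K] [UF K] : ∃ u : K, u ≠ 0 ∧ u ^ 3 ≠ star u ^ 2 := by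
  by_contra h
  push Not at h
  have sk : ∀ k : K, k ≠ 0 → star k = -k → k = 1 := fun k h0 h1 => by
    have := h k h0
    rw [h1] at this
    exact mul_left_cancel₀ (pow_ne_zero 2 h0) (by linear_combination this)
  obtain ⟨k, k0, k1⟩ := exists_skew K
  have two : (2 : K) = 0 := by
    rw [sk k k0 k1, star_one] at k1
    linear_combination k1
  obtain ⟨t, ht⟩ := exists_ne K
  have e : t + star t = 1 := sk _ (fun e => ht (by linear_combination e - t * two))
    (by rw [star_add, star_star]; linear_combination (t + star t) * two)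
  have t0 : t ≠ 0 := fun e => ht (by simp [e])
  have s0 : star t ≠ 0 := by simpa using t0
  have a1 := h t t0
  have a2 := h _ s0
  rw [star_star] at a2
  have e' : star t = 1 - t := by linear_combination e
  rw [e'] at a1 a2
  have : t = 1 := mul_left_cancel₀ t0 (by linear_combination -a1 - a2 + (t ^ 2 - t) * two)
  exact ht (by simp [this])

/-- the defect of `μ` on the diagonal map `(α, β)` is a commutator map -/
def Pm (f1 f2 f3 : V2 K → K) (α β : K) : Prop := ∃ b c : K, ∀ w : V2 K,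
  f1 (α * w.1, β * w.2) = α * star α * f1 w + (star b * (α * w.1) - star (α * w.1) * b) ∧
  f2 (α * w.1, β * w.2) = β * star α * f2 w + (star b * (β * w.2) - star (α * w.1) * c) ∧
  f3 (α * w.1, β * w.2) = β * star β * f3 w + (star c * (β * w.2) - star (β * w.2) * c)

theorem alg {f1 f2 f3 : V2 K → K} (a1 : ∀ v w, f1 (v + w) = f1 v + f1 w) (a2 : ∀ v w, f2 (v + w) = f2 v + f2 w)
    (a3 : ∀ v w, f3 (v + w) = f3 v + f3 w)
    (h : ∀ u v : K, u ≠ 0 → v ≠ 0 → Pm f1 f2 f3 (v ^ 2 / (u * star v)) (u * v / star v)) :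
    ∃ b c : K, ∀ w : V2 K, f1 w = star b * w.1 - star w.1 * b ∧ f2 w = star b * w.2 - star w.1 * c ∧
      f3 w = star c * w.2 - star w.2 * c := by
  obtain ⟨t, ht⟩ := exists_ne K
  have t0 : t ≠ 0 := fun e => ht (by simp [e])
  have s0 : star t ≠ 0 := by simpa using t0
  obtain ⟨r, r0, r1, rs⟩ : ∃ r : K, r ≠ 0 ∧ r ≠ 1 ∧ star r = r⁻¹ :=
    ⟨t / star t, div_ne_zero t0 s0, fun e => ht ((div_eq_one_iff_eq s0).1 e).symm, by simp⟩
  obtain ⟨b, c, h0⟩ := h r 1 r0 one_ne_zero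
  simp only [one_pow, star_one, mul_one, div_one, one_div, star_inv₀, rs, inv_inv, inv_mul_cancel₀ r0,
    mul_inv_cancel₀ r0, one_mul] at h0
  have r2 : r⁻¹ ≠ 1 := fun e => r1 (inv_eq_one.1 e)
  have r3 : r - 1 ≠ 0 := sub_ne_zero.2 r1
  have r4 : 1 - r ≠ 0 := sub_ne_zero.2 r1.symm
  obtain ⟨u, u0, u1⟩ := exists_u K
  have u2 : star u ≠ 0 := by simpa using u0
  obtain ⟨b', c', h1⟩ := h u (u / star u) u0 (div_ne_zero u0 u2)
  have e1 : (u / star u) ^ 2 / (u * star (u / star u)) = u ^ 2 / star u ^ 3 := by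
    rw [star_div₀, star_star]; field_simp
  have e2 : u * (u / star u) / star (u / star u) = u ^ 3 / star u ^ 2 := by rw [star_div₀, star_star]; field_simp
  have e3 : u ^ 3 / star u ^ 2 * star (u ^ 2 / star u ^ 3) = 1 := by
    rw [star_div₀, star_pow, star_pow, star_star]; field_simp
  rw [e1, e2, e3] at h1
  have n1 : u ^ 2 / star u ^ 3 ≠ 1 := fun e => u1 (by
    have := congrArg star ((div_eq_one_iff_eq (pow_ne_zero 3 u2)).1 e)
    rw [star_pow, star_pow, star_star] at this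
    exact this.symm)
  have n2 : u ^ 3 / star u ^ 2 ≠ 1 := fun e => u1 ((div_eq_one_iff_eq (pow_ne_zero 2 u2)).1 e)
  generalize u ^ 2 / star u ^ 3 = α at h1 n1
  generalize u ^ 3 / star u ^ 2 = β at h1 n2
  have k1 := onto a1 r2 r1 fun w => (h0 w).1
  have k3 := onto a3 r2 r1 fun w => (h0 w).2.2
  have k2 := onto (g := fun w => star b' * (β * w.2) - star (α * w.1) * c') a2 n1 n2 fun w => by
    rw [(h1 w).2.1, one_mul]
  have k4 : ∀ w : V2 K, f2 (r⁻¹ * w.1, r * w.2) = r * f2 w := fun w => by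
    rw [k2, k2]
    simp only [star_mul', star_div₀, star_inv₀, rs, inv_inv]
    ring
  refine ⟨b / star (1 - r), c / (1 - r), fun w => ⟨?_, ?_, ?_⟩⟩
  · rw [k1]
    simp only [star_mul', star_div₀, star_inv₀, star_sub, star_one, rs, inv_inv, star_star]
    have : 1 - r⁻¹ = (r - 1) / r := by field_simp
    have e : r⁻¹ - 1 = (1 - r) / r := by field_simp
    rw [this, e]
    field_simp
  · have := (h0 w).2.1
    rw [k4] at this
    simp only [star_mul', star_div₀, star_inv₀, rs, inv_inv, star_star] at this ⊢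
    field_simp
    exact mul_left_cancel₀ r0 (by linear_combination this)
  · rw [k3]
    simp only [star_mul', star_div₀, star_inv₀, star_sub, star_one, rs, inv_inv, star_star]
    have : 1 - r⁻¹ = (r - 1) / r := by field_simp
    have e : r⁻¹ - 1 = (1 - r) / r := by field_simp
    rw [this, e]
    field_simp

theorem exQ (w : V2 K) : ∃ x : Q2 K, x.1.b = w.1 ∧ x.1.c = w.2 := by
  obtain ⟨y, hy⟩ := exists_y w.1
  obtain ⟨g, h1, h2, h3, -⟩ := exists_el 0 w.1 w.2 y 0 hy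
  exact ⟨⟨g, h1⟩, h2, h3⟩

theorem a0 (x : Q2 K) : x.1.a = 0 := x.2

theorem cj_z (s g : Q2 K) : (s.1 * g.1 * s.1⁻¹).z = g.1.z + star s.1.c * g.1.c - star g.1.c * s.1.c := by
  simp [a0]; ring

/-- a diagonal automorphism of `Q2` -/
def Dg (α β : K) (h : MulAut (Q2 K)) : Prop := ∀ x : Q2 K, (h x).1.b = α * x.1.b ∧ (h x).1.c = β * x.1.c ∧
  (h x).1.y = α * star α * x.1.y ∧ (h x).1.d = β * star α * x.1.d ∧ (h x).1.z = β * star β * x.1.z

theorem dg_of {u v : K} (hu : u ≠ 0) (hv : v ≠ 0) {h : MulAut (Q2 K)}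
    (r : Res (act (ha (Units.mk0 u hu) * hb (Units.mk0 v hv))) h) : Dg (v ^ 2 / (u * star v)) (u * v / star v) h := by
  have u2 : star u ≠ 0 := by simpa using hu
  have v2 : star v ≠ 0 := by simpa using hv
  intro x
  rw [r x]
  simp only [act_b, act_c, act_y, act_d, act_z, par_mul_l, par_mul_m, par_mul_γ, ha_l, ha_m, ha_γ, hb_l, hb_m, hb_γ,
    Units.val_mk0, star_mul', star_div₀, star_inv₀, star_pow, star_star]
  refine ⟨?_, ?_, ?_, ?_, ?_⟩ <;> field_simp

theorem r2_dg {α β : K} {h h' : MulAut (Q2 K)} (d : Dg α β h) (d' : Dg β α h') (x : Q2 K) : r2 K (h x) = h' (r2 K x) := by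
  obtain ⟨e1, e2, e3, e4, e5⟩ := d x
  obtain ⟨f1, f2, f3, f4, f5⟩ := d' (r2 K x)
  refine Subtype.ext (U.ext ((a0 _).trans (a0 _).symm) ?_ ?_ ?_ ?_ ?_)
  all_goals simp only [f1, f2, f3, f4, f5, r2_coe, e1, e2, e3, e4, e5, star_mul', star_star]
  all_goals ring

/-- an automorphism that is trivial on `Q2 / U0` is trivial on `U0` -/
theorem fix0 {m : MulAut (Q2 K)} (hm : ∀ x : Q2 K, (m x).1.b = x.1.b ∧ (m x).1.c = x.1.c) (x : Q2 K) (h1 : x.1.b = 0)
    (h2 : x.1.c = 0) : m x = x := by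
  have cm : ∀ p q : Q2 K, m ⁅p, q⁆ = ⁅p, q⁆ := fun p q => by
    rw [map_commutatorElement]
    refine Subtype.ext ?_
    change ⁅(m p).1, (m q).1⁆ = ⁅p.1, q.1⁆
    ext <;> simp [a0, hm]
  obtain ⟨b, hb⟩ := exists_sub (c := x.1.y) (by simp [U.star_y, h1])
  obtain ⟨c, hc⟩ := exists_sub (c := x.1.z) (by simp [U.star_z, a0, h2])
  obtain ⟨p, p1, p2⟩ := exQ ((1, 0) : V2 K)
  obtain ⟨q, q1, q2⟩ := exQ ((b, x.1.d) : V2 K)
  obtain ⟨p', p3, p4⟩ := exQ ((0, 1) : V2 K)
  obtain ⟨q', q3, q4⟩ := exQ ((0, c) : V2 K)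
  have e : x = ⁅p, q⁆ * ⁅p', q'⁆ := by
    refine Subtype.ext ?_
    change x.1 = ⁅p.1, q.1⁆ * ⁅p'.1, q'.1⁆
    ext <;> simp [a0, h1, h2, p1, p2, p3, p4, q1, q2, q3, q4, hb, hc]
  rw [e, map_mul, cm, cm]

end Lift2x

open Lift2x in
theorem lift2 : LIFT2 K := fun A hI hT hD g hg hr => by
  obtain ⟨m, em⟩ : ∃ m : MulAut (Q2 K), g = r2 K * m := ⟨(r2 K)⁻¹ * g, by group⟩
  have hm : ∀ x : Q2 K, (m x).1.b = x.1.b ∧ (m x).1.c = x.1.c := fun x => by
    have := hr x
    rw [em, MulAut.mul_apply, pW_r2] at this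
    exact Prod.ext_iff.1 ((rW K).injective this)
  choose σ σ1 σ2 using exQ (K := K)
  let F : Q2 K → V3 K := fun x => ((m x).1.y - x.1.y, (m x).1.d - x.1.d, (m x).1.z - x.1.z)
  have Fm : ∀ x y, F (x * y) = F x + F y := fun x y => by
    simp only [F, map_mul, Subgroup.coe_mul, mul_y, mul_d, mul_z, a0, hm, Prod.mk_add_mk]
    ext <;> simp <;> ring
  have Fe : ∀ x y : Q2 K, x.1.b = y.1.b → x.1.c = y.1.c → F x = F y := fun x y h1 h2 => by
    have := fix0 hm (x⁻¹ * y) (by simp [h1]) (by simp [a0, h2])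
    rw [show y = x * (x⁻¹ * y) by group, Fm]
    simp only [F, this, sub_self]
    exact (add_zero _).symm
  have Fa : ∀ v w, F (σ (v + w)) = F (σ v) + F (σ w) := fun v w => by
    rw [← Fm]
    exact Fe _ _ (by simp [σ1]) (by simp [σ2, a0])
  have ex : ∀ u v : K, u ≠ 0 → v ≠ 0 → ∃ h ∈ A, Dg (v ^ 2 / (u * star v)) (u * v / star v) h := fun u v hu hv =>
    let ⟨h, h1, h2⟩ := hD (Units.mk0 u hu) (Units.mk0 v hv); ⟨h, h1, dg_of hu hv h2⟩
  obtain ⟨b, c, k⟩ := alg (f1 := fun w => (F (σ w)).1) (f2 := fun w => (F (σ w)).2.1) (f3 := fun w => (F (σ w)).2.2)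
    (fun v w => by simp only [Fa, Prod.fst_add]) (fun v w => by simp only [Fa, Prod.fst_add, Prod.snd_add])
    (fun v w => by simp only [Fa, Prod.snd_add]) fun u v hu hv => by
      have v2 : star v ≠ 0 := by simpa using hv
      obtain ⟨h, h1, d⟩ := ex u v hu hv
      obtain ⟨h', h2, d'⟩ := ex (v / u) v (div_ne_zero hv hu) hv
      rw [show v ^ 2 / (v / u * star v) = u * v / star v by field_simp,
        show v / u * v / star v = v ^ 2 / (u * star v) by field_simp] at d'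
      generalize v ^ 2 / (u * star v) = α at d d' ⊢
      generalize u * v / star v = β at d d' ⊢
      obtain ⟨s, hs, e⟩ := hT (g * h * g⁻¹ * h'⁻¹) (mul_mem (mul_mem (mul_mem hg h1) (inv_mem hg)) (inv_mem h2)) fun x => by
        obtain ⟨y, rfl⟩ := (h' * g).surjective x
        have t := Prod.ext_iff.1 (hr y)
        simp only [MulAut.mul_apply, MulAut.inv_apply_self, hr]
        simp only [pW, rW_apply] at t ⊢
        rw [(d y).1, (d y).2.1, (d' _).1, (d' _).2.1, t.1, t.2, mul_neg]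
      have key : ∀ y, m (h y) = (r2 K)⁻¹ ⟨s, hs⟩ * h (m y) * ((r2 K)⁻¹ ⟨s, hs⟩)⁻¹ := fun y => (r2 K).injective (by
        have := DFunLike.congr_fun e (h' (g y))
        simp only [MulAut.mul_apply, MulAut.inv_apply_self] at this
        rw [map_mul, map_mul, map_inv, MulAut.apply_inv_self, r2_dg d d', ← MulAut.mul_apply _ (r2 K),
          ← MulAut.mul_apply _ (r2 K), ← em, this]
        rfl)
      generalize (r2 K)⁻¹ ⟨s, hs⟩ = s1 at key
      refine ⟨s1.1.b, s1.1.c, fun w => ?_⟩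
      beta_reduce
      rw [Fe (σ (α * w.1, β * w.2)) (h (σ w)) (by rw [σ1, (d _).1, σ1]) (by rw [σ2, (d _).2.1, σ2])]
      obtain ⟨e1, e2, e3, e4, e5⟩ := d (m (σ w))
      obtain ⟨-, -, f3, f4, f5⟩ := d (σ w)
      simp only [F, key, Subgroup.coe_mul, Subgroup.coe_inv, conj_y, conj_d, cj_z, a0, e1, e2, e3, e4, e5, f3, f4, f5,
        hm, σ1, σ2]
      refine ⟨?_, ?_, ?_⟩ <;> ring
  have : m = MulAut.conjNormal (σ (b, c)).1 := MulEquiv.ext fun x => Subtype.ext (by
    have t := k (x.1.b, x.1.c)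
    rw [Fe (σ (x.1.b, x.1.c)) x (σ1 _) (σ2 _)] at t
    simp only [F] at t
    change (m x).1 = (σ (b, c)).1 * x.1 * (σ (b, c)).1⁻¹
    refine U.ext (by rw [conj_a, a0, a0]) (by rw [conj_b, (hm x).1]) (by rw [conj_c, (hm x).2, a0, a0]; ring) ?_ ?_ ?_
    · rw [conj_y, σ1]; linear_combination t.1
    · rw [conj_d, σ1, σ2, a0, a0]; linear_combination t.2.1
    · rw [cj_z, σ2]; linear_combination t.2.2)
  rw [show r2 K = g * m⁻¹ by rw [em]; group, this]
  exact mul_mem hg (inv_mem (hI _ (σ (b, c)).2))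

end CL.U5
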