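/-
Project U5, part LIN2: a group of line-preserving additive maps of `K²` with Sylow subgroup the transvections.
-/
import Cfsg.Agent.U5.Defs2

set_option autoImplicit false
set_option linter.unusedSectionVars false

namespace CL.U5

open Cfsg CL.Fus

universe u

variable {K : Type u} [Field K] [StarRing K] [UF K]

namespace Lin2x

/-- the maps trivial on the line `{(0, c)}` and on the quotient -/
def St (K : Type u) [Field K] : Subgroup (Au (V2 K)) where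
  carrier := {g | (∀ v, (g v).1 = v.1) ∧ ∀ c, g (0, c) = (0, c)}
  mul_mem' := fun {g h} hg hh => ⟨fun v => by rw [au_mul, hg.1, hh.1], fun c => by rw [au_mul, hh.2, hg.2]⟩
  one_mem' := ⟨fun _ => rfl, fun _ => rfl⟩
  inv_mem' := fun {g} hg => ⟨fun v => by rw [← hg.1, au_apply_inv], fun c => by
    conv_lhs => rw [← hg.2 c, au_inv_apply]⟩

theorem St_apply {g : Au (V2 K)} (hg : g ∈ St K) (v : V2 K) : ∃ w : K, g v = v + (0, w) :=
  ⟨(g v).2 - v.2, Prod.ext (by simpa using hg.1 v) (by simp)⟩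

theorem pg_St (p : ℕ) [CharP K p] : IsPGroup p (St K) := fun ⟨g, hg⟩ => ⟨1, Subtype.ext (au_ext fun v => by
  obtain ⟨w, e⟩ := St_apply hg v
  have k : ∀ n : ℕ, (g ^ n) v = v + (0, (n : K) * w) := fun n => by
    induction n with
    | zero => simp
    | succ n ih =>
      rw [pow_succ', au_mul, ih, map_add, hg.2, e]
      ext <;> simp; ring
  have := k p
  rw [CharP.cast_eq_zero, zero_mul, Prod.mk_zero_zero, add_zero] at this
  simpa using this)⟩

theorem TW_le_St : TW K ≤ St K := by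
  rintro _ ⟨a, rfl⟩
  exact ⟨fun _ => rfl, fun c => by simp [Tw_apply]⟩

theorem conj_St {g t : Au (V2 K)} (hg : PW g) (ht : t ∈ St K) : g * t * g⁻¹ ∈ St K := by
  refine ⟨fun v => ?_, fun c => ?_⟩
  · obtain ⟨w, e⟩ := St_apply ht (g⁻¹ v)
    rw [au_mul, au_mul, e, map_add, au_apply_inv, Prod.fst_add, hg, add_zero]
  · have h : (g⁻¹ (0, c)).1 = 0 :=
      inv_mem_of (W := {v : V2 K | v.1 = 0}) (fun v hv => by
        have : v = (0, v.2) := Prod.ext hv rfl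
        rw [this]; exact hg _) rfl
    have e : g⁻¹ (0, c) = (0, (g⁻¹ (0, c)).2) := Prod.ext h rfl
    rw [au_mul, au_mul, e, ht.2, ← e, au_apply_inv]

theorem smul01 (k : K) : ((0 : K), k) = k • ((0 : K), (1 : K)) := by simp

theorem move {g : Au (V2 K)} (l : Lines g) (h : ¬ PW g) : ∃ t ∈ TW K, ∀ k, ((t * g) (0, k)).2 = 0 := by
  have hb : (g (0, 1)).1 ≠ 0 := fun e => h fun k => by
    obtain ⟨k', e'⟩ := l (0, 1) k
    rw [smul01 k, e', Prod.smul_fst, e, smul_zero]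
  refine ⟨_, ⟨-(g (0, 1)).2 / (g (0, 1)).1, rfl⟩, fun k => ?_⟩
  obtain ⟨k', e'⟩ := l (0, 1) k
  rw [au_mul, smul01 k, e', Tw_apply]
  simp only [Prod.smul_fst, Prod.smul_snd, smul_eq_mul]
  field_simp
  ring

theorem opp {L : Subgroup (Au (V2 K))} (hT : TW K ≤ L) (l : ∀ g ∈ L, Lines g) {g : Au (V2 K)} (hg : g ∈ L)
    (h : ∀ k, (g (0, k)).2 = 0) (k : K) : ∃ r ∈ L, ∀ v, r v = (v.1 + k * v.2, v.2) := by
  have e0 : ∀ k, g (0, k) = ((g (0, k)).1, 0) := fun k => Prod.ext rfl (h k)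
  have sj : Function.Surjective fun k : K => (g (0, k)).1 := Finite.injective_iff_surjective.1 fun a b e =>
    congrArg Prod.snd (g.injective (a₁ := (0, a)) (a₂ := (0, b)) (Prod.ext e ((h a).trans (h b).symm)))
  have he : (g⁻¹ (0, 1)).1 ≠ 0 := fun e => by
    have e' : g⁻¹ (0, 1) = (0, (g⁻¹ (0, 1)).2) := Prod.ext e rfl
    have := h (g⁻¹ (0, 1)).2
    rw [← e', au_apply_inv] at this
    exact one_ne_zero this
  obtain ⟨x, hx⟩ := sj k
  have m : g * Tw (x / (g⁻¹ (0, 1)).1) * g⁻¹ ∈ L := mul_mem (mul_mem hg (hT ⟨_, rfl⟩)) (inv_mem hg)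
  have r0 : ∀ (s : K) (v : V2 K), (g * Tw s * g⁻¹ : Au (V2 K)) v = v + ((g (0, s * (g⁻¹ v).1)).1, 0) := fun s v => by
    have : Tw s (g⁻¹ v) = g⁻¹ v + (0, s * (g⁻¹ v).1) := by rw [Tw_apply]; ext <;> simp
    rw [au_mul, au_mul, this, map_add, au_apply_inv, ← e0]
  have r1 : ∀ s b : K, (g * Tw s * g⁻¹ : Au (V2 K)) (b, 0) = (b, 0) := fun s b => by
    obtain ⟨y, rfl⟩ := sj b
    dsimp only
    rw [← e0, au_mul, au_mul, au_inv_apply, (TW_le_St ⟨s, rfl⟩).2]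
  refine ⟨_, m, fun v => ?_⟩
  have r2 := r0 (x / (g⁻¹ (0, 1)).1) (0, 1)
  rw [div_mul_cancel₀ _ he, show (g (0, x)).1 = k from hx] at r2
  have r3 := congrArg Prod.snd (r0 (x / (g⁻¹ (0, 1)).1) (0, v.2))
  have r4 := r1 (x / (g⁻¹ (0, 1)).1) v.1
  obtain ⟨k', e'⟩ := l _ m (0, 1) v.2
  generalize g * Tw (x / (g⁻¹ (0, 1)).1) * g⁻¹ = r at r2 r3 r4 e'
  rw [← smul01, r2] at e'
  rw [e'] at r3
  have r5 : k' = v.2 := by simpa using r3
  have : v = (v.1, 0) + (0, v.2) := by simp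
  conv_lhs => rw [this, map_add, r4, e', r5]
  ext <;> simp [mul_comm]

end Lin2x

open Lin2x in
theorem lin2 : LIN2 K := by
  intro p _ _ L hS l
  refine ⟨fun g hg pw t ht => ?_, fun ⟨g0, hg0, n0⟩ => ?_⟩
  · rw [← hS.eq_of_le ((pg_St p).to_inf_left (K := L)) (le_inf TW_le_St hS.le) inf_le_right]
    exact ⟨conj_St pw (TW_le_St ht), L.mul_mem (L.mul_mem hg (hS.le ht)) (L.inv_mem hg)⟩
  obtain ⟨t0, ht0, h0⟩ := move (l _ hg0) n0
  have op := opp hS.le l (mul_mem (hS.le ht0) hg0) h0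
  have hn : ∀ k : K, k ≠ 0 → ∃ n ∈ L, ∀ v, n v = (-k * v.2, v.1 / k) := fun k hk => by
    obtain ⟨r, hr, e⟩ := op (-k)
    refine ⟨r * Tw (1 / k) * r, mul_mem (mul_mem hr (hS.le ⟨_, rfl⟩)) hr, fun v => ?_⟩
    rw [au_mul, au_mul, e, e, Tw_apply]
    ext <;> simp only <;> field_simp <;> ring
  have hr : rW K ∈ L := by
    obtain ⟨n, h, e⟩ := hn 1 one_ne_zero
    rwa [show rW K = n from au_ext fun v => by rw [e, rW_apply]; simp]
  refine ⟨hr, fun u => ?_, fun g hg => ?_⟩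
  · obtain ⟨n, h, e⟩ := hn (u : K)⁻¹ (inv_ne_zero u.ne_zero)
    refine (mul_mem_cancel_right hr).1 ?_
    rwa [show actW (ha u) * rW K = n from au_ext fun v => by
      rw [e, au_mul, rW_apply, actW_apply, ha_l, ha_m, ha_γ, ha_γ]
      have := u.ne_zero
      ext <;> simp only <;> field_simp]
  · by_cases pw : PW g
    · exact Or.inl pw
    obtain ⟨t, ht, h⟩ := move (l _ hg) pw
    exact Or.inr ⟨t, ht, fun c => by rw [mul_assoc, au_mul, rW_apply, h, neg_zero]⟩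

end CL.U5
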