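/-
Project U5: the normaliser of the unipotent group in `SU₅(q)`.
-/
import Cfsg.Agent.U5.Defs2

set_option autoImplicit false
set_option linter.unusedSectionVars false

namespace CL.U5

open Cfsg CL.Fus Matrix
open scoped commutatorElement

universe u

variable {K : Type u} [Field K] [StarRing K] [UF K]

namespace MBx

theorem tri {M : Matrix (Fin 5) (Fin 5) K} (h : ∀ x', ∃ x, matM x' * M = M * matM x) :
    M 1 0 = 0 ∧ M 2 0 = 0 ∧ M 3 0 = 0 ∧ M 4 0 = 0 ∧ M 2 1 = 0 ∧ M 3 1 = 0 ∧ M 4 1 = 0 ∧ M 3 2 = 0 ∧ M 4 2 = 0 ∧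
      M 4 3 = 0 := by
  obtain ⟨y, hy⟩ := exists_y (1 : K)
  obtain ⟨x, e⟩ := h (xa 1)
  obtain ⟨w, f⟩ := h (xb 1 y hy)
  have e00 := congrFun (congrFun e 0) 0
  have e30 := congrFun (congrFun e 3) 0
  have e31 := congrFun (congrFun e 3) 1
  have e32 := congrFun (congrFun e 3) 2
  have e33 := congrFun (congrFun e 3) 3
  have f10 := congrFun (congrFun f 1) 0
  have f20 := congrFun (congrFun f 2) 0
  have f11 := congrFun (congrFun f 1) 1
  have f21 := congrFun (congrFun f 2) 1
  have f22 := congrFun (congrFun f 2) 2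
  simp only [Matrix.mul_apply, Fin.sum_univ_five, matM, xa, xb, Fin.isValue, of_apply, cons_val, star_one, star_zero]
    at e00 e30 e31 e32 e33 f10 f20 f11 f21 f22
  have a10 : M 1 0 = 0 := by linear_combination e00
  have a40 : M 4 0 = 0 := by linear_combination -e30
  have a30 : M 3 0 = 0 := by linear_combination -f20
  have a20 : M 2 0 = 0 := by linear_combination f10 - y * a30
  have a41 : M 4 1 = 0 := by linear_combination -e31 - x.a * a30
  have a31 : M 3 1 = 0 := by linear_combination -f21 - w.a * a20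
  have a21 : M 2 1 = 0 := by linear_combination f11 - y * a31 + w.a * a10
  have a42 : M 4 2 = 0 := by linear_combination -e32 - x.c * a30 - x.b * a31
  have a32 : M 3 2 = 0 := by linear_combination -f22 - w.c * a20 - w.b * a21
  have a43 : M 4 3 = 0 := by linear_combination -e33 - x.d * a30 - x.y * a31 + star x.b * a32
  exact ⟨a10, a20, a30, a40, a21, a31, a41, a32, a42, a43⟩

theorem dg (h : Par K) (hγ : ∀ x, h.γ x = x) (d : Fin 5 → K) (h0 : d 0 = h.l * d 1) (h1 : d 1 = h.m * d 2)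
    (h2 : d 2 = star (h.m : K) * d 3) (h3 : d 3 = star (h.l : K) * d 4) (x : U K) :
    diagonal d * matM x = matM (act h x) * diagonal d := by
  ext i j
  rw [diagonal_mul, mul_diagonal]
  fin_cases i <;> fin_cases j <;> simp only [matM, Fin.zero_eta, Fin.mk_one, Fin.reduceFinMk, Fin.isValue, of_apply,
    cons_val, act_a, act_b, act_c, act_y, act_d, act_z, hγ, star_mul', star_star, h0, h1, h2, h3] <;> ring

theorem dec {M : Matrix (Fin 5) (Fin 5) K} (hU : M * Jm K * Mᴴ = Jm K)
    (t : M 1 0 = 0 ∧ M 2 0 = 0 ∧ M 3 0 = 0 ∧ M 4 0 = 0 ∧ M 2 1 = 0 ∧ M 3 1 = 0 ∧ M 4 1 = 0 ∧ M 3 2 = 0 ∧ M 4 2 = 0 ∧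
      M 4 3 = 0) : star (M 0 0) * M 4 4 = 1 ∧ star (M 1 1) * M 3 3 = 1 ∧ star (M 2 2) * M 2 2 = 1 ∧
      ∃ s, M = matM s * diagonal fun i => M i i := by
  obtain ⟨a10, a20, a30, a40, a21, a31, a41, a32, a42, a43⟩ := t
  have u00 := congrFun (congrFun hU 0) 0
  have u10 := congrFun (congrFun hU 1) 0
  have u20 := congrFun (congrFun hU 2) 0
  have u30 := congrFun (congrFun hU 3) 0
  have u40 := congrFun (congrFun hU 4) 0
  have u11 := congrFun (congrFun hU 1) 1
  have u21 := congrFun (congrFun hU 2) 1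
  have u31 := congrFun (congrFun hU 3) 1
  have u13 := congrFun (congrFun hU 1) 3
  have u22 := congrFun (congrFun hU 2) 2
  simp only [Matrix.mul_apply, Fin.sum_univ_five, conjTranspose_apply, Jm, Fin.isValue, of_apply, cons_val, a10, a20,
    a30, a40, a21, a31, a41, a32, a42, a43, star_zero, mul_zero, zero_mul, mul_one, add_zero, zero_add]
    at u00 u10 u20 u30 u40 u11 u21 u31 u13 u22
  refine ⟨by linear_combination u40, by linear_combination u31, by linear_combination u22,
    ⟨M 0 1 * star (M 3 3), M 1 2 * star (M 2 2), M 0 2 * star (M 2 2), M 1 3 * star (M 1 1), M 0 3 * star (M 1 1),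
      M 0 4 * star (M 0 0), ?_, ?_⟩, ?_⟩
  · simp only [star_mul', star_star]
    linear_combination u11 + M 1 2 * star (M 1 2) * u22
  · simp only [star_mul', star_star]
    linear_combination u00 + M 0 2 * star (M 0 2) * u22 + M 0 1 * star (M 0 3) * u13 + M 0 3 * star (M 0 1) * u31
  · ext i j
    rw [mul_diagonal]
    fin_cases i <;> fin_cases j <;> simp only [matM, Fin.zero_eta, Fin.mk_one, Fin.reduceFinMk, Fin.isValue, of_apply,
      cons_val, star_mul', star_star, a10, a20, a30, a40, a21, a31, a41, a32, a42, a43, one_mul, zero_mul]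
    · linear_combination -M 0 1 * u13
    · linear_combination -M 0 2 * u22
    · linear_combination -M 0 3 * u31
    · linear_combination -M 0 4 * u40
    · linear_combination -M 1 2 * u22
    · linear_combination -M 1 3 * u31
    · linear_combination M 4 4 * u10 - M 1 4 * u40 + M 4 4 * star (M 0 1) * M 1 3 * u31 +
        M 4 4 * star (M 0 2) * M 1 2 * u22
    · linear_combination M 3 3 * u21 - M 2 3 * u31
    · linear_combination M 4 4 * u20 - M 2 4 * u40 - M 4 4 * star (M 0 1) * M 3 3 * u21 +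
        M 4 4 * star (M 0 1) * M 2 3 * u31
    · linear_combination M 4 4 * u30 - M 3 4 * u40

end MBx

open MBx

theorem mb : MB K := by
  intro g hg
  choose f hf using hg
  have fi : Function.Injective f := fun x y e => mat_inj (by
    have := (hf x).trans ((congrArg mat e).trans (hf y).symm)
    simpa using this)
  have t := tri (M := g.1.1) fun x' => by
    obtain ⟨x, rfl⟩ := Finite.injective_iff_surjective.1 fi x'
    exact ⟨x, congrArg (fun N : SUm K => N.1.1) (mul_inv_eq_iff_eq_mul.1 (hf x)).symm⟩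
  obtain ⟨r0, r1, r2, s, e⟩ := dec g.2 t
  have hd : g.1.1 0 0 * g.1.1 1 1 * g.1.1 2 2 * g.1.1 3 3 * g.1.1 4 4 = 1 := by
    have := g.1.2
    rwa [e, det_mul, det_matM, one_mul, det_diagonal, Fin.prod_univ_five] at this
  have n0 : g.1.1 0 0 ≠ 0 := fun c => by simp [c] at hd
  have n1 : g.1.1 1 1 ≠ 0 := fun c => by simp [c] at hd
  have n2 : g.1.1 2 2 ≠ 0 := fun c => by simp [c] at hd
  have m0 : star (g.1.1 0 0) ≠ 0 := star_ne_zero.2 n0
  have m1 : star (g.1.1 1 1) ≠ 0 := star_ne_zero.2 n1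
  have k : g.1.1 0 0 * g.1.1 1 1 * g.1.1 2 2 = star (g.1.1 0 0) * star (g.1.1 1 1) := by
    linear_combination star (g.1.1 0 0) * star (g.1.1 1 1) * hd -
      g.1.1 0 0 * g.1.1 1 1 * g.1.1 2 2 * (star (g.1.1 1 1) * g.1.1 3 3 * r0 + r1)
  refine ⟨s, Units.mk0 _ n0, Units.mk0 _ (mul_ne_zero n0 n1), fun x => ?_⟩
  generalize hh : ha (Units.mk0 _ n0) * hb (Units.mk0 _ (mul_ne_zero n0 n1)) = h
  have hγ : ∀ x, h.γ x = x := fun x => by rw [← hh]; rfl
  have h0 : g.1.1 0 0 = h.l * g.1.1 1 1 := by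
    simp only [← hh, par_mul_l, ha_l, ha_γ, hb_l, Units.val_mk0]
    field_simp
  have h1 : g.1.1 1 1 = h.m * g.1.1 2 2 := by
    simp only [← hh, par_mul_m, ha_m, ha_γ, hb_m, Units.val_mk0, star_mul']
    field_simp
    linear_combination -k
  have h0' := congrArg star h0
  have h1' := congrArg star h1
  rw [star_mul'] at h0' h1'
  have h2 : g.1.1 2 2 = star (h.m : K) * g.1.1 3 3 := by
    linear_combination -g.1.1 2 2 * r1 + g.1.1 2 2 * g.1.1 3 3 * h1' + star (h.m : K) * g.1.1 3 3 * r2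
  have h3 : g.1.1 3 3 = star (h.l : K) * g.1.1 4 4 := by
    linear_combination -g.1.1 3 3 * r0 + g.1.1 3 3 * g.1.1 4 4 * h0' + star (h.l : K) * g.1.1 4 4 * r1
  have key := dg h hγ (fun i => g.1.1 i i) h0 h1 h2 h3 x
  rw [mul_inv_eq_iff_eq_mul]
  refine Subtype.ext (Subtype.ext ?_)
  change g.1.1 * matM x = matM (s * act h x * s⁻¹) * g.1.1
  generalize (diagonal fun i => g.1.1 i i) = D at e key
  rw [e, ← Matrix.mul_assoc, ← matM_mul, inv_mul_cancel_right, matM_mul, Matrix.mul_assoc, key, Matrix.mul_assoc]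

end CL.U5
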