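/-
Project U5: the matrix model is `SU₅(q)`, and `U K` is a Sylow `p`-subgroup.
-/
import Cfsg.Agent.U5.Defs2
import Cfsg.Agent.Cls.UniSimple

set_option autoImplicit false
set_option linter.unusedSectionVars false

namespace CL.U5

open Cfsg CL.Fus CL.Uni Matrix

universe u

variable {K : Type u} [Field K] [StarRing K] [UF K]

namespace MCx

theorem J_sq : Jm K * Jm K = 1 := by
  ext i j
  rw [Matrix.mul_apply, Fin.sum_univ_five]
  fin_cases i <;> fin_cases j <;> simp [Jm]

theorem J_star : (Jm K)ᴴ = Jm K := by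
  ext i j
  fin_cases i <;> fin_cases j <;> simp [Jm]

/-- the Hermitian form with matrix `Jm` -/
def BJ (K : Type u) [Field K] [StarRing K] : (Fin 5 → K) →ₛₗ[starRingEnd K] (Fin 5 → K) →ₗ[K] K :=
  (stdB (starRingEnd K) (Fin 5)).compl₂ (Jm K).mulVecLin

theorem BJ_apply (u v : Fin 5 → K) : BJ K u v = star u ⬝ᵥ Jm K *ᵥ v := rfl

theorem form_ext {A A' : Matrix (Fin 5) (Fin 5) K} (h : ∀ u v : Fin 5 → K, star u ⬝ᵥ A *ᵥ v = star u ⬝ᵥ A' *ᵥ v) :
    A = A' := by
  ext i j
  simpa [← Pi.single_star] using h (Pi.single i 1) (Pi.single j 1)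

theorem herm : IsHerm (BJ K) (UF.q K) where
  bar := UF.bar
  symm x y := by
    simp only [BJ_apply, starRingEnd_apply, ← star_dotProduct_star, star_star, star_mulVec, J_star, ← dotProduct_mulVec]
  nondeg x h := by
    have := (isHerm_stdB (UF.bar (K := K)) (Fin 5)).nondeg x fun y => by
      have k := h (Jm K *ᵥ y)
      rwa [BJ_apply, mulVec_mulVec, J_sq, one_mulVec] at k
    exact this

theorem mem_iff (M : Matrix (Fin 5) (Fin 5) K) :
    M * Jm K * Mᴴ = Jm K ↔ ∀ u v, BJ K (M *ᵥ u) (M *ᵥ v) = BJ K u v := by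
  have e : ∀ u v, BJ K (M *ᵥ u) (M *ᵥ v) = star u ⬝ᵥ (Mᴴ * Jm K * M) *ᵥ v := fun u v => by
    rw [BJ_apply, star_mulVec, ← dotProduct_mulVec, mulVec_mulVec, mulVec_mulVec]
  have k : ∀ {A C : Matrix (Fin 5) (Fin 5) K}, A * Jm K * C = Jm K → C * Jm K * A = Jm K := fun {A C} h => by
    have h1 : A * (Jm K * C * Jm K) = 1 := by rw [← Matrix.mul_assoc, ← Matrix.mul_assoc, h, J_sq]
    have h2 := congrArg (Jm K * ·) (mul_eq_one_comm.1 h1)
    simpa only [← Matrix.mul_assoc, J_sq, Matrix.one_mul, Matrix.mul_one] using h2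
  simp only [e, BJ_apply]
  exact ⟨fun h u v => by rw [k h], fun h => k (form_ext h)⟩

/-- the bridge -/
noncomputable def br : SUm K ≃* SUG (BJ K) where
  toFun A := ⟨glEquiv (Fin 5) K (Matrix.SpecialLinearGroup.toGL A.1),
    mem_SUG.2 ⟨(mem_iff _).1 A.2, by rw [dt_glEquiv]; exact A.1.2⟩⟩
  invFun g := ⟨⟨((glEquiv (Fin 5) K).symm g.1 : Matrix.GeneralLinearGroup (Fin 5) K), by
      rw [← dt_glEquiv, MulEquiv.apply_symm_apply]; exact (mem_SUG.1 g.2).2⟩, (mem_iff _).2 fun u v => by
    have := (mem_SUG.1 g.2).1 u v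
    rwa [← (glEquiv (Fin 5) K).apply_symm_apply g.1] at this⟩
  left_inv A := by
    ext i j
    simp
  right_inv g := by
    apply Subtype.ext
    dsimp only
    rw [← MulEquiv.eq_symm_apply]
    ext i j
    rfl
  map_mul' A C := by
    apply Subtype.ext
    simp

theorem card_U : Nat.card (U K) = UF.q K ^ 10 := by
  have := Fintype.ofFinite K
  let e : U K ≃ Σ t : K × K × K × K, {y : K // y + starRingEnd K y = -(t.2.1 * star t.2.1)} ×
      {z : K // z + starRingEnd K z = -(t.1 * star t.2.2.2 + t.2.2.2 * star t.1 + t.2.2.1 * star t.2.2.1)} :=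
    { toFun := fun g => ⟨(g.a, g.b, g.c, g.d), ⟨g.y, by rw [starRingEnd_apply]; linear_combination g.hy⟩,
        ⟨g.z, by rw [starRingEnd_apply]; linear_combination g.hz⟩⟩
      invFun := fun t => ⟨t.1.1, t.1.2.1, t.1.2.2.1, t.2.1.1, t.1.2.2.2, t.2.2.1,
        by have := t.2.1.2; rw [starRingEnd_apply] at this; linear_combination this,
        by have := t.2.2.2; rw [starRingEnd_apply] at this; linear_combination this⟩
      left_inv := fun _ => rfl
      right_inv := fun _ => rfl }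
  rw [Nat.card_congr e, Nat.card_sigma, Finset.sum_congr rfl (g := fun _ => UF.q K * UF.q K) fun t _ => by
    rw [Nat.card_prod, UF.bar.card_trace_eq (by rw [starRingEnd_apply]; simp [mul_comm]),
      UF.bar.card_trace_eq (by rw [starRingEnd_apply]; simp; ring)]]
  simp only [Finset.sum_const, Finset.card_univ, Fintype.card_prod, UF.bar.fintype_card, smul_eq_mul]
  ring

theorem dvd_q (p : ℕ) [CharP K p] : p ∣ UF.q K := (CharP.cast_eq_zero_iff K p _).1 UF.bar.cast_q

end MCx

open MCx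

theorem mc : MC K := by
  have := Fintype.ofFinite K
  obtain ⟨e⟩ := (herm (K := K)).nonempty_suEquiv (n := 5) (by simp)
  refine ⟨⟨br.trans e⟩, fun p hp _ h => ?_⟩
  have h1 := card_SU (F := K) UF.bar.fintype_card (n := 5) (by decide)
  rw [← Nat.card_congr (br.trans e).toEquiv, ← (mat : U K →* SUm K).range.card_mul_index,
    ← Nat.card_congr (MonoidHom.ofInjective mat_inj).toEquiv, card_U, guOrder, mul_left_comm] at h1
  have h2 := Nat.eq_of_mul_eq_mul_left (pow_pos (by have := two_le_q (K := K); omega) _) h1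
  obtain ⟨i, -, hi⟩ := (Prime.dvd_finsetProd_iff hp.out.prime _).1 (h2 ▸ h.mul_left _)
  have h3 : p ∣ UF.q K ^ (i + 1) := (dvd_q p).trans (dvd_pow_self _ i.succ_ne_zero)
  have h4 : 0 < UF.q K ^ (i + 1) := pow_pos (by have := two_le_q (K := K); omega) _
  refine hp.out.one_lt.ne' (Nat.dvd_one.1 ?_)
  split_ifs at hi
  · exact (Nat.dvd_add_right h3).1 hi
  · have := Nat.dvd_sub h3 hi
    rwa [Nat.sub_sub_self h4] at this

theorem syl (h : MC K) : SYL K := fun p hp _ T => by
  have := Fintype.ofFinite K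
  obtain ⟨⟨e⟩, hi⟩ := h
  let c := Subgroup.center (Cfsg.SU 5 K (UF.q K))
  let f : SUm K →* Cfsg.PSU 5 K (UF.q K) := (QuotientGroup.mk' c).comp e.toMonoidHom
  have hf : Function.Surjective f := (QuotientGroup.mk'_surjective c).comp e.surjective
  have hj : Function.Injective (f.comp mat) := (injective_iff_map_eq_one _).2 fun x hx => by
    have h1 : e (mat x) ∈ c := (QuotientGroup.eq_one_iff _).1 hx
    have h2 := c.orderOf_dvd_natCard h1
    rw [card_center_SU UF.bar.fintype_card (by decide), e.orderOf_eq, orderOf_injective _ mat_inj] at h2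
    obtain ⟨k, hk⟩ := IsPGroup.iff_orderOf.1 (pg (K := K) p) x
    rcases k with _ | k
    · exact orderOf_eq_one_iff.1 hk
    · have h3 := ((hk ▸ dvd_pow_self p k.succ_ne_zero).trans h2).trans (Nat.gcd_dvd_right _ _)
      exact absurd (Nat.dvd_one.1 ((Nat.dvd_add_right (dvd_q p)).1 h3)) hp.out.one_lt.ne'
  have hP : IsPGroup p (f.comp mat).range := (pg p).of_surjective _ (f.comp mat).rangeRestrict_surjective
  have hn : ¬ p ∣ (f.comp mat).range.index := fun k =>
    hi p (k.trans (MonoidHom.range_comp f mat ▸ Subgroup.index_map_dvd _ hf))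
  exact ⟨(Sylow.equiv T (hP.toSylow hn)).trans (MonoidHom.ofInjective hj).symm⟩

end CL.U5
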