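/-
Project U5: the diagonal and field automorphisms and the reflections in the matrix model, and the realising group.
-/
import Cfsg.Agent.U5.Defs2

set_option autoImplicit false
set_option linter.unusedSectionVars false

namespace CL.U5

open Cfsg Matrix

universe u

namespace MDx

variable {K : Type u} [Field K] [StarRing K]

theorem Jm_apply (i j : Fin 5) : Jm K i j = if j = i.rev then 1 else 0 := by
  fin_cases i <;> fin_cases j <;> rfl

theorem diag_J {e : Fin 5 → K} (h : ∀ i, e i * star (e i.rev) = 1) : diagonal e * Jm K * (diagonal e)ᴴ = Jm K := by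
  ext i j
  rw [diagonal_conjTranspose, mul_diagonal, diagonal_mul, Jm_apply]
  split_ifs with k
  · rw [k, mul_one]; exact h i
  · rw [mul_zero, zero_mul]

def g1 (K : Type u) [Field K] : Matrix (Fin 5) (Fin 5) K :=
  !![1, 0, 0, 0, 0; 0, 0, 0, 1, 0; 0, 0, -1, 0, 0; 0, 1, 0, 0, 0; 0, 0, 0, 0, 1]
def g2 (K : Type u) [Field K] : Matrix (Fin 5) (Fin 5) K :=
  !![0, 1, 0, 0, 0; -1, 0, 0, 0, 0; 0, 0, 1, 0, 0; 0, 0, 0, 0, -1; 0, 0, 0, 1, 0]

theorem det_g1 : (g1 K).det = 1 := by
  simp [g1, det_succ_row_zero, Fin.sum_univ_succ, Fin.succAbove]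
theorem det_g2 : (g2 K).det = 1 := by
  simp [g2, det_succ_row_zero, Fin.sum_univ_succ, Fin.succAbove]

theorem g1_mem : g1 K * Jm K * (g1 K)ᴴ = Jm K := by
  ext i j
  simp only [Matrix.mul_apply, Fin.sum_univ_five, conjTranspose_apply]
  fin_cases i <;> fin_cases j <;> simp only [g1, Jm, Fin.zero_eta, Fin.mk_one, Fin.reduceFinMk, Fin.isValue, of_apply,
    cons_val, star_neg, star_zero, star_one] <;> ring
theorem g2_mem : g2 K * Jm K * (g2 K)ᴴ = Jm K := by
  ext i j
  simp only [Matrix.mul_apply, Fin.sum_univ_five, conjTranspose_apply]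
  fin_cases i <;> fin_cases j <;> simp only [g2, Jm, Fin.zero_eta, Fin.mk_one, Fin.reduceFinMk, Fin.isValue, of_apply,
    cons_val, star_neg, star_zero, star_one] <;> ring

theorem g1_conj (x : Q1 K) : matM (r1 K x : U K) * g1 K = g1 K * matM (x : U K) := by
  rw [r1_coe]
  ext i j
  simp only [Matrix.mul_apply, Fin.sum_univ_five]
  fin_cases i <;> fin_cases j <;> simp only [g1, matM, Fin.zero_eta, Fin.mk_one, Fin.reduceFinMk, Fin.isValue, of_apply,
    cons_val, star_neg, star_zero, x.2.1, x.2.2] <;> ring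
theorem g2_conj (x : Q2 K) : matM (r2 K x : U K) * g2 K = g2 K * matM (x : U K) := by
  rw [r2_coe]
  ext i j
  simp only [Matrix.mul_apply, Fin.sum_univ_five]
  fin_cases i <;> fin_cases j <;> simp only [g2, matM, Fin.zero_eta, Fin.mk_one, Fin.reduceFinMk, Fin.isValue, of_apply,
    cons_val, star_neg, star_zero, star_add, star_mul', star_star, mem_Q2.1 x.2] <;> ring

variable [UF K]

def dd (h : Par K) : Fin 5 → K := ![h.l * h.m, h.m, 1, (star (h.m : K))⁻¹, (star (h.l * h.m : K))⁻¹]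

theorem dd_ne (h : Par K) (i : Fin 5) : dd h i ≠ 0 := by fin_cases i <;> simp [dd]
theorem dd_one (i : Fin 5) : dd (1 : Par K) i = 1 := by fin_cases i <;> simp [dd]
theorem dd_mul (h k : Par K) (i : Fin 5) : dd (h * k) i = dd h i * h.γ (dd k i) := by
  fin_cases i <;> simp [dd] <;> ring
theorem dd_star (h : Par K) (i : Fin 5) : dd h i * star (dd h i.rev) = 1 := by
  have h1 : (h.l : K) ≠ 0 := h.l.ne_zero
  have h2 : (h.m : K) ≠ 0 := h.m.ne_zero
  have h3 : star (h.l : K) ≠ 0 := star_ne_zero.2 h1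
  have h4 : star (h.m : K) ≠ 0 := star_ne_zero.2 h2
  fin_cases i
  · show (h.l * h.m : K) * star (star (h.l * h.m : K))⁻¹ = 1
    rw [star_inv₀, star_star, mul_inv_cancel₀ (mul_ne_zero h1 h2)]
  · show (h.m : K) * star (star (h.m : K))⁻¹ = 1
    rw [star_inv₀, star_star, mul_inv_cancel₀ h2]
  · show (1 : K) * star 1 = 1
    simp
  · exact inv_mul_cancel₀ h4
  · exact inv_mul_cancel₀ (star_ne_zero.2 (mul_ne_zero h1 h2))

def phiM (h : Par K) (M : Matrix (Fin 5) (Fin 5) K) : Matrix (Fin 5) (Fin 5) K :=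
  diagonal (dd h) * M.map h.γ * diagonal fun i => (dd h i)⁻¹

theorem phiM_apply (h : Par K) (M : Matrix (Fin 5) (Fin 5) K) (i j : Fin 5) :
    phiM h M i j = dd h i * h.γ (M i j) * (dd h j)⁻¹ := by
  rw [phiM, mul_diagonal, diagonal_mul, map_apply]

theorem diag_inv (h : Par K) : (diagonal fun i => (dd h i)⁻¹) * diagonal (dd h) = 1 := by
  rw [diagonal_mul_diagonal, ← diagonal_one]
  exact congrArg _ (funext fun i => inv_mul_cancel₀ (dd_ne h i))

theorem phiM_mul (h : Par K) (M N : Matrix (Fin 5) (Fin 5) K) : phiM h (M * N) = phiM h M * phiM h N := by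
  simp only [phiM, Matrix.map_mul, Matrix.mul_assoc]
  rw [← Matrix.mul_assoc (diagonal fun i => (dd h i)⁻¹), diag_inv, Matrix.one_mul]

theorem phiM_comp (h k : Par K) (M : Matrix (Fin 5) (Fin 5) K) : phiM (h * k) M = phiM h (phiM k M) := by
  ext i j
  simp only [phiM_apply, dd_mul, par_mul_γ, map_mul, map_inv₀, _root_.mul_inv_rev]
  ring

theorem phiM_one (M : Matrix (Fin 5) (Fin 5) K) : phiM 1 M = M := by
  ext i j
  simp only [phiM_apply, dd_one, par_one_γ, inv_one, one_mul, mul_one]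

theorem phiM_det (h : Par K) {M : Matrix (Fin 5) (Fin 5) K} (e : M.det = 1) : (phiM h M).det = 1 := by
  have k : (M.map h.γ).det = 1 := by
    have := (h.γ : K →+* K).map_det M
    rw [e, map_one] at this
    exact this.symm
  rw [phiM, det_mul, det_mul, k, mul_one, mul_comm, ← det_mul, diag_inv, det_one]

theorem phiM_mem (h : Par K) {M : Matrix (Fin 5) (Fin 5) K} (e : M * Jm K * Mᴴ = Jm K) :
    phiM h M * Jm K * (phiM h M)ᴴ = Jm K := by
  have e1 : (Jm K).map h.γ = Jm K := by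
    ext i j
    rw [map_apply, Jm_apply]
    split_ifs <;> simp
  have e2 : (M.map h.γ)ᴴ = Mᴴ.map h.γ := by
    ext i j
    simp only [conjTranspose_apply, map_apply, map_star']
  have e3 : M.map h.γ * Jm K * (M.map h.γ)ᴴ = Jm K := by
    rw [e2]
    calc _ = (M * Jm K * Mᴴ).map h.γ := by rw [Matrix.map_mul, Matrix.map_mul, e1]
      _ = _ := by rw [e, e1]
  have e4 := diag_J (e := fun i => (dd h i)⁻¹) fun i => by rw [star_inv₀, ← mul_inv, dd_star, inv_one]
  calc _ = diagonal (dd h) * (M.map h.γ * ((diagonal fun i => (dd h i)⁻¹) * Jm K * (diagonal fun i => (dd h i)⁻¹)ᴴ) *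
        (M.map h.γ)ᴴ) * (diagonal (dd h))ᴴ := by simp only [phiM, conjTranspose_mul, Matrix.mul_assoc]
    _ = _ := by rw [e4, e3, diag_J (dd_star h)]

theorem phiM_mat (h : Par K) (x : U K) : phiM h (matM x) = matM (act h x) := by
  have h1 : (h.l : K) ≠ 0 := h.l.ne_zero
  have h2 : (h.m : K) ≠ 0 := h.m.ne_zero
  have h3 : star (h.l : K) ≠ 0 := star_ne_zero.2 h1
  have h4 : star (h.m : K) ≠ 0 := star_ne_zero.2 h2
  ext i j
  rw [phiM_apply]
  fin_cases i <;> fin_cases j <;> simp only [matM, dd, Fin.zero_eta, Fin.mk_one, Fin.reduceFinMk, Fin.isValue, of_apply,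
    cons_val, act_a, act_b, act_c, act_y, act_d, act_z, map_add, map_sub, map_neg, map_mul, map_star', map_zero, map_one,
    star_mul', star_star, mul_zero, zero_mul] <;> field_simp

def phiF (h : Par K) (M : SUm K) : SUm K := ⟨⟨phiM h M.1.1, phiM_det h M.1.2⟩, phiM_mem h M.2⟩

theorem phiF_comp (h k : Par K) (M : SUm K) : phiF (h * k) M = phiF h (phiF k M) :=
  Subtype.ext (Subtype.ext (phiM_comp h k _))
theorem phiF_one (M : SUm K) : phiF 1 M = M := Subtype.ext (Subtype.ext (phiM_one _))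

def phi : Par K →* MulAut (SUm K) := MonoidHom.mk' (fun h =>
  { toFun := phiF h
    invFun := phiF h⁻¹
    left_inv := fun g => by rw [← phiF_comp, inv_mul_cancel, phiF_one]
    right_inv := fun g => by rw [← phiF_comp, mul_inv_cancel, phiF_one]
    map_mul' := fun M N => Subtype.ext (Subtype.ext (phiM_mul h _ _)) }) fun h k => MulEquiv.ext (phiF_comp h k)

theorem conj_inl {N G : Type*} [Group N] [Group G] {φ : G →* MulAut N} (g : N ⋊[φ] G) (n : N) :
    g * SemidirectProduct.inl n * g⁻¹ = SemidirectProduct.inl (g.left * φ g.right n * g.left⁻¹) := by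
  ext <;> simp

end MDx

variable {K : Type u} [Field K] [StarRing K] [UF K]

open MDx in
theorem md : MD K :=
  ⟨⟨phi, fun h x => Subtype.ext (Subtype.ext (phiM_mat h x))⟩,
    ⟨⟨⟨g1 K, det_g1⟩, g1_mem⟩, fun x => eq_mul_inv_of_mul_eq (Subtype.ext (Subtype.ext (g1_conj x)))⟩,
    ⟨⟨g2 K, det_g2⟩, g2_mem⟩, fun x => eq_mul_inv_of_mul_eq (Subtype.ext (Subtype.ext (g2_conj x)))⟩

open MDx SemidirectProduct in
theorem real (h1 : MB K) (h2 : MC K) (h3 : MD K) : REAL K := by
  intro p _ _ H hH hu hv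
  obtain ⟨⟨φ, hφ⟩, ⟨a, ha'⟩, b, hb'⟩ := h3
  have inj : Function.Injective ((inl : SUm K →* SUm K ⋊[φ.comp H.subtype] H).comp mat) := inl_injective.comp mat_inj
  refine ⟨SUm K ⋊[φ.comp H.subtype] H, inferInstance, Finite.of_equiv _ equivProd.symm, inl.comp mat, inj, ?_,
    fun α => ⟨?_, ?_⟩, ⟨inl a, fun x => ?_⟩, inl b, fun x => ?_⟩
  · have e1 := ((inl : SUm K →* SUm K ⋊[φ.comp H.subtype] H).comp mat).range.card_mul_index
    have e2 := (mat : U K →* SUm K).range.card_mul_index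
    rw [← Nat.card_congr (MonoidHom.ofInjective inj).toEquiv, SemidirectProduct.card, ← e2,
      ← Nat.card_congr (MonoidHom.ofInjective mat_inj).toEquiv, mul_assoc] at e1
    rw [Nat.eq_of_mul_eq_mul_left Nat.card_pos e1]
    exact fun d => ((Nat.Prime.dvd_mul Fact.out).1 d).elim (h2.2 p) hH
  · rintro ⟨g, hg⟩
    have k : ∀ x, mat (α x) = g.left * mat (act g.right.1 x) * g.left⁻¹ := fun x => by
      rw [← hφ]
      exact inl_injective ((hg x).trans (conj_inl g _))
    obtain ⟨s, u, v, e⟩ := h1 g.left fun x => ⟨α ((act g.right.1)⁻¹ x), by rw [k, MulAut.apply_inv_self]⟩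
    refine ⟨s, ha u * hb v * g.right.1, mul_mem (mul_mem (hu u) (hv v)) g.right.2, MulEquiv.ext fun x => mat_inj ?_⟩
    rw [k, e, map_mul act (ha u * hb v)]
    rfl
  · rintro ⟨s, h, hh, rfl⟩
    refine ⟨⟨mat s, ⟨h, hh⟩⟩, fun x => Eq.trans (congrArg inl ?_) (conj_inl _ _).symm⟩
    show mat (s * act h x * s⁻¹) = mat s * φ h (mat x) * (mat s)⁻¹
    rw [hφ, map_mul, map_mul, map_inv]
  · rw [MonoidHom.comp_apply, ha', map_mul, map_mul, map_inv]
    rfl
  · rw [MonoidHom.comp_apply, hb', map_mul, map_mul, map_inv]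
    rfl

end CL.U5
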