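/-
Project U5: the rank one data of an essential normal subgroup, and the passage to a quotient action.
-/
import Cfsg.Agent.U5.Gen
import Cfsg.Agent.Fus.NormalCrit
import Cfsg.Agent.Fus.EssExt

set_option autoImplicit false
set_option linter.unusedSectionVars false

namespace CL.U5

open Cfsg CL.Fus
open scoped commutatorElement

universe u

theorem RKx.aut0_eq {U : Type*} [Group U] (F : FusionSystem (⊤ : Subgroup U)) :
    aut0 F = (F.autGroup ⊤).map (MulAut.congr Subgroup.topEquiv).toMonoidHom := Subgroup.ext fun α => by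
  rw [Subgroup.mem_map_equiv, mem_autGroup_iff le_rfl, mem_aut0]
  exact ⟨fun h => h.congr fun x hx => by rw [autFun_apply _ hx]; rfl,
    fun h => h.congr fun x hx => (autFun_apply _ hx).trans rfl⟩

theorem rk : RK.{u} := by
  intro U _ _ p _ hU F hF E _ hE hc
  have hS : IsPGroup p (⊤ : Subgroup U) := hU.to_subgroup _
  have := finite_autGroup F E
  have := finite_autGroup F ⊤
  refine ⟨fun s => mor_conj F le_rfl trivial, fun α hα => ?_, sylIn_of_fullyNormalized hS hF hE.2.1,
    fun a ha hn => ?_, ?_⟩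
  · obtain ⟨b, hb⟩ := exists_res α (hc α hα)
    exact ⟨b, (Mor.mono hα le_top).mem_autGroup hb, hb⟩
  · obtain ⟨g, hg, e⟩ := (mor_autFun le_top ha).extend' (receptive_of_centric hS hF hE.1) (img_autFun _) (R := ⊤)
      fun u _ => by
        have hu : u ∈ Subgroup.normalizer (E : Set U) := Subgroup.le_normalizer_of_normal (Subgroup.mem_top u)
        obtain ⟨b, -, hb⟩ := mem_autInducedBy.1 (conj_mem_of_mem_normalizer hn (conjAut_mem_autInducedBy hu trivial))
        refine mem_extenderF.2 ⟨trivial, hu, b, trivial, fun x hx => ?_⟩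
        rw [← hb _ (autFun_mem a hx), ← autFun_mul _ _ hx, inv_mul_cancel_right, autFun_mul _ _ hx,
          autFun_conjAut _ hx]
    obtain ⟨σ, hσ, e'⟩ := hg.exists_aut' le_sup_right fun _ _ => trivial
    exact ⟨_, RKx.aut0_eq F ▸ Subgroup.mem_map_of_mem _ hσ, fun x => (autFun_coe a x).symm.trans
      ((e x x.2).symm.trans ((e' x trivial).symm.trans ((autFun_apply σ (Subgroup.mem_top _)).trans rfl)))⟩
  · obtain ⟨γ, h1, h2⟩ := IsEssential.exists_notMem_extAut hS hF hE
    exact ⟨γ, h1, fun ⟨α, hα, e⟩ => h2 (mem_extAut (IsEssential.lt_top hS hF hE) hα fun x hx =>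
      (autFun_apply γ hx).trans (e ⟨x, hx⟩))⟩

theorem ker : KER.{u} := by
  intro U _ _ p _ Q _ A0 A X _ ρ h hk
  have : Finite (MulAut Q) := Finite.of_injective (fun a : MulAut Q => (a : Q → Q)) DFunLike.coe_injective
  have le : A ⊓ ρ.ker ≤ autInducedBy ⊤ Q := h.syl.le_of_normalizes (hk.to_le inf_le_right) inf_le_left
    (h.syl.le.trans ((le_inf Subgroup.le_normalizer Subgroup.le_normalizer_of_normal).trans
      Subgroup.inf_normalizer_le_normalizer_inf))
  refine ⟨h.syl.map ρ, fun a ha e => mem_T.1 (le ⟨ha, e⟩), fun a ha hn => h.ext a ha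
    (mem_normalizer_of_finite fun t ht => ?_)⟩
  obtain ⟨s, rfl⟩ := mem_T.1 ht
  obtain ⟨s', e⟩ := hn s
  have h1 : (MulAut.conjNormal s' : MulAut Q) ∈ autInducedBy ⊤ Q := mem_T.2 ⟨s', rfl⟩
  have h2 := le (x := a * MulAut.conjNormal s * a⁻¹ * (MulAut.conjNormal s')⁻¹)
    (Subgroup.mem_inf.2 ⟨mul_mem (mul_mem (mul_mem ha (h.syl.le ht)) (inv_mem ha)) (inv_mem (h.syl.le h1)), by
      rw [MonoidHom.mem_ker, map_mul, map_mul, map_mul, map_inv, map_inv, e, mul_inv_cancel]⟩)
  simpa using mul_mem h2 h1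

end CL.U5
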