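/-
Project U5: the actions of the automorphism groups of `Q1`, `Q2` on the central quotients.
-/
import Cfsg.Agent.U5.Defs2

set_option autoImplicit false
set_option linter.unusedSectionVars false

namespace CL.U5

open Cfsg CL.Fus
open scoped commutatorElement

universe u

namespace Rhox

theorem gen {Q V : Type u} [Group Q] [AddCommGroup V] (π : Q → V) (add : ∀ x y, π (x * y) = π x + π y)
    (onto : Function.Surjective π) (cen : ∀ x, π x = 0 ↔ x ∈ Subgroup.center Q)
    (der : ∀ x, π x = 0 → x ∈ commutator Q) :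
    ∃ ρ : MulAut Q →* Au V, (∀ α x, π (α x) = ρ α (π x)) ∧
      ∀ p : ℕ, (∀ x, π x = 0 → x ^ p = 1) → IsPGroup p ρ.ker := by
  have eqv : ∀ x y, π x = π y ↔ π (x⁻¹ * y) = 0 := fun x y => by
    have := add x (x⁻¹ * y)
    rw [mul_inv_cancel_left] at this
    rw [this, eq_comm, add_eq_left]
  have kc : ∀ (α : MulAut Q) x, π x = 0 → π (α x) = 0 := fun α x hx =>
    (cen _).2 (Subgroup.mem_center_iff.2 fun g => by
      obtain ⟨g, rfl⟩ := α.surjective g
      rw [← map_mul, ← map_mul, Subgroup.mem_center_iff.1 ((cen x).1 hx) g])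
  have key : ∀ (α : MulAut Q) x y, π x = π y → π (α x) = π (α y) := fun α x y h => by
    rw [eqv, ← map_inv, ← map_mul]
    exact kc α _ ((eqv x y).1 h)
  obtain ⟨f, hf⟩ : ∃ f : MulAut Q → V → V, ∀ α x, f α (π x) = π (α x) :=
    ⟨fun α v => π (α (Function.surjInv onto v)), fun α x => key α _ _ (Function.surjInv_eq onto _)⟩
  let ρ : MulAut Q →* Au V := MonoidHom.mk' (fun α => mkAu (f α) (f α⁻¹)
    (fun v w => by
      obtain ⟨x, rfl⟩ := onto v
      obtain ⟨y, rfl⟩ := onto w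
      rw [← add, hf, hf, hf, map_mul, add])
    (fun v => by
      obtain ⟨x, rfl⟩ := onto v
      rw [hf, hf, MulAut.inv_apply_self])
    (fun v => by
      obtain ⟨x, rfl⟩ := onto v
      rw [hf, hf, MulAut.apply_inv_self]))
    fun α β => au_ext fun v => by
      obtain ⟨x, rfl⟩ := onto v
      rw [au_mul, mkAu_apply, mkAu_apply, mkAu_apply, hf, hf, hf, MulAut.mul_apply]
  have hρ : ∀ α x, π (α x) = ρ α (π x) := fun α x => (hf α x).symm
  refine ⟨ρ, hρ, fun p hp α => ⟨1, Subtype.ext (MulEquiv.ext fun x => ?_)⟩⟩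
  obtain ⟨α, hα⟩ := α
  have h0 : ∀ x, π (x⁻¹ * α x) = 0 := fun x => (eqv _ _).1 (by rw [hρ, MonoidHom.mem_ker.1 hα, au_one])
  have hc : ∀ x g, g * (x⁻¹ * α x) = x⁻¹ * α x * g := fun x => Subgroup.mem_center_iff.1 ((cen _).1 (h0 x))
  have fx : commutator Q ≤ α.toMonoidHom.eqLocus (MonoidHom.id Q) := by
    rw [commutator_def, Subgroup.commutator_le]
    intro a _ b _
    change α ⁅a, b⁆ = ⁅a, b⁆
    rw [map_commutatorElement, ← mul_inv_cancel_left a (α a), ← mul_inv_cancel_left b (α b)]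
    have h1 := hc a
    have h2 := hc b
    generalize a⁻¹ * α a = e at h1
    generalize b⁻¹ * α b = e' at h2
    rw [commutatorElement_def, commutatorElement_def, mul_assoc a e, ← h1, ← mul_assoc a, mul_inv_rev a e,
      ← mul_assoc _ e⁻¹, mul_inv_cancel_right, mul_inv_rev b e', ← mul_assoc _ e'⁻¹, ← mul_assoc a b,
      mul_assoc (a * b) e', ← h2, ← mul_assoc (a * b), mul_inv_cancel_right]
  have fe : α (x⁻¹ * α x) = x⁻¹ * α x := fx (der _ (h0 x))
  have pw : ∀ n : ℕ, (α ^ n) x = x * (x⁻¹ * α x) ^ n := fun n => by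
    induction n with
    | zero => simp
    | succ n ih => rw [pow_succ', MulAut.mul_apply, ih, map_mul, map_pow, fe, pow_succ', ← mul_assoc,
        mul_inv_cancel_left]
  change (α ^ p ^ 1) x = x
  rw [pow_one, pw, hp _ (h0 x), mul_one]

variable {K : Type u} [Field K] [StarRing K] [UF K]

theorem nd {d : K} (h : ∀ t, star d * t = star t * d) : d = 0 := by
  obtain ⟨t, ht⟩ := exists_ne K
  have h1 := h 1
  rw [mul_one, star_one, one_mul] at h1
  have h2 := h t
  rw [h1] at h2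
  exact (mul_eq_zero.1 (show d * (star t - t) = 0 by linear_combination -h2)).resolve_right (sub_ne_zero.2 ht)

theorem U0_ext {g h : U K} (k : g ∈ U0 K) (k' : h ∈ U0 K) (e : (g.y, g.d, g.z) = (h.y, h.d, h.z)) : g = h := by
  simp only [Prod.mk.injEq] at e
  exact U.ext (k.1.trans k'.1.symm) (k.2.1.trans k'.2.1.symm) (k.2.2.trans k'.2.2.symm) e.1 e.2.1 e.2.2

theorem U0_pow (p : ℕ) [CharP K p] {g : U K} (k : g ∈ U0 K) : g ^ p = 1 := by
  have : ∀ n : ℕ, ((g ^ n).y, (g ^ n).d, (g ^ n).z) = (n * g.y, n * g.d, n * g.z) := fun n => by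
    induction n with
    | zero => simp
    | succ n ih =>
      have m := (U0 K).pow_mem k n
      simp only [Prod.mk.injEq] at ih ⊢
      simp only [pow_succ, mul_y, mul_d, mul_z, m.1, m.2.1, m.2.2, k.1, ih.1, ih.2.1, ih.2.2]
      push_cast
      refine ⟨by ring, by ring, by simp; ring⟩
  refine U0_ext ((U0 K).pow_mem k p) (one_mem _) ?_
  rw [this, CharP.cast_eq_zero K p]
  simp

theorem onto1 (v : V3 K) : ∃ x : Q1 K, pV (x : U K) = v := by
  obtain ⟨g, h1, h2, h3, h4, h5⟩ := exists_el v.1 0 v.2.1 0 v.2.2 (by simp)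
  exact ⟨⟨g, h2, h4⟩, by simp [pV, h1, h3, h5]⟩

theorem onto2 (v : V2 K) : ∃ x : Q2 K, pW (x : U K) = v := by
  obtain ⟨y, hy⟩ := exists_y v.1
  obtain ⟨g, h1, h2, h3, -, -⟩ := exists_el 0 v.1 v.2 y 0 hy
  exact ⟨⟨g, h1⟩, by simp [pW, h2, h3]⟩

theorem coe_comm {Q : Subgroup (U K)} (x y : Q) : ((⁅x, y⁆ : Q) : U K) = ⁅(x : U K), (y : U K)⁆ := rfl

theorem comm_one {Q : Subgroup (U K)} {x : Q} (h : x ∈ Subgroup.center Q) (w : Q) : ⁅(x : U K), (w : U K)⁆ = 1 := by
  rw [← coe_comm, commutatorElement_eq_one_iff_mul_comm.2 (Subgroup.mem_center_iff.1 h w).symm]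
  rfl

def kap (u w : V2 K) : V3 K :=
  (star u.1 * w.1 - star w.1 * u.1, star u.1 * w.2 - star w.1 * u.2, star u.2 * w.2 - star w.2 * u.2)

theorem co_comm (g h : Q2 K) : (⁅(g : U K), (h : U K)⁆.y, ⁅(g : U K), (h : U K)⁆.d, ⁅(g : U K), (h : U K)⁆.z) =
    kap (pW (g : U K)) (pW (h : U K)) := by
  simp [kap, pW, mem_Q2.1 g.2, mem_Q2.1 h.2]

def Per (u u' : V2 K) : Prop := ∀ w, ∃ w', kap u' w = kap u w'

theorem per_smul (u : V2 K) (k : K) : Per u (k • u) := fun w => ⟨star k • w, by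
  simp only [kap, Prod.smul_fst, Prod.smul_snd, smul_eq_mul, star_mul', star_star, Prod.mk.injEq]
  exact ⟨by ring, by ring, by ring⟩⟩

theorem Per.smul {u u' : V2 K} (h0 : u ≠ 0) (h : Per u u') : ∃ k : K, u' = k • u := by
  obtain ⟨b, c⟩ := u
  obtain ⟨b', c'⟩ := u'
  have k1 : ∀ w1 w2 : K, star (b' * c - c' * b) * (c * w1 - b * w2) = star (c * w1 - b * w2) * (b' * c - c' * b) := by
    intro w1 w2
    obtain ⟨⟨v1, v2⟩, e⟩ := h (w1, w2)
    simp only [kap, Prod.mk.injEq] at e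
    have e2 := congrArg star e.2.1
    simp only [star_sub, star_mul', star_star] at e2 ⊢
    linear_combination c * star c * e.1 - star c * b * e.2.1 + c * star b * e2 + b * star b * e.2.2
  have k2 : b' * c - c' * b = 0 := nd fun t => by
    by_cases hc : c = 0
    · have hb : b ≠ 0 := fun hb => h0 (by rw [hb, hc]; rfl)
      have := k1 0 (-(t / b))
      rwa [show c * 0 - b * -(t / b) = t by field_simp; ring] at this
    · have := k1 (t / c) 0
      rwa [show c * (t / c) - b * 0 = t by field_simp; ring] at this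
  by_cases hb : b = 0
  · have hc : c ≠ 0 := fun hc => h0 (by rw [hb, hc]; rfl)
    refine ⟨c' / c, Prod.ext ?_ (by simp [hc])⟩
    rw [hb, mul_zero, sub_zero] at k2
    simpa [hb, hc] using k2
  · refine ⟨b' / b, Prod.ext (by simp [hb]) ?_⟩
    simp only [Prod.smul_snd, smul_eq_mul]
    field_simp
    linear_combination -k2

theorem per_map (α : MulAut (Q2 K)) {x x' : Q2 K} (h : Per (pW (x : U K)) (pW (x' : U K))) :
    Per (pW (α x : U K)) (pW (α x' : U K)) := fun w => by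
  obtain ⟨w0, rfl⟩ := onto2 w
  obtain ⟨w1, rfl⟩ := α.surjective w0
  obtain ⟨w', e⟩ := h (pW (w1 : U K))
  obtain ⟨w2, rfl⟩ := onto2 w'
  have e1 : ⁅x', w1⁆ = ⁅x, w2⁆ := Subtype.ext (U0_ext (comm_Q2 x'.2 w1.2) (comm_Q2 x.2 w2.2)
    ((co_comm x' w1).trans (e.trans (co_comm x w2).symm)))
  have e2 := congrArg α e1
  rw [map_commutatorElement, map_commutatorElement] at e2
  refine ⟨pW (α w2 : U K), ?_⟩
  rw [← co_comm, ← co_comm, ← coe_comm, e2, coe_comm]

end Rhox

open Rhox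

variable (K : Type u) [Field K] [StarRing K] [UF K]

theorem rho1 : RHO1 K := by
  have zc : ∀ x y : Q1 K, ∀ h, ⁅x, y⁆ = ⟨xz (fm (pV (x : U K)) (pV (y : U K))) h, rfl, rfl⟩ := fun x y h => by
    have m := comm_Q1 x.2 y.2
    exact Subtype.ext (U.ext m.1 m.2.1 m.2.2.1 m.2.2.2.1 m.2.2.2.2 (comm_z_Q1 x.2 y.2))
  obtain ⟨ρ, h1, h2⟩ := gen (Q := Q1 K) (fun x => pV (x : U K)) (fun x y => pV_mul y.2) onto1
    (fun x => ⟨fun h => Subgroup.mem_center_iff.2 fun g => Subtype.ext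
      (commutatorElement_eq_one_iff_mul_comm.1 (comm_Z _ ((pV_eq_zero x.2).1 h))), fun h => by
      have k : ∀ v, fm (pV (x : U K)) v = 0 := fun v => by
        obtain ⟨w, rfl⟩ := onto1 v
        rw [← comm_z_Q1 x.2 w.2, comm_one h, one_z]
      generalize pV (x : U K) = u at k
      refine Prod.ext (nd fun t => ?_) (Prod.ext (nd fun t => ?_) (nd fun t => ?_))
      · simpa [fm, sub_eq_zero] using k (0, 0, t)
      · simpa [fm, sub_eq_zero] using k (0, t, 0)
      · simpa [fm, sub_eq_zero] using k (t, 0, 0)⟩)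
    (fun x h => by
      have m := (pV_eq_zero x.2).1 h
      obtain ⟨t, ht⟩ := exists_sub (Z_skew m)
      have e : x = ⁅(⟨xa 1, rfl, rfl⟩ : Q1 K), (⟨xd t, rfl, rfl⟩ : Q1 K)⁆ := Subtype.ext (by
        rw [coe_comm]
        ext <;> simp [xa, xd, m.1, m.2.1, m.2.2.1, m.2.2.2.1, m.2.2.2.2, ht])
      rw [e]
      exact Subgroup.commutator_mem_commutator trivial trivial)
  refine ⟨ρ, h1, fun α => ?_, fun p _ _ => h2 p fun x h => Subtype.ext
    (U0_pow p (Z2_le_U0 (Z_le_Z2 ((pV_eq_zero x.2).1 h))))⟩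
  classical
  refine ⟨fun s => if h : star s = -s then (α ⟨xz s h, rfl, rfl⟩ : U K).z else 0, fun u v => ?_⟩
  obtain ⟨x, rfl⟩ := onto1 u
  obtain ⟨y, rfl⟩ := onto1 v
  have sk : star (fm (pV (x : U K)) (pV (y : U K))) = -fm (pV (x : U K)) (pV (y : U K)) := by
    rw [← comm_z_Q1 x.2 y.2]
    exact Z_skew (comm_Q1 x.2 y.2)
  beta_reduce
  rw [dif_pos sk, ← zc x y sk, map_commutatorElement, coe_comm, comm_z_Q1 (α x).2 (α y).2, h1, h1]

theorem rho2 : RHO2 K := by
  obtain ⟨ρ, h1, h2⟩ := gen (Q := Q2 K) (fun x => pW (x : U K)) (fun x y => pW_mul x.2 _) onto2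
    (fun x => ⟨fun h => Subgroup.mem_center_iff.2 fun g => Subtype.ext
      (commutatorElement_eq_one_iff_mul_comm.1 (comm_Q2_U0 g.2 ((pW_eq_zero x.2).1 h))), fun h => by
      have k : ∀ v, kap (pW (x : U K)) v = 0 := fun v => by
        obtain ⟨w, rfl⟩ := onto2 v
        rw [← co_comm, comm_one h]
        rfl
      generalize pW (x : U K) = u at k
      refine Prod.ext (nd fun t => ?_) (nd fun t => ?_)
      · simpa [kap, sub_eq_zero] using congrArg Prod.fst (k (t, 0))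
      · simpa [kap, sub_eq_zero] using congrArg (fun v : V3 K => v.2.2) (k (0, t))⟩)
    (fun x h => by
      have m := (pW_eq_zero x.2).1 h
      obtain ⟨b, hb⟩ := exists_sub (c := (x : U K).y) (by simp [U.star_y, m.2.1])
      obtain ⟨c, hc⟩ := exists_sub (c := (x : U K).z) (by simp [U.star_z, m.1, m.2.2])
      obtain ⟨g1, e1⟩ := onto2 (K := K) (1, 0)
      obtain ⟨g2, e2⟩ := onto2 (K := K) (b, (x : U K).d)
      obtain ⟨g3, e3⟩ := onto2 (K := K) (0, 1)
      obtain ⟨g4, e4⟩ := onto2 (K := K) (0, c)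
      have k1 := co_comm g1 g2
      have k2 := co_comm g3 g4
      have m1 := comm_Q2 g1.2 g2.2
      have m2 := comm_Q2 g3.2 g4.2
      rw [e1, e2] at k1
      rw [e3, e4] at k2
      simp only [kap, Prod.mk.injEq] at k1 k2
      have e : x = ⁅g1, g2⁆ * ⁅g3, g4⁆ := Subtype.ext (U0_ext m (mul_mem m1 m2) (by
        rw [Subgroup.coe_mul, coe_comm, coe_comm, mul_y, mul_d, mul_z, k1.1, k1.2.1, k1.2.2, k2.1, k2.2.1, k2.2.2, m1.1,
          m1.2.1, m1.2.2, m2.1, ← hb, ← hc]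
        simp))
      rw [e]
      exact mul_mem (Subgroup.commutator_mem_commutator trivial trivial)
        (Subgroup.commutator_mem_commutator trivial trivial))
  refine ⟨ρ, h1, fun α v k => ?_, fun p _ _ => h2 p fun x h => Subtype.ext (U0_pow p ((pW_eq_zero x.2).1 h))⟩
  by_cases hv : v = 0
  · exact ⟨0, by simp [hv]⟩
  obtain ⟨x, rfl⟩ := onto2 v
  obtain ⟨x', e⟩ := onto2 (k • pW (x : U K))
  have := per_map α (x := x) (x' := x') (e ▸ per_smul _ k)
  rw [h1, h1, e] at this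
  exact this.smul fun z => hv ((ρ α).map_eq_zero_iff.1 z)

end CL.U5
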