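/-
Project U5: transvection groups in different points, reduction to the additive form.
-/
import Cfsg.Agent.U5.Gen

set_option autoImplicit false

namespace CL.U5

open scoped commutatorElement

universe u

namespace TVx

variable {U : Type u} [Group U]

/-- `c` is the projection of `V` onto the additive group `V / N` -/
structure Cl (N V : Subgroup U) {W : Type u} [AddCommGroup W] (c : U → W) : Prop where
  add : ∀ x ∈ V, ∀ y ∈ V, c (x * y) = c x + c y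
  ker : ∀ x ∈ V, c x = 0 ↔ x ∈ N
  sur : ∀ w, ∃ v ∈ V, c v = w

theorem exists_cl [Finite U] (N V : Subgroup U) [N.Normal] (hc : ∀ x ∈ V, ∀ y ∈ V, ⁅x, y⁆ ∈ N) :
    ∃ (W : Type u) (_ : AddCommGroup W) (_ : Finite W) (c : U → W), Cl N V c := by
  classical
  letI : CommGroup (V ⧸ N.subgroupOf V) :=
    { QuotientGroup.Quotient.group (N.subgroupOf V) with
      mul_comm := fun a b => by
        induction a using QuotientGroup.induction_on with | _ a => ?_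
        induction b using QuotientGroup.induction_on with | _ b => ?_
        exact mk_comm_iff.1 (show ⁅a, b⁆ ∈ N.subgroupOf V from hc a a.2 b b.2) }
  refine ⟨Additive (V ⧸ N.subgroupOf V), inferInstance, inferInstance,
    fun x => if hx : x ∈ V then Additive.ofMul (QuotientGroup.mk ⟨x, hx⟩) else 0, ?_, ?_, ?_⟩
  · intro x hx y hy
    rw [dif_pos hx, dif_pos hy, dif_pos (mul_mem hx hy)]
    rfl
  · intro x hx
    rw [dif_pos hx]
    exact QuotientGroup.eq_one_iff (N := N.subgroupOf V) ⟨x, hx⟩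
  · intro w
    obtain ⟨v, hv⟩ := QuotientGroup.mk_surjective (Additive.toMul w)
    refine ⟨v, v.2, ?_⟩
    rw [dif_pos v.2]
    exact congrArg Additive.ofMul hv

variable {N V : Subgroup U} {W : Type u} [AddCommGroup W] {c : U → W}

/-- `F` is induced by `f` -/
def Ind (V : Subgroup U) (c : U → W) (f : U → U) (F : W ≃+ W) : Prop := ∀ v ∈ V, F (c v) = c (f v)

theorem Ind.symm {f g : U → U} {F : W ≃+ W} (h : Ind V c f F) (k : ∀ v ∈ V, g v ∈ V ∧ f (g v) = v) :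
    Ind V c g F.symm := fun v hv => by
  rw [AddEquiv.symm_apply_eq, h _ (k v hv).1, (k v hv).2]

namespace Cl

variable (k : Cl N V c)
include k

theorem one : c 1 = 0 := (k.ker 1 (one_mem _)).2 (one_mem _)

theorem inv {x : U} (hx : x ∈ V) : c x⁻¹ = -c x :=
  eq_neg_of_add_eq_zero_left (by rw [← k.add _ (inv_mem hx) _ hx, inv_mul_cancel, k.one])

theorem eq_iff {x y : U} (hx : x ∈ V) (hy : y ∈ V) : c x = c y ↔ x⁻¹ * y ∈ N := by
  rw [← k.ker _ (mul_mem (inv_mem hx) hy), k.add _ (inv_mem hx) _ hy, k.inv hx, neg_add_eq_zero]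

theorem cj_eq {x v : U} (hv : v ∈ V) (hc : ⁅v, x⁆ ∈ V) : c (cj x v) = c v - c ⁅v, x⁆ := by
  rw [CL.U5.cj_eq, k.add _ (inv_mem hc) _ hv, k.inv hc, neg_add_eq_sub]

/-- the image of `X ⊓ V` -/
def im (X : Subgroup U) : AddSubgroup W where
  carrier := {w | ∃ v ∈ V, v ∈ X ∧ c v = w}
  zero_mem' := ⟨1, one_mem _, one_mem _, k.one⟩
  add_mem' := by
    rintro _ _ ⟨x, hx, hx', rfl⟩ ⟨y, hy, hy', rfl⟩
    exact ⟨x * y, mul_mem hx hy, mul_mem hx' hy', k.add x hx y hy⟩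
  neg_mem' := by
    rintro _ ⟨x, hx, hx', rfl⟩
    exact ⟨x⁻¹, inv_mem hx, inv_mem hx', k.inv hx⟩

theorem mk_mem_im {X : Subgroup U} {v : U} (hv : v ∈ V) (hX : v ∈ X) : c v ∈ k.im X := ⟨v, hv, hX, rfl⟩

theorem mem_of_im {X : Subgroup U} (hN : N ≤ X) {v : U} (hv : v ∈ V) (h : c v ∈ k.im X) : v ∈ X := by
  obtain ⟨x, hx, hx', e⟩ := h
  simpa using mul_mem hx' (hN ((k.eq_iff hx hv).1 e))

theorem card_im {X : Subgroup U} (hN : N ≤ X) (hX : X ≤ V) : Nat.card N * Nat.card (k.im X) = Nat.card X := by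
  let φ : X →* Multiplicative W :=
    MonoidHom.mk' (fun x => Multiplicative.ofAdd (c x)) fun x y => congrArg _ (k.add _ (hX x.2) _ (hX y.2))
  have e1 : φ.ker = N.subgroupOf X := Subgroup.ext fun x => k.ker _ (hX x.2)
  have e2 : Nat.card φ.range = Nat.card (k.im X) :=
    Nat.card_congr (Equiv.subtypeEquiv Multiplicative.toAdd fun w =>
      ⟨fun ⟨x, e⟩ => ⟨x, hX x.2, x.2, congrArg Multiplicative.toAdd e⟩,
        fun ⟨x, _, hx, e⟩ => ⟨⟨x, hx⟩, congrArg Multiplicative.ofAdd e⟩⟩)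
  rw [← e2, ← Subgroup.index_ker, ← Nat.card_congr (Subgroup.subgroupOfEquivOfLe hN).toEquiv, ← e1,
    Subgroup.card_mul_index]

theorem exists_ind {E : Subgroup U} {M B : (U → U) → Prop} (h : Crit E M B) (hN : Inv E M N) (hV : Inv E M V)
    {f : U → U} (hf : M f) : ∃ F, Ind V c f F := by
  choose s hs es using k.sur
  have a : ∀ {f}, M f → ∀ v ∈ V, c (f (s (c v))) = c (f v) := fun {f} hf v hv => by
    have m := (k.eq_iff (hs (c v)) hv).1 (es _)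
    rw [k.eq_iff (hV.2 f hf _ (hs _)) (hV.2 f hf _ hv), ← h.map_inv hf (hV.1 (hs _)),
      ← h.mul hf _ (inv_mem (hV.1 (hs _))) _ (hV.1 hv)]
    exact hN.2 f hf _ m
  obtain ⟨g, hg, e⟩ := h.inv hf
  refine ⟨⟨⟨fun w => c (f (s w)), fun w => c (g (s w)), fun w => ?_, fun w => ?_⟩, fun x y => ?_⟩, a hf⟩
  · show c (g (s (c (f (s w))))) = w
    rw [a hg _ (hV.2 f hf _ (hs w)), (e _ (hV.1 (hs w))).1, es]
  · show c (f (s (c (g (s w))))) = w
    rw [a hf _ (hV.2 g hg _ (hs w)), (e _ (hV.1 (hs w))).2, es]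
  · show c (f (s (x + y))) = c (f (s x)) + c (f (s y))
    rw [← k.add _ (hV.2 f hf _ (hs x)) _ (hV.2 f hf _ (hs y)), ← h.mul hf _ (hV.1 (hs x)) _ (hV.1 (hs y)),
      ← a hf _ (mul_mem (hs x) (hs y)), k.add _ (hs x) _ (hs y), es, es]

end Cl

end TVx

open TVx in
theorem tv (h0 : TV0.{u}) : TV.{u} := by
  intro U _ _ E M B h N V I A Zc H hN hNc hV hVc hZ hA hAH htr hfix hout hcard f hf nf i j
  haveI : N.Normal := ⟨fun n hn g => by
    rw [← commutatorElement_eq_one_iff_mul_comm.1 (hNc n hn g), mul_inv_cancel_right]; exact hn⟩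
  obtain ⟨W, _, _, c, k⟩ := exists_cl N V fun x hx y hy => hVc y hy x (hV.1 hx)
  have nm : ∀ {i a}, a ∈ A i → Nm E a := fun {i a} ha e he => hV.1 ((hZ i).2.1 (hA i a ha e he))
  have cv : ∀ {i a v}, a ∈ A i → v ∈ V → ⁅v, a⁆ ∈ Zc i := fun {i a v} ha hv => hA i a ha v (hV.1 hv)
  have ap : ∀ {i a F v}, a ∈ A i → Ind V c (cj a) F → v ∈ V → F (c v) = c v - c ⁅v, a⁆ := fun {i a F v} ha hF hv =>
    (hF v hv).trans (k.cj_eq hv ((hZ i).2.1 (cv ha hv)))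
  have nE : ∀ {i a F}, a ∈ A i → Ind V c (cj a) F → (∃ w, F w ≠ w) → a ∉ E := fun {i a F} ha hF ⟨w, hw⟩ hE => by
    obtain ⟨v, hv, rfl⟩ := k.sur w
    rw [ap ha hF hv, (k.ker _ ((hZ i).2.1 (cv ha hv))).2 (comm_symm (hVc v hv a hE)), sub_zero] at hw
    exact hw rfl
  have NH : ∀ i, N ≤ H i := fun i => (hZ i).1.trans (hZ i).2.2
  obtain ⟨F, hF⟩ := k.exists_ind h hN hV hf
  have main := h0 W I {F | ∃ f, M f ∧ ¬ B f ∧ Ind V c f F} (fun i => {F | ∃ a ∈ A i, Ind V c (cj a) F})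
    (fun i => k.im (Zc i)) (fun i => k.im (H i)) ?_ ?_ ?_ ?_ ?_ ?_ ?_ ?_ ?_ ?_ F ⟨f, hf, nf, hF⟩ i j
  · refine ⟨fun z hz hH => ?_, fun v hv => ?_⟩
    · have zV := (hZ i).2.1 hz
      refine (k.ker z zV).1 (main.1 _ (k.mk_mem_im zV hz) ?_)
      rw [hF z zV]
      exact k.mk_mem_im (hV.2 f hf z zV) hH
    · obtain ⟨_, ⟨z, zV, hz, rfl⟩, e⟩ := main.2 (c v)
      refine ⟨z, hz, k.mem_of_im (NH j) (mul_mem (inv_mem hv) (hV.2 f hf z zV)) ?_⟩
      rwa [k.add _ (inv_mem hv) _ (hV.2 f hf z zV), k.inv hv, neg_add_eq_sub, ← hF z zV]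
  · rintro F ⟨f, hf, nf, hF⟩
    obtain ⟨g, hg, e⟩ := h.inv hf
    exact ⟨g, hg, h.outInv hf nf hg fun x hx => (e x hx).1, hF.symm fun v hv => ⟨hV.2 g hg v hv, (e v (hV.1 hv)).2⟩⟩
  · rintro F ⟨f, hf, nf, hF⟩ i G ⟨a, ha, hG⟩ mv
    obtain ⟨g, hg, e⟩ := h.inv hf
    have ma := h.conj (nm ha)
    refine ⟨g ∘ cj a ∘ f, h.comp hg (h.comp ma hf), h.far hf nf hg (fun x hx => (e x hx).1) (nm ha) (nE ha hG mv),
      fun v hv => ?_⟩
    have fv := hV.2 f hf v hv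
    show F.symm (G (F (c v))) = c (g (cj a (f v)))
    rw [hF v hv, hG _ fv, hF.symm (fun v hv => ⟨hV.2 g hg v hv, (e v (hV.1 hv)).2⟩) _ (hV.2 _ ma _ fv)]
  · rintro i G ⟨a, ha, hG⟩
    exact ⟨a⁻¹, inv_mem ha, hG.symm fun v hv => ⟨hV.2 _ (h.conj (nm (inv_mem ha))) v hv, by simp only [cj]; group⟩⟩
  · rintro i _ ⟨z, zV, hz, rfl⟩
    exact k.mk_mem_im zV ((hZ i).2.2 hz)
  · rintro i G ⟨a, ha, hG⟩ w
    obtain ⟨v, hv, rfl⟩ := k.sur w
    rw [ap ha hG hv, sub_sub_cancel_left]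
    exact neg_mem (k.mk_mem_im ((hZ i).2.1 (cv ha hv)) (cv ha hv))
  · rintro i G ⟨a, ha, hG⟩ _ ⟨v, hv, vH, rfl⟩
    rw [ap ha hG hv, (k.ker _ ((hZ i).2.1 (cv ha hv))).2 (hAH i a ha v hv vH), sub_zero]
  · rintro i w hw _ ⟨z, zV, hz, rfl⟩
    obtain ⟨v, hv, rfl⟩ := k.sur w
    obtain ⟨a, ha, e⟩ := htr i v hv (fun vH => hw (k.mk_mem_im hv vH)) z⁻¹ (inv_mem hz)
    obtain ⟨G, hG⟩ := k.exists_ind h hN hV (h.conj (nm ha))
    refine ⟨G, ⟨a, ha, hG⟩, ?_⟩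
    rw [ap ha hG hv, (k.eq_iff ((hZ i).2.1 (cv ha hv)) (inv_mem zV)).2 e, k.inv zV, sub_neg_eq_add]
  · rintro i G ⟨a, ha, hG⟩ mv w hw
    obtain ⟨v, hv, rfl⟩ := k.sur w
    rw [ap ha hG hv, sub_eq_self] at hw
    exact k.mk_mem_im hv (hfix i a ha (nE ha hG mv) v hv ((k.ker _ ((hZ i).2.1 (cv ha hv))).1 hw))
  · intro i j
    refine Nat.eq_of_mul_eq_mul_left (Nat.card_pos (α := N)) ?_
    rw [k.card_im (hZ i).1 (hZ i).2.1, k.card_im (hZ j).1 (hZ j).2.1, hcard i j]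
  · rintro F ⟨f, hf, nf, hF⟩ i j
    by_contra hc
    have fz : ∀ z ∈ Zc i, f z ∈ H j := fun z hz => by
      have zV := (hZ i).2.1 hz
      refine k.mem_of_im (NH j) (hV.2 f hf z zV) ?_
      rw [← hF z zV]
      by_contra n
      exact hc ⟨_, k.mk_mem_im zV hz, n⟩
    obtain ⟨x, hx, xE⟩ := hout j
    obtain ⟨y, hy, yE⟩ := hout i
    exact h.pair hf nf (nm hx) xE (nm hy) yE hN (fun n hn => hNc n hn x)
      (fun e he => hAH j x hx _ ((hZ j).2.1 (hA j x hx e he)) ((hZ j).2.2 (hA j x hx e he)))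
      fun e he => hAH j x hx _ (hV.2 f hf _ ((hZ i).2.1 (hA i y hy e he))) (fz _ (hA i y hy e he))

end CL.U5
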