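/-
Project U5: transvection groups in different points (additive form).
-/
import Cfsg.Agent.U5.Gen

set_option autoImplicit false

namespace CL.U5

universe u

namespace TV0x

variable {V : Type u} [AddCommGroup V] [Finite V]

theorem sur (d : V →+ V) {X Y : AddSubgroup V} (hc : Nat.card Y = Nat.card X) (h1 : ∀ z ∈ X, d z ∈ Y)
    (h2 : ∀ z ∈ X, d z = 0 → z = 0) : ∀ y ∈ Y, ∃ z ∈ X, d z = y := fun y hy => by
  have h3 : Function.Injective (fun z : X => (⟨d z, h1 z z.2⟩ : Y)) := fun a b e => Subtype.ext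
    (sub_eq_zero.1 (h2 _ (sub_mem a.2 b.2) (by rw [map_sub, sub_eq_zero]; exact congrArg Subtype.val e)))
  obtain ⟨z, hz⟩ := (h3.bijective_of_nat_card_le hc.le).2 ⟨y, hy⟩
  exact ⟨z, z.2, congrArg Subtype.val hz⟩

/-- the elements of `Z` mapped into `H` -/
def K (f : V ≃+ V) (Z H : AddSubgroup V) : AddSubgroup V := Z ⊓ H.comap f.toAddMonoidHom

omit [Finite V] in
theorem mem_K {f : V ≃+ V} {Z H : AddSubgroup V} {z : V} : z ∈ K f Z H ↔ z ∈ Z ∧ f z ∈ H := Iff.rfl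

/-- the map `v ↦ a (f v) - f v` -/
def D (f a : V ≃+ V) : V →+ V := (a.toAddMonoidHom - AddMonoidHom.id V).comp f.toAddMonoidHom

omit [Finite V] in
theorem D_apply (f a : V ≃+ V) (v : V) : D f a v = a (f v) - f v := rfl

end TV0x

open TV0x in
theorem tv0 : TV0.{u} := by
  intro V _ _ I P A Zc H hs hc hi hZ hD hH hT hF hcard hN
  have ntv : ∀ f ∈ P, ∀ j, ∃ a ∈ A j, ∃ w, a w ≠ w := fun f hf j => by
    obtain ⟨z, h1, h2⟩ := hN f hf j j
    obtain ⟨a, h3, h4⟩ := hT j _ h2 z h1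
    refine ⟨a, h3, f z, fun e => h2 ?_⟩
    rw [left_eq_add.1 (e.symm.trans h4), map_zero]
    exact zero_mem _
  have onto : ∀ (f : V ≃+ V) (i j : I), (∀ z ∈ Zc i, f z ∈ H j → z = 0) → ∀ a ∈ A j, (∃ w, a w ≠ w) →
      ∀ y ∈ Zc j, ∃ z ∈ Zc i, a (f z) - f z = y := fun f i j h a ha hw =>
    sur (D f a) (hcard j i) (fun z _ => hD j a ha _) fun z hz e => h z hz (hF j a ha hw _ (sub_eq_zero.1 e))
  have rev : ∀ f ∈ P, ∀ i j, (∀ g ∈ P, ∀ k, Nat.card (K g (Zc k) (H k)) ≤ Nat.card (K f (Zc i) (H j))) →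
      ∀ z ∈ Zc j, f.symm z ∈ H i → z = 0 := fun f hf i j hm z hz hz' => by
    by_contra h0
    obtain ⟨w, h1, h2⟩ := hN f hf i j
    obtain ⟨a, h3, h4⟩ := hT j _ h2 z hz
    have h5 := hm _ (hc f hf j a h3 ⟨f w, fun e => h0 (left_eq_add.1 (e.symm.trans h4))⟩) i
    have h6 := AddSubgroup.eq_of_le_of_card_ge (H := K f (Zc i) (H j)) (fun v hv => mem_K.2 ⟨hv.1, by
      rw [AddEquiv.trans_apply, AddEquiv.trans_apply, hH j a h3 _ (mem_K.1 hv).2, f.symm_apply_apply]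
      exact hZ i hv.1⟩) h5
    refine h2 (mem_K.1 (h6.ge (mem_K.2 ⟨h1, ?_⟩))).2
    rw [AddEquiv.trans_apply, AddEquiv.trans_apply, h4, map_add, f.symm_apply_apply]
    exact add_mem (hZ i h1) hz'
  have eq : ∀ (f : V ≃+ V) (i j : I), (∀ z ∈ Zc j, f.symm z ∈ H i → z = 0) → ∀ y ∈ A i, (∃ w, y w ≠ w) →
      Nat.card (K f (Zc i) (H j)) ≤ Nat.card (K ((f.symm.trans y).trans f.symm.symm) (Zc j) (H j)) :=
    fun f i j h y hy hw => by
    refine le_trans (AddSubgroup.card_le_of_le fun v hv => ?_)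
      (Nat.le_of_dvd Nat.card_pos (AddSubgroup.card_map_dvd _ (D f.symm y)))
    obtain ⟨z, h1, h2⟩ := onto f.symm j i h y hy hw v hv.1
    refine ⟨z, mem_K.2 ⟨h1, ?_⟩, h2⟩
    rw [AddEquiv.trans_apply, AddEquiv.trans_apply, f.symm_symm, sub_eq_iff_eq_add.1 h2, map_add, f.apply_symm_apply]
    exact add_mem (mem_K.1 hv).2 (hZ j h1)
  have first : ∀ f ∈ P, ∀ i j, ∀ z ∈ Zc i, f z ∈ H j → z = 0 := fun f₀ hf₀ i₀ j₀ z hz hz' => by
    have : Finite (AddSubgroup V) := inferInstance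
    obtain ⟨_, ⟨f, hf, i, j, rfl⟩, hm⟩ := Set.exists_max_image {X | ∃ f ∈ P, ∃ i j, K f (Zc i) (H j) = X}
      (fun X => Nat.card X) (Set.toFinite _) ⟨_, f₀, hf₀, i₀, j₀, rfl⟩
    have h1 := rev f hf i j fun g hg k => hm _ ⟨g, hg, k, k, rfl⟩
    obtain ⟨y, hy, w, hw⟩ := ntv f hf i
    have h2 := rev _ (hc _ (hs f hf) i y hy ⟨w, hw⟩) j j fun g hg k =>
      (hm _ ⟨g, hg, k, k, rfl⟩).trans (eq f i j h1 y hy ⟨w, hw⟩)
    have h3 := eq f i j h1 y.symm (hi i y hy) ⟨w, fun e => hw (y.symm_apply_eq.1 e).symm⟩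
    rw [(eq_bot_iff.2 fun v hv => h2 v hv.1 hv.2 :
      K ((f.symm.trans y.symm).trans f.symm.symm) (Zc j) (H j) = ⊥), AddSubgroup.card_bot] at h3
    have h4 := AddSubgroup.eq_bot_of_card_le _ ((hm _ ⟨f₀, hf₀, i₀, j₀, rfl⟩).trans h3)
    exact h4.le (mem_K.2 ⟨hz, hz'⟩)
  refine fun f hf i j => ⟨first f hf i j, fun v => ?_⟩
  obtain ⟨a, ha, hw⟩ := ntv f hf j
  obtain ⟨z, h1, h2⟩ := onto f i j (first f hf i j) a ha hw _ (hD j a ha v)
  refine ⟨z, h1, hF j a ha hw _ ?_⟩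
  rw [map_sub, sub_eq_iff_eq_add.1 h2]
  abel

end CL.U5
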