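/-
Project U5: assembly of the parts.
-/
import Cfsg.Agent.U5.Defs2
import Cfsg.Agent.Fus.Heis

set_option autoImplicit false
set_option linter.unusedSectionVars false

namespace CL.U5

open Subgroup Cfsg Cfsg.FusionSystem CL.Fus
open scoped commutatorElement

universe u

namespace Topx

section Gen
variable {U : Type*} [Group U] [Finite U] {p : ℕ} [Fact p.Prime] {F F' : FusionSystem (⊤ : Subgroup U)}

theorem all_top {a : U → U} (ha : Mor F ⊤ a) (hi : img a ⊤ = ⊤) : ∃ α ∈ aut0 F, ∀ x, α x = a x := by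
  let φ : U →* U := MonoidHom.mk' a fun x y => ha.homOn x trivial y trivial
  have hb : Function.Bijective φ := ⟨fun x y e => ha.injOn (Subgroup.mem_top x) (Subgroup.mem_top y) e, fun y => by
    obtain ⟨x, -, hx⟩ := ha.mem_img.1 (hi.symm ▸ Subgroup.mem_top y : y ∈ img a ⊤)
    exact ⟨x, hx⟩⟩
  exact ⟨MulEquiv.ofBijective φ hb, ha, fun _ => rfl⟩

theorem ess_img {a : U → U} (ha : Mor F ⊤ a) (e : img a ⊤ = ⊤) {E : Subgroup U} (hE : F.IsEssential p E) :
    F.IsEssential p (img a E) := by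
  obtain ⟨g, hg, l, r, -⟩ := ha.exists_inv' e
  have i : FIso F F a g :=
    ⟨⟨ha.homOn, fun _ _ => trivial, fun _ _ => trivial, l, r⟩,
      fun P f hf => (((hg.mono le_top).comp hf fun y hy => by
        obtain ⟨x, hx, rfl⟩ := (ha.mem_img' le_top).1 hy
        rwa [l x trivial]).comp ha fun _ _ => trivial),
      fun P f hf => (((ha.mono le_top).comp hf fun y hy => by
        obtain ⟨x, hx, rfl⟩ := (hg.mem_img' le_top).1 hy
        rwa [r x trivial]).comp hg fun _ _ => trivial)⟩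
  exact i.isEssential hE

/-- at most one essential subgroup -/
theorem one_ess (hU : IsPGroup p U) (hF : F.IsSaturated p)
    (h : ∀ E E', F.IsEssential p E → F.IsEssential p E' → E = E') : F.IsRealizable p := by
  have hS : IsPGroup p (⊤ : Subgroup U) := hU.to_subgroup _
  refine IsConstrained.isRealizable hS ⟨hF, ?_⟩
  by_cases k : ∃ E, F.IsEssential p E
  · obtain ⟨E, hE⟩ := k
    refine ⟨E, isNormal_of_essential hS hF le_top (fun B hB => (h _ _ hE hB).le) fun B a hB ha e => ?_, hE.1⟩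
    rcases hB with rfl | hB
    · exact h _ _ (ess_img ha e hE) hE
    · rwa [h _ _ hE hB]
  · exact ⟨⊤, (isNormal_top_iff hS hF).2 fun B hB => k ⟨B, hB⟩, centric_top F⟩

/-- the system realized by an embedding as a Sylow subgroup -/
theorem all_real (hU : IsPGroup p U) {G : Type*} [Group G] [Finite G] (ι : U →* G) (hι : Function.Injective ι)
    (ho : ¬ p ∣ ι.range.index) : ∃ F' : FusionSystem (⊤ : Subgroup U), F'.IsSaturated p ∧ F'.IsRealizable p ∧
      ∀ P f, Mor F' P f ↔ ∃ g : G, ∀ x ∈ P, ι (f x) = g * ι x * g⁻¹ := by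
  let ι' : (⊤ : Subgroup U) →* G := ι.comp (⊤ : Subgroup U).subtype
  have hι' : Function.Injective ι' := hι.comp Subtype.val_injective
  have hr : ι'.range = ι.range := by
    rw [MonoidHom.range_comp, Subgroup.range_subtype, ← MonoidHom.range_eq_map]
  have hP : IsPGroup p ι.range := hU.of_surjective _ ι.rangeRestrict_surjective
  have hs : SylIn p ι'.range ⊤ := by
    rw [hr]
    exact sylIn_top_iff.2 ⟨hP.toSylow ho, rfl⟩
  obtain ⟨η, hη⟩ := exists_gIso_of_injective ι' hι'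
  have hf : FIso (hη.symm.transport (groupFusionSystem ι'.range)) (groupFusionSystem ι'.range) (ext ι') η :=
    (hη.symm.fIso_transport _).symm
  have hR := isRealizedBy_of_fIso hf
  refine ⟨_, hf.symm.isSaturated (GS.isSaturated_group hs), isRealizable_of_realizedBy hR hs, fun P f => ?_⟩
  rw [IsRealizedBy.mor_iff hR]
  have e : ∀ x, ext ι' x = ι x := fun x => ext_apply ι' (Subgroup.mem_top x)
  simp only [e, le_top, Subgroup.mem_top, implies_true, true_and]

omit [Finite U] in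
theorem aut0_eq (F : FusionSystem (⊤ : Subgroup U)) :
    aut0 F = (F.autGroup ⊤).map (MulAut.congr Subgroup.topEquiv).toMonoidHom := Subgroup.ext fun α => by
  rw [Subgroup.mem_map_equiv, mem_autGroup_iff le_rfl, mem_aut0]
  exact ⟨fun h => h.congr fun x hx => by rw [autFun_apply _ hx]; rfl,
    fun h => h.congr fun x hx => (autFun_apply _ hx).trans rfl⟩

omit [Finite U] in
theorem inn_eq : (MulAut.conj : U →* MulAut U).range =
    (Inn (⊤ : Subgroup U)).map (MulAut.congr Subgroup.topEquiv).toMonoidHom := Subgroup.ext fun α => by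
  rw [Subgroup.mem_map_equiv, mem_Inn_iff]
  exact ⟨fun ⟨a, h⟩ => ⟨a, trivial, fun x hx => (autFun_apply _ hx).trans (h ▸ rfl)⟩,
    fun ⟨a, _, h⟩ => ⟨a, MulEquiv.ext fun x => (h x trivial).symm.trans ((autFun_apply _ (Subgroup.mem_top x)).trans rfl)⟩⟩

theorem not_dvd (hU : IsPGroup p U) (hF : F.IsSaturated p) :
    ¬ p ∣ (MulAut.conj : U →* MulAut U).range.relIndex (aut0 F) := by
  have := finite_autGroup F ⊤
  rw [aut0_eq, inn_eq, Subgroup.relIndex_map_map_of_injective _ _ (MulAut.congr Subgroup.topEquiv).injective]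
  exact (sylIn_Inn_top (hU.to_subgroup _) hF).not_dvd_relIndex

theorem all_mor {Q : Subgroup U} (hle : F.autGroup Q ≤ F'.autGroup Q) {a : U → U} (ha : Mor F Q a)
    (hi : img a Q = Q) : Mor F' Q a := by
  obtain ⟨α, hα, e⟩ := ha.exists_aut hi
  exact (mor_autFun le_top (hle hα)).congr e

theorem mem_iff_of_img {α : MulAut U} {Q : Subgroup U} (hα : α ∈ aut0 F) (h : img α Q = Q) (x : U) : α x ∈ Q ↔ x ∈ Q := by
  refine ⟨fun k => ?_, fun k => h ▸ mem_img_of_mem α k⟩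
  rw [← h] at k
  obtain ⟨y, hy, e⟩ := ((mem_aut0.1 hα).mem_img' le_top).1 k
  exact α.injective e ▸ hy

end Gen

variable {K : Type u} [Field K] [StarRing K] [UF K] {p : ℕ} [Fact p.Prime] [CharP K p]
  {F F' : FusionSystem (⊤ : Subgroup (U K))}

/-- the essential subgroups -/
def ESS (K : Type u) [Field K] [StarRing K] (p : ℕ) : Prop := ∀ F : FusionSystem (⊤ : Subgroup (U K)), F.IsSaturated p →
  ∀ E, F.IsEssential p E → E = Q1 K ∨ E = Q2 K

theorem not_swap {α : MulAut (U K)} (hα : α ∈ aut0 F) : img α (Q1 K) ≠ Q2 K := fun h => by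
  have m := mem_aut0.1 hα
  obtain ⟨y, y0, hy⟩ := exists_skew K
  obtain ⟨t, ht⟩ := exists_ne K
  obtain ⟨x, hx, e⟩ := (m.mem_img' le_top).1 (h.ge (show xy y hy ∈ Q2 K from rfl))
  have c : ∀ w ∈ Q1 K, ⁅w, x⁆ = 1 := fun w hw => α.injective (by
    rw [map_commutatorElement, e, map_one]
    exact comm_Q2_U0 (h.le (mem_img_of_mem α hw)) ⟨rfl, rfl, rfl⟩)
  have z : ∀ v : V3 K, fm v (pV x) = 0 := fun v => by
    obtain ⟨w, h1, h2, h3, h4, h5⟩ := exists_el v.1 0 v.2.1 0 v.2.2 (by simp)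
    have := comm_z_Q1 ⟨h2, h4⟩ hx
    rw [c w ⟨h2, h4⟩, show pV w = v by simp [pV, h1, h3, h5]] at this
    exact this.symm
  have k : ∀ s : K, s - star s = 0 → star t * s - star s * t = 0 → s = 0 := fun s h1 h2 =>
    (mul_eq_zero.1 (show (star t - t) * s = 0 by linear_combination h2 - t * h1)).resolve_left (sub_ne_zero.2 ht)
  have xZ : x ∈ Z K := (pV_eq_zero hx).1 (Prod.ext
    (k _ (by simpa [fm] using z (0, 0, 1)) (by simpa [fm] using z (0, 0, t))) (Prod.ext
    (k _ (by simpa [fm] using z (0, 1, 0)) (by simpa [fm] using z (0, t, 0)))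
    (k _ (by simpa [fm] using z (1, 0, 0)) (by simpa [fm] using z (t, 0, 0)))))
  have := congrArg α (comm_Z (α⁻¹ (xa 1)) xZ)
  rw [map_commutatorElement, e, map_one, MulAut.apply_inv_self] at this
  exact y0 (by simpa [xa, xy] using congrArg U.d this)

theorem keeps (ess : ESS K p) (hF : F.IsSaturated p) (e1 : F.IsEssential p (Q1 K)) (e2 : F.IsEssential p (Q2 K))
    {α : MulAut (U K)} (hα : α ∈ aut0 F) : (∀ x, α x ∈ Q1 K ↔ x ∈ Q1 K) ∧ ∀ x, α x ∈ Q2 K ↔ x ∈ Q2 K := by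
  have top : ∀ {β : MulAut (U K)}, img β ⊤ = ⊤ := fun {β} => top_le_iff.1 fun y _ =>
    β.apply_symm_apply y ▸ mem_img_of_mem β (mem_top _)
  have h1 : ∀ {β}, β ∈ aut0 F → ∀ x, β x ∈ Q1 K ↔ x ∈ Q1 K := fun hβ => mem_iff_of_img hβ
    ((ess F hF _ (ess_img (mem_aut0.1 hβ) top e1)).resolve_right (not_swap hβ))
  refine ⟨h1 hα, mem_iff_of_img hα ((ess F hF _ (ess_img (mem_aut0.1 hα) top e2)).resolve_left fun k => ?_)⟩
  obtain ⟨y, hy⟩ := exists_y (1 : K)
  exact one_ne_zero ((h1 hα _).1 (k.le (mem_img_of_mem α (show xb 1 y hy ∈ Q2 K from rfl)))).1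

theorem std_keeps {A0 : Subgroup (MulAut (U K))} {H : Subgroup (Par K)} (h : Std A0 H) {α : MulAut (U K)} (hα : α ∈ A0) :
    (∀ x, α x ∈ Q1 K ↔ x ∈ Q1 K) ∧ ∀ x, α x ∈ Q2 K ↔ x ∈ Q2 K := by
  obtain ⟨s, k, -, rfl⟩ := (h α).1 hα
  exact ⟨fun x => by rw [MulAut.mul_apply, MulAut.conj_apply, Subgroup.Normal.mem_comm_iff inferInstance, inv_mul_cancel_left, act_Q1],
    fun x => by rw [MulAut.mul_apply, MulAut.conj_apply, Subgroup.Normal.mem_comm_iff inferInstance, inv_mul_cancel_left, act_Q2]⟩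

theorem sub (ess : ESS K p) (rk : RK.{u}) (g1 : GEN1 K) (g2 : GEN2 K) (hF : F.IsSaturated p) {H : Subgroup (Par K)}
    (hs : Std (aut0 F) H) (hH : ∀ v, hb v ∈ H) (h0 : aut0 F ≤ aut0 F') (k1 : r1 K ∈ F'.autGroup (Q1 K))
    (k2 : r2 K ∈ F'.autGroup (Q2 K)) : F.IsSubsystemOf F' := by
  refine alperin_subsystem ((pg p).to_subgroup _) hF fun A a hA ha hi => ?_
  rcases hA with rfl | hA
  · obtain ⟨α, hα, e⟩ := all_top ha hi
    exact (mem_aut0.1 (h0 hα)).congr fun x _ => e x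
  · rcases ess F hF A hA with rfl | rfl
    · exact all_mor ((g1 p _ _ H (rk _ p (pg p) F hF _ hA fun α hα => (std_keeps hs hα).1) hs).2.2 _ k1
        fun α hα a r => (Mor.mono (mem_aut0.1 (h0 hα)) le_top).mem_autGroup r) ha hi
    · exact all_mor (((g2 p _ _ H (rk _ p (pg p) F hF _ hA fun α hα => (std_keeps hs hα).2) hs).2 hH).2 _ k2
        fun α hα a r => (Mor.mono (mem_aut0.1 (h0 hα)) le_top).mem_autGroup r) ha hi

theorem one_or_both (ess : ESS K p) (hF : F.IsSaturated p) :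
    F.IsRealizable p ∨ (F.IsEssential p (Q1 K) ∧ F.IsEssential p (Q2 K)) := by
  by_cases k : F.IsEssential p (Q1 K) ∧ F.IsEssential p (Q2 K)
  · exact .inr k
  refine .inl (one_ess (pg p) hF fun E E' hE hE' => ?_)
  rcases ess F hF E hE with rfl | rfl <;> rcases ess F hF E' hE' with rfl | rfl
  exacts [rfl, (k ⟨hE, hE'⟩).elim, (k ⟨hE', hE⟩).elim, rfl]

theorem real_std (ess : ESS K p) (rk : RK.{u}) (g1 : GEN1 K) (g2 : GEN2 K) (re : REAL K) (hF : F.IsSaturated p)
    {H : Subgroup (Par K)} (hp : ¬ p ∣ Nat.card H) (hs : Std (aut0 F) H) : F.IsRealizable p := by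
  rcases one_or_both ess hF with k | ⟨e1, e2⟩
  · exact k
  obtain ⟨b1, b2, -⟩ := g1 p _ _ H (rk _ p (pg p) F hF _ e1 fun α hα => (std_keeps hs hα).1) hs
  obtain ⟨a1, a2⟩ := g2 p _ _ H (rk _ p (pg p) F hF _ e2 fun α hα => (std_keeps hs hα).2) hs
  obtain ⟨G, _, _, ι, hι, ho, hG, ⟨u1, hu1⟩, u2, hu2⟩ := re p H hp a1 b1
  obtain ⟨F', sat, hR, hM⟩ := all_real (pg p) ι hι ho
  have h0 : aut0 F = aut0 F' := Subgroup.ext fun α => by
    rw [hs, ← hG, mem_aut0, hM]
    exact exists_congr fun g => ⟨fun h x _ => h x, fun h x => h x trivial⟩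
  have k1 : r1 K ∈ F'.autGroup (Q1 K) := (mem_autGroup_iff le_top).2 ((hM _ _).2 ⟨u1, fun x hx => by
    rw [autFun_apply _ hx, hu1]⟩)
  have k2 : r2 K ∈ F'.autGroup (Q2 K) := (mem_autGroup_iff le_top).2 ((hM _ _).2 ⟨u2, fun x hx => by
    rw [autFun_apply _ hx, hu2]⟩)
  rw [fusionSystem_le_antisymm (E := F) (F := F') (sub ess rk g1 g2 hF hs b1 h0.le k1 k2)
    (sub ess rk g1 g2 sat (h0 ▸ hs) b1 h0.ge b2 (a2 b1).1)]
  exact hR

theorem real0 (ess : ESS K p) (rk : RK.{u}) (au : AU2 K) (g1 : GEN1 K) (g2 : GEN2 K) (re : REAL K)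
    (hF : F.IsSaturated p) : F.IsRealizable p := by
  rcases one_or_both ess hF with k | ⟨e1, e2⟩
  · exact k
  obtain ⟨β, H, hp, hs⟩ := au p (aut0 F) (fun s => mor_conj F le_rfl trivial) (not_dvd (pg p) hF)
    fun α hα => keeps ess hF e1 e2 hα
  have gi : GIso (⊤ : Subgroup (U K)) ⊤ β β.symm := ⟨fun a _ b _ => β.map_mul a b, fun _ _ => trivial,
    fun _ _ => trivial, fun a _ => β.symm_apply_apply a, fun a _ => β.apply_symm_apply a⟩
  have i := gi.fIso_transport F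
  refine i.symm.isRealizable (real_std ess rk g1 g2 re (i.isSaturated hF) hp ?_)
  have top : ∀ {γ : MulAut (U K)}, img γ ⊤ = ⊤ := fun {γ} => top_le_iff.1 fun y _ =>
    γ.apply_symm_apply y ▸ mem_img_of_mem γ (mem_top _)
  convert hs using 1
  ext α
  rw [Subgroup.mem_map_equiv, mem_aut0, mem_aut0]
  refine ⟨fun h => ?_, fun h => ?_⟩
  · have := i.mor' _ _ h
    rw [top (γ := β.symm)] at this
    exact this.congr fun x _ => rfl
  · have := i.mor _ _ h
    rw [top] at this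
    exact this.congr fun x _ => by simp

end Topx

open Topx

theorem top {Ω : Type*} [Group Ω] {S : Subgroup Ω} [Finite S] (p : ℕ) [Fact p.Prime] (F : FusionSystem S)
    (hF : F.IsSaturated p) {K : Type u} [Field K] [StarRing K] [UF K] [CharP K p] (cri : CRI.{u}) (rk : RK.{u})
    (h1 : ESA K) (h2 : ESB K) (h3 : ESC1 K) (h4 : ESC2 K) (h5 : ESC3 K) (h6 : ESD1 K) (h7 : ESD2 K) (h8 : ESD3 K)
    (au : AU2 K) (g1 : GEN1 K) (g2 : GEN2 K) (re : REAL K) (sy : SYL K) (T : Sylow p (Cfsg.PSU 5 K (UF.q K)))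
    (e : ↥S ≃* ↥(T : Subgroup (Cfsg.PSU 5 K (UF.q K)))) : F.IsRealizable p := by
  obtain ⟨φ⟩ := sy p T
  have i := (gIso_of_mulEquiv ((e.trans φ).trans Subgroup.topEquiv.symm)).fIso_transport F
  refine i.symm.isRealizable (real0 (fun F hF E hE => ?_) rk au g1 g2 re (i.isSaturated hF))
  obtain ⟨B, hB⟩ := cri _ p (pg p) F hF E hE
  exact ess h1 h2 h3 h4 h5 h6 h7 h8 hB

end CL.U5
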