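/-
Project U5: the linear group on `Q1 / Z`.
-/
import Cfsg.Agent.U5.Defs2

set_option autoImplicit false
set_option linter.unusedSectionVars false

namespace CL.U5

open Cfsg CL.Fus

universe u

namespace Lin1x

variable {K : Type u} [Field K] [StarRing K]

def φ (a b c : K) : Au (V3 K) :=
  mkAu (fun v => (v.1, v.2.1 + a * star v.1, v.2.2 + b * v.1 + c * star v.1 + a * star v.2.1))
    (fun v => (v.1, v.2.1 - a * star v.1, v.2.2 - b * v.1 - c * star v.1 - a * star (v.2.1 - a * star v.1)))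
    (fun v w => by ext <;> simp <;> ring) (fun v => by ext <;> simp <;> ring) (fun v => by ext <;> simp <;> ring)

theorem φ_apply (a b c : K) (v : V3 K) :
    φ a b c v = (v.1, v.2.1 + a * star v.1, v.2.2 + b * v.1 + c * star v.1 + a * star v.2.1) := rfl

theorem fm_φ {a b : K} (h : b + star b = a * star a) (c : K) (u v : V3 K) : fm (φ a b c u) (φ a b c v) = fm u v := by
  simp only [fm, φ_apply, star_add, star_mul', star_star]
  linear_combination (star u.1 * v.1 - star v.1 * u.1) * h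

theorem φ_comm {a : K} (h : 2 * a = 0) (b c : K) {t : Au (V3 K)} (ht : t ∈ TM K) : φ a b c * t * (φ a b c)⁻¹ = t := by
  obtain ⟨al, be, -, rfl⟩ := ht
  refine mul_inv_eq_iff_eq_mul.2 (au_ext fun v => ?_)
  ext <;> simp only [au_mul, φ_apply, Mt_apply, star_sub, star_mul']
  · ring
  · linear_combination -(star al * star v.1) * h

/-- fixes the line pointwise -/
def Fx (g : Au (V3 K)) : Prop := ∀ d, g (0, 0, d) = (0, 0, d)

theorem fx_φ (a b c : K) : Fx (φ a b c) := fun d => by simp [φ_apply]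

theorem Fx.inv {g : Au (V3 K)} (h : Fx g) : Fx g⁻¹ := fun d => by
  nth_rewrite 1 [← h d]
  exact au_inv_apply _ _

theorem Fx.pl {g k : Au (V3 K)} (h : Fx g) (hk : PL k) : PL (g * k * g⁻¹) := fun d => by
  have : k (0, 0, d) = (0, 0, (k (0, 0, d)).2.2) := Prod.ext (hk d).1 (Prod.ext (hk d).2 rfl)
  rw [au_mul, au_mul, h.inv, this, h]
  exact ⟨rfl, rfl⟩

theorem Fx.pl' {g k : Au (V3 K)} (h : Fx g) (hk : PL (g * k * g⁻¹)) : PL k := by
  simpa [mul_assoc] using h.inv.pl hk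

theorem nf_map {g ψ : Au (V3 K)} {a b c a' b' c' : K} (h : NF g a b c) (σ : K → K) (hσ : Function.Surjective σ)
    (e : ∀ x, ψ (x, a * star x, b * x + c * star x) = (σ x, a' * star (σ x), b' * σ x + c' * star (σ x))) :
    NF (ψ * g) a' b' c' :=
  ⟨fun d => let ⟨x, k⟩ := h.1 d; ⟨σ x, by rw [au_mul, k, e]⟩, fun y => by
    obtain ⟨x, rfl⟩ := hσ y
    obtain ⟨d, k⟩ := h.2 x
    exact ⟨d, by rw [au_mul, k, e]⟩⟩

theorem nf_inv {g : Au (V3 K)} {a b c : K} (h : NF g a b c) : NF ((φ a b c)⁻¹ * g) 0 0 0 :=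
  nf_map h id Function.surjective_id fun x => by
    rw [show (x, a * star x, b * x + c * star x) = φ a b c (x, 0, 0) by simp [φ_apply], au_inv_apply]
    simp

theorem nf_fx {g k : Au (V3 K)} {a b c : K} (h : NF g a b c) (hk : Fx k) : NF (g * k) a b c :=
  ⟨fun d => by rw [au_mul, hk]; exact h.1 d, fun x => let ⟨d, e⟩ := h.2 x; ⟨d, by rw [au_mul, hk, e]⟩⟩

theorem h1' {L : Subgroup (Au (V3 K))} (h : H1 L) {a b : K} (tr : b + star b = a * star a) (h2 : 2 * a = 0) (c : K) :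
    H1 (L.comap (MulAut.conj (φ a b c)).toMonoidHom) := by
  refine ⟨fun t ht => ?_, fun g hg => ?_, fun g hg t ht t1 k => ?_⟩
  · change φ a b c * t * (φ a b c)⁻¹ ∈ L
    rw [φ_comm h2 b c ht]
    exact h.T ht
  · obtain ⟨ζ, e⟩ := h.conf _ hg
    refine ⟨ζ, fun u v => ?_⟩
    have := e (φ a b c u) (φ a b c v)
    change fm ((φ a b c * g * (φ a b c)⁻¹) _) ((φ a b c * g * (φ a b c)⁻¹) _) = _ at this
    rwa [au_mul, au_mul, au_mul, au_mul, au_inv_apply, au_inv_apply, fm_φ tr, fm_φ tr] at this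
  · refine (fx_φ a b c).pl' (h.sr _ hg t ht t1 ?_)
    convert (fx_φ a b c).pl k using 1
    nth_rewrite 1 [← φ_comm h2 b c ht]
    group

theorem nf_act [UF K] {g : Au (V3 K)} {a b c : K} (h : NF g a b c) (v : Kˣ) :
    NF (actV (hb v) * g) (v * a) (v * star (v : K) * b) (star (v : K) ^ 2 * c) :=
  nf_map h (fun x => (v : K)⁻¹ * x) (fun y => ⟨v * y, by simp⟩) fun x => by
    have := v.ne_zero
    have : star (v : K) ≠ 0 := star_ne_zero.2 this
    rw [actV_apply, hb_l, hb_m]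
    ext <;> simp only [hb_γ, star_mul', star_inv₀, star_pow, star_star] <;> field_simp

end Lin1x

open Lin1x in
theorem lin1 {K : Type u} [Field K] [StarRing K] [UF K] (hA : L1A K) (hB : L1B K) (hC : L1C K) (hS : SU3 K) :
    LIN1 K := by
  rintro L h ⟨g0, hg0, n0⟩ hP
  obtain ⟨t0, ht0, a, b, c, tr, nf⟩ := hA L h g0 hg0 n0
  have m1 := mul_mem (h.T ht0) hg0
  have h2 := (hB L h _ m1 _ m1 _ _ _ _ _ _ tr tr nf nf).2.2
  have di : ∀ g ∈ L, PL g ∨ ∃ t ∈ TM K, NF (t * g) a b c := fun g hg => or_iff_not_imp_left.2 fun n => by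
    obtain ⟨t, ht, a', b', c', tr', nf'⟩ := hA L h g hg n
    obtain ⟨rfl, rfl, -⟩ := hB L h _ m1 _ (mul_mem (h.T ht) hg) _ _ _ _ _ _ tr tr' nf nf'
    refine ⟨Mt 0 (star (b - b')) * t, mul_mem ⟨_, _, ?_, rfl⟩ ht, ?_⟩
    · rw [star_star, star_sub]; linear_combination tr - tr'
    · rw [mul_assoc]
      exact nf_map nf' id Function.surjective_id fun x => by ext <;> simp [Mt_apply]; ring
  have h' := h1' h tr h2 c
  obtain ⟨r, hv⟩ := hS _ h'.T (hC _ h' ⟨(φ a b c)⁻¹ * (t0 * g0) * φ a b c, by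
      change φ a b c * _ * (φ a b c)⁻¹ ∈ L
      simpa [mul_assoc] using m1, nf_fx (nf_inv nf) (fx_φ a b c)⟩ fun g hg =>
    (di _ hg).imp (fx_φ a b c).pl' fun ⟨t, ht, k⟩ => ⟨t, ht, by
      convert nf_fx (nf_inv k) (fx_φ a b c) using 1
      change _ = (φ a b c)⁻¹ * (t * (φ a b c * g * (φ a b c)⁻¹)) * φ a b c
      nth_rewrite 2 [← φ_comm h2 b c ht]
      group⟩)
  have hv' : ∀ v, actV (hb v) ∈ L := fun v => by
    obtain ⟨_, ⟨al, be, -, rfl⟩, k, hk, e⟩ := hP _ (hv v) ((fx_φ a b c).pl fun d => by simp [actV_apply])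
    have e' : φ a b c * actV (hb v) = Mt al be * actV k * φ a b c := mul_inv_eq_iff_eq_mul.1 e
    convert hk using 1
    refine au_ext fun w => ?_
    have e1 := congrArg (fun g : Au (V3 K) => (g (w.1, 0, 0)).1) e'
    have e2 := congrArg (fun g : Au (V3 K) => (g (0, w.2.1, 0)).2.1) e'
    have e3 := congrArg (fun g : Au (V3 K) => (g (0, 0, w.2.2)).2.2) e'
    simp only [au_mul, φ_apply, Mt_apply, actV_apply, map_zero, mul_zero, star_zero, add_zero, sub_zero] at e1 e2 e3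
    exact Prod.ext e1 (Prod.ext e2 e3)
  obtain ⟨v, hv0⟩ := exists_ne K
  have v0 : v ≠ 0 := by rintro rfl; exact hv0 (star_zero K)
  obtain ⟨ea, ec, -⟩ := hB L h _ m1 _ (mul_mem (hv' (Units.mk0 v v0)) m1) _ _ _ _ _ _ tr
    (by simp only [star_mul', star_star, Units.val_mk0]; linear_combination (v * star v) * tr) nf (nf_act nf _)
  rw [Units.val_mk0] at ea ec
  obtain rfl : a = 0 := by
    by_contra n
    exact hv0 (by rw [(mul_eq_right₀ n).1 ea.symm, star_one])
  obtain rfl : c = 0 := by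
    by_contra n
    rcases sq_eq_one_iff.1 ((mul_eq_right₀ n).1 ec.symm) with e | e
    all_goals exact hv0 (by rw [← star_star v, e]; simp)
  have mT : φ 0 b 0 ∈ TM K := ⟨0, star b, by rw [star_star]; linear_combination tr, au_ext fun w => by
    simp [Mt_apply, φ_apply]⟩
  refine ⟨?_, hv', fun g hg => (di g hg).imp_right fun ⟨t, ht, k⟩ => ⟨_, mul_mem (inv_mem mT) ht, fun d => ?_⟩⟩
  · exact (mul_mem_cancel_left (h.T mT)).1 ((mul_mem_cancel_right (inv_mem (h.T mT))).1 r)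
  · obtain ⟨x, e⟩ := (nf_inv k).1 d
    rw [mul_assoc, mul_assoc, au_mul, e, rV_apply]
    simp

end CL.U5
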